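import Groth.Agent.DeRhamSh.K854.SecNbhd
import Groth.Agent.DeRhamSh.K184.GraphCv

/-!
# The local statement from the vanishing of the classes of generalized fractions
-/

set_option autoImplicit false
universe u

open CategoryTheory CategoryTheory.Limits AlgebraicGeometry Opposite TopologicalSpace

namespace K854.LocAsm

open K854.SecNbhd Groth.Agent.LoccohB.GlueHom
open Groth.Agent
open Groth.Agent.CurvesB.OmegaStalkDict (secHom)
open Groth.Agent.Ega2.BasSec (IsBas)
open K644.Kap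

/-- The data around a section: `V` affine with étale coordinates `x`, `W ≤ V` affine with the ideal of the section
generated by `z_i = x_i - σ(x_i)`. -/
structure Nb {A : Type u} [CommRing A] {X : Scheme.{u}} (f : X ⟶ Spec (CommRingCat.of A)) [QuasiSeparated f]
    (s : Spec (CommRingCat.of A) ⟶ X) (n : ℕ) where
  V : X.Opens
  hV : IsAffineOpen V
  hsV : ⊤ ≤ s ⁻¹ᵁ V
  x : Fin n → Γ(X, V)
  hx : K853.EtCoord.IsCoord f V x
  W : X.Opens
  hW : IsAffineOpen W
  hWV : W ≤ V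
  hsW : ⊤ ≤ s ⁻¹ᵁ W
  hz : IsBas (M := Omega.sheaf f) (fun i => (OmegaSh.dOmega f).app W (resO hWV (zc f s V hsV x i)))
  hR : ∀ r : Γ(X, W), r - secHom f W (ev s W hsW r) ∈ Ideal.span (Set.range fun i => resO hWV (zc f s V hsV x i))

namespace Nb

variable {A : Type u} [CommRing A] {X : Scheme.{u}} {f : X ⟶ Spec (CommRingCat.of A)}
  {s : Spec (CommRingCat.of A) ⟶ X} {n : ℕ}

/-- The coordinates vanishing along the section. -/
noncomputable abbrev z [QuasiSeparated f] (N : Nb f s n) (i : Fin n) : Γ(X, N.W) := resO N.hWV (zc f s N.V N.hsV N.x i)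

variable [IsSeparated f] (N : Nb f s n) (hs : s ≫ f = 𝟙 _)

include hs

theorem appLE_z (i : Fin n) : s.appLE N.W ⊤ N.hsW (N.z i) = 0 := by
  refine appLE_eq_zero N.hsW ?_
  refine (ev_res s N.hsW N.hWV _).trans ?_
  exact ev_zc hs N.V N.hsV N.x i

theorem exists_mem (p : X) (hp : p ∈ N.W) (hps : p ∉ Set.range s) : ∃ i, p ∈ X.basicOpen (N.z i) :=
  exists_mem_basicOpen hs N.hW N.hsW N.z N.hR hp hps

/-- The datum of generalized fractions. -/
noncomputable def cv : Cv X.toTopCat :=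
  K184.GraphCv.cv s (isClosed_range hs) N.hsW N.z (N.appLE_z hs) (N.exists_mem hs)

theorem cv_l : (N.cv hs).l = List.ofFn fun i => X.basicOpen (N.z i) := rfl

end Nb

/-- Neighbourhoods of sections. -/
theorem nonempty_nb {A : Type u} [CommRing A] [IsLocalRing A] {X : Scheme.{u}} (f : X ⟶ Spec (CommRingCat.of A))
    [QuasiSeparated f] (n : ℕ) [SmoothOfRelativeDimension n f] (s : Spec (CommRingCat.of A) ⟶ X) (hs : s ≫ f = 𝟙 _) :
    Nonempty (Nb f s n) := by
  have : Smooth f := SmoothOfRelativeDimension.smooth n f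
  obtain ⟨V, hV, hp, -, x, hx⟩ := K853.EtCoord.exists_coord f n (s (IsLocalRing.closedPoint A)) ⊤ trivial
  have hsV : ⊤ ≤ s ⁻¹ᵁ V := by
    intro t _
    have h1 : t ⤳ IsLocalRing.closedPoint A := IsLocalRing.specializes_closedPoint t
    exact (h1.map s.continuous).mem_open V.isOpen hp
  obtain ⟨W, hW, hWV, hsW, hz, hR⟩ := exists_nbhd hs hV hsV hx
  exact ⟨⟨V, hV, hsV, x, hx, W, hW, hWV, hsW, hz, hR⟩⟩

/-- **The vanishing of the classes.** -/
def VAN (e : ℕ) : Prop :=
  ∀ (A : Type u) [CommRing A] [IsArtinianRing A] [IsLocalRing A] [IsAlgClosed (IsLocalRing.ResidueField A)]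
    (X : Scheme.{u}) (f : X ⟶ Spec (CommRingCat.of A)) [IsProper f] [SmoothOfRelativeDimension (e + 1) f]
    [ConnectedSpace X] (s : Spec (CommRingCat.of A) ⟶ X) (hs : s ≫ f = 𝟙 _) (D : DeRhamSh.OmegaCx f)
    (N : Nb f s (e + 1)) (m : Fin (e + 1) → ℕ) (_ : m ≠ 0)
    (v : Fin (e + 1) → Γ(X, dd (N.cv hs).O (N.cv hs).l))
    (_ : ∀ i, resO (dd_le (N.cv hs).O (N.cv hs).l) (N.z i) * v i = 1),
    hc (N.cv hs) (e + 1) (FracTop.length_eq (N.cv hs) N.z (N.cv_l hs)) (F := Coh.toAb (D.term (e + 1)))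
      ((∏ k, v k ^ (m k + 1)) • FracForm.wt f D ⟨dd (N.cv hs).O (N.cv hs).l,
        FracTop.affine_dd (N.cv hs) N.hW N.z (N.cv_l hs)⟩ (fun i => resO (dd_le (N.cv hs).O (N.cv hs).l) (N.z i))) = 0

/-- **The local statement.** -/
theorem loc_of_van (e : ℕ) (h : VAN.{u} e) : K205.Loc.LOC.{u} e := by
  intro A _ _ _ _ X f _ _ _ s hs D x
  have : Smooth f := SmoothOfRelativeDimension.smooth (e + 1) f
  obtain ⟨N⟩ := nonempty_nb f (e + 1) s hs
  refine FracTop.main D (N.cv hs) N.hW N.z (N.cv_l hs) N.hz (fun r => ⟨_, N.hR r⟩) ?_ ?_ x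
  · have : Nonempty (Spec (CommRingCat.of A)) := ⟨IsLocalRing.closedPoint A⟩
    exact K184.GraphCv.hc_surjective s (isClosed_range hs) N.hsW N.z (N.appLE_z hs) (N.exists_mem hs) f e N.hW rfl
      (D.term e) (K853.Terms.isQCoh_term D e)
  · intro m hm v hv
    exact h A X f s hs D N m hm v hv

end K854.LocAsm
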