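import Groth.Agent.DeRhamSh.K854.FracAlg
import Groth.Agent.DeRhamSh.K205.Leib
import Groth.Agent.Ega2.BasSec
import Groth.Agent.LoccohB.GlueHom

/-!
# Forms of degree `e` and `e + 1` in coordinates, and generalized fractions

`X → Spec A`, `z_0, …, z_e` sections over an affine open `W` with `dz_i` a basis.
-/

set_option autoImplicit false
universe u

open CategoryTheory CategoryTheory.Limits AlgebraicGeometry Opposite TopologicalSpace exteriorPower

namespace K854.FracForm

section Abs

variable {R M : Type*} [CommRing R] [AddCommGroup M] [Module R M] {e : ℕ}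

/-- The forms missing one element of the basis. -/
def wi (v : Fin (e + 1) → M) (i : Fin (e + 1)) : ⋀[R]^e M := ιMulti R e (fun j => v (i.succAbove j))

omit [AddCommGroup M] in
theorem cons_eq (v : Fin (e + 1) → M) (i : Fin (e + 1)) :
    (Fin.cons (v i) (fun j => v (i.succAbove j)) : Fin (e + 1) → M) = v ∘ i.cycleRange.symm := by
  funext j
  refine Fin.cases ?_ (fun j => ?_) j
  · simp
  · simp

/-- `v_i ∧ wi v i = (-1)^i v_0 ∧ … ∧ v_e`. -/
theorem ιMulti_cons_self (v : Fin (e + 1) → M) (i : Fin (e + 1)) :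
    ιMulti R (e + 1) (Fin.cons (v i) (fun j => v (i.succAbove j))) = (-1 : ℤ) ^ (i : ℕ) • ιMulti R (e + 1) v := by
  rw [cons_eq, AlternatingMap.map_perm, Equiv.Perm.sign_symm, Fin.sign_cycleRange]
  rw [Units.smul_def]
  push_cast
  rfl

theorem ιMulti_cons_ne (v : Fin (e + 1) → M) {i k : Fin (e + 1)} (h : k ≠ i) :
    ιMulti R (e + 1) (Fin.cons (v k) (fun j => v (i.succAbove j))) = 0 := by
  obtain ⟨j, hj⟩ := Fin.exists_succAbove_eq h
  refine (ιMulti R (e + 1)).map_eq_zero_of_eq _ (i := 0) (j := j.succ) ?_ (Fin.succ_ne_zero j).symm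
  simp [hj]

theorem ιMulti_cons_sum (v : Fin (e + 1) → M) (c : Fin (e + 1) → R) (i : Fin (e + 1)) :
    ιMulti R (e + 1) (Fin.cons (∑ k, c k • v k) (fun j => v (i.succAbove j))) =
      (-1 : ℤ) ^ (i : ℕ) • (c i • ιMulti R (e + 1) v) := by
  let L : M →ₗ[R] ⋀[R]^(e + 1) M :=
    { toFun := fun m => ιMulti R (e + 1) (Fin.cons m (fun j => v (i.succAbove j)))
      map_add' := fun a b => by
        have h := (ιMulti R (e + 1)).map_update_add (Fin.cons 0 (fun j => v (i.succAbove j)) : Fin (e + 1) → M) 0 a b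
        simpa using h
      map_smul' := fun r a => by
        have h := (ιMulti R (e + 1)).map_update_smul (Fin.cons 0 (fun j => v (i.succAbove j)) : Fin (e + 1) → M) 0 r a
        simpa using h }
  change L (∑ k, c k • v k) = _
  rw [map_sum, Finset.sum_eq_single i]
  · rw [map_smul]
    change c i • ιMulti R (e + 1) (Fin.cons (v i) (fun j => v (i.succAbove j))) = _
    rw [ιMulti_cons_self, smul_comm]
  · intro k _ hk
    rw [map_smul]
    change c k • ιMulti R (e + 1) (Fin.cons (v k) (fun j => v (i.succAbove j))) = _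
    rw [ιMulti_cons_ne v hk, smul_zero]
  · intro h
    exact absurd (Finset.mem_univ i) h

/-- Replacing one vector: `v_0 ∧ … ∧ m ∧ … ∧ v_e = c • v_0 ∧ … ∧ v_e` if `m - c v_i` is a combination of the others. -/
theorem ιMulti_update (v : Fin (e + 1) → M) (i : Fin (e + 1)) (m : M) (c : R)
    (h : m - c • v i ∈ Submodule.span R (v '' {k | k ≠ i})) :
    ιMulti R (e + 1) (Function.update v i m) = c • ιMulti R (e + 1) v := by
  have hs : ∀ w ∈ Submodule.span R (v '' {k | k ≠ i}), ιMulti R (e + 1) (Function.update v i w) = 0 := by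
    intro w hw
    induction hw using Submodule.span_induction with
    | mem w hw =>
      obtain ⟨k, hk, rfl⟩ := hw
      refine (ιMulti R (e + 1)).map_eq_zero_of_eq _ (i := i) (j := k) ?_ (Ne.symm hk)
      rw [Function.update_self, Function.update_of_ne hk]
    | zero => rw [AlternatingMap.map_update_zero]
    | add a b _ _ ha hb => rw [AlternatingMap.map_update_add, ha, hb, add_zero]
    | smul r a _ ha => rw [AlternatingMap.map_update_smul, ha, smul_zero]
  have h1 : m = (m - c • v i) + c • v i := by abel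
  rw [h1, AlternatingMap.map_update_add, hs _ h, zero_add, AlternatingMap.map_update_smul, Function.update_eq_self]

theorem mem_span_wi (v : Fin (e + 1) → M) (hv : Submodule.span R (Set.range v) = ⊤) (s : ⋀[R]^e M) :
    s ∈ Submodule.span R (Set.range (wi (R := R) v)) := by
  have h1 := exteriorPower.ιMulti_span_of_span R e M hv
  have h2 : s ∈ (⊤ : Submodule R (⋀[R]^e M)) := trivial
  rw [← h1] at h2
  refine (Submodule.span_le.mpr ?_) h2
  rintro _ ⟨a, ha, rfl⟩
  have ha' : ∀ j, ∃ k, v k = a j := fun j => ha ⟨j, rfl⟩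
  choose φ hφ using ha'
  obtain rfl : v ∘ φ = a := funext hφ
  by_cases hinj : Function.Injective φ
  · have hns : ¬ Function.Surjective φ := by
      intro hs
      have := Fintype.card_of_bijective ⟨hinj, hs⟩
      simp at this
    obtain ⟨i, hi⟩ : ∃ i, ∀ j, φ j ≠ i := by
      rw [Function.Surjective] at hns
      push Not at hns
      exact hns
    choose τ hτ using fun j => Fin.exists_succAbove_eq (hi j)
    have hτi : Function.Injective τ := fun j j' h => hinj (by rw [← hτ j, ← hτ j', h])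
    let T : Equiv.Perm (Fin e) := Equiv.ofBijective τ (Finite.injective_iff_bijective.mp hτi)
    have h3 : v ∘ φ = (fun j => v (i.succAbove j)) ∘ T := by
      funext j
      exact (congrArg v (hτ j)).symm
    rw [h3, AlternatingMap.map_perm]
    change _ ∈ Submodule.span R _
    rw [Units.smul_def]
    exact zsmul_mem (Submodule.subset_span (Set.mem_range_self (f := wi (R := R) v) i)) _
  · rw [Function.Injective] at hinj
    push Not at hinj
    obtain ⟨j, j', h, hne⟩ := hinj
    rw [(ιMulti R e).map_eq_zero_of_eq (v ∘ φ) (i := j) (j := j') (congrArg v h) hne]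
    exact zero_mem _

/-- The coordinates of a derivation in a basis. -/
noncomputable def coordDer {A : Type*} [CommRing A] [Algebra A R] (δ : Derivation ℤ R M)
    (hδ : ∀ a : A, δ (algebraMap A R a) = 0) (b : Module.Basis (Fin (e + 1)) R M) (i : Fin (e + 1)) :
    Derivation A R R :=
  Derivation.mk'
    { toFun := fun s => b.repr (δ s) i
      map_add' := fun s t => by rw [map_add, map_add, Finsupp.add_apply]
      map_smul' := fun a s => by
        have h1 : δ (a • s) = algebraMap A R a • δ s := by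
          rw [Algebra.smul_def a s, Derivation.leibniz, hδ, smul_zero, add_zero]
        rw [h1, map_smul, Finsupp.smul_apply, RingHom.id_apply, Algebra.smul_def a, smul_eq_mul] }
    (fun s t => by
      change b.repr (δ (s * t)) i = s • b.repr (δ t) i + t • b.repr (δ s) i
      rw [Derivation.leibniz, map_add, Finsupp.add_apply, map_smul, map_smul, Finsupp.smul_apply, Finsupp.smul_apply])

theorem coordDer_apply {A : Type*} [CommRing A] [Algebra A R] (δ : Derivation ℤ R M)
    (hδ : ∀ a : A, δ (algebraMap A R a) = 0) (b : Module.Basis (Fin (e + 1)) R M) (i : Fin (e + 1)) (s : R) :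
    coordDer δ hδ b i s = b.repr (δ s) i := rfl

end Abs

section Geo

variable {A : Type u} [CommRing A] {X : Scheme.{u}} (f : X ⟶ Spec (CommRingCat.of A)) [QuasiSeparated f]
  (D : DeRhamSh.OmegaCx f) {e : ℕ}

open Groth.Agent Groth.Agent.LoccohB.GlueHom

/-- The section `dy_0 ∧ … ∧ dy_e`. -/
noncomputable def wt (V : X.affineOpens) (y : Fin (e + 1) → Γ(X, V.1)) : Γ(D.term (e + 1), V.1) :=
  (D.loc (e + 1) V).symm (ιMulti _ (e + 1) (fun i => (OmegaSh.dOmega f).app V.1 (y i)))

theorem dOmega_res {V W : X.Opens} (h : V ≤ W) (s : Γ(X, W)) :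
    res (Omega.sheaf f) h ((OmegaSh.dOmega f).app W s) = (OmegaSh.dOmega f).app V (resO h s) := by
  rw [K853.OmegaBridge.dOmega_app_eq, K853.OmegaBridge.dOmega_app_eq]
  exact CurvesB.OmegaDer.d_res f h s

theorem wt_res {V W : X.affineOpens} (h : V.1 ≤ W.1) (y : Fin (e + 1) → Γ(X, W.1)) :
    res (D.term (e + 1)) h (wt f D W y) = wt f D V (fun i => resO h (y i)) := by
  have h1 := D.loc_res (e + 1) W V h (fun i => (OmegaSh.dOmega f).app W.1 (y i))
  refine h1.trans ?_
  unfold wt
  congr 2
  funext i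
  exact dOmega_res f h (y i)

open Groth.Agent.CurvesB.OmegaStalkDict (secHom)

omit [QuasiSeparated f] in
theorem resO_sc {V W : X.Opens} (h : V ≤ W) (a : A) : resO h (secHom f W a) = secHom f V a :=
  Groth.Agent.CurvesB.OmegaStalkDict.res_secHom f h a

theorem wt_update (V : X.affineOpens) (x : Fin (e + 1) → Γ(X, V.1)) (i : Fin (e + 1)) (y c : Γ(X, V.1))
    (h : (OmegaSh.dOmega f).app V.1 y - c • (OmegaSh.dOmega f).app V.1 (x i) ∈
      Submodule.span Γ(X, V.1) ((fun k => (OmegaSh.dOmega f).app V.1 (x k)) '' {k | k ≠ i})) :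
    wt f D V (Function.update x i y) = c • wt f D V x := by
  unfold wt
  have h1 : (fun k => (OmegaSh.dOmega f).app V.1 (Function.update x i y k)) =
      Function.update (fun k => (OmegaSh.dOmega f).app V.1 (x k)) i ((OmegaSh.dOmega f).app V.1 y) := by
    funext k
    rcases eq_or_ne k i with rfl | hk
    · simp
    · simp [hk]
  rw [h1, ιMulti_update _ i _ c h, map_smul]

theorem dOmega_sc (V : X.Opens) (a : A) : (OmegaSh.dOmega f).app V (secHom f V a) = 0 := by
  have : QuasiCompact (pullback.diagonal f) := inferInstance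
  rw [K853.OmegaBridge.dOmega_app_eq, CurvesB.OmegaStalkDict.d_secHom]

open Groth.Agent.Ega2.BasSec (IsBas comb comb_bijective_iff)

/-- the basis of differentials on a smaller open -/
theorem exists_basis {W : X.Opens} {z : Fin (e + 1) → Γ(X, W)}
    (hz : IsBas (M := Omega.sheaf f) (fun i => (OmegaSh.dOmega f).app W (z i))) {V : X.Opens} (h : V ≤ W) :
    ∃ b : Module.Basis (Fin (e + 1)) Γ(X, V) Γ(Omega.sheaf f, V),
      ∀ i, b i = (OmegaSh.dOmega f).app V (resO h (z i)) := by
  obtain ⟨b, hb⟩ := (comb_bijective_iff _).mp (hz V h)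
  exact ⟨b, fun i => (congrFun hb i).trans (dOmega_res f h (z i))⟩

variable {f}

theorem dSec_wi {V : X.affineOpens} {y : Fin (e + 1) → Γ(X, V.1)}
    (b : Module.Basis (Fin (e + 1)) Γ(X, V.1) Γ(Omega.sheaf f, V.1))
    (hb : ∀ i, b i = (OmegaSh.dOmega f).app V.1 (y i)) (i : Fin (e + 1)) (h : Γ(X, V.1)) :
    K853.CxAff.dSec D V.1 e ((D.loc e V).symm (h • wi (R := Γ(X, V.1)) b i)) =
      (-1 : ℤ) ^ (i : ℕ) • (b.repr ((OmegaSh.dOmega f).app V.1 h) i • wt f D V y) := by
  have h1 : wi (R := Γ(X, V.1)) b i = ιMulti _ e (fun j => (OmegaSh.dOmega f).app V.1 (y (i.succAbove j))) := by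
    unfold wi
    congr 1
    funext j
    exact hb _
  rw [h1, K853.CxAff.dSec_rule]
  have h2 : (Fin.cons ((OmegaSh.dOmega f).app V.1 h) (fun j => (OmegaSh.dOmega f).app V.1 (y (i.succAbove j))) :
      Fin (e + 1) → Γ(Omega.sheaf f, V.1)) = Fin.cons (∑ k, b.repr ((OmegaSh.dOmega f).app V.1 h) k • b k)
        (fun j => b (i.succAbove j)) := by
    rw [b.sum_repr]
    funext j
    refine Fin.cases rfl (fun j => ?_) j
    exact (hb _).symm
  rw [h2, ιMulti_cons_sum, map_zsmul, map_smul]
  have h3 : (b : Fin (e + 1) → Γ(Omega.sheaf f, V.1)) = fun i => (OmegaSh.dOmega f).app V.1 (y i) := funext hb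
  rw [h3]
  rfl

/-- **The final step.** `W` affine, `dz_i` a basis of the differentials on `W`, every function on `W` a constant modulo
`(z_0, …, z_e)`, `V = D(z_0 ⋯ z_e) ⊆ V_j = D(∏_{k ≠ j} z_k)`: an additive `A`-linear map on `(e+1)`-forms over `V` which
kills the forms extending to some `V_j` and `z^(-c-1) dz_0 ∧ … ∧ dz_e`, `c ≠ 0`, kills the exact forms. -/
theorem main {W V : X.Opens} (hW : IsAffineOpen W) (z : Fin (e + 1) → Γ(X, W))
    (hz : IsBas (M := Omega.sheaf f) (fun i => (OmegaSh.dOmega f).app W (z i)))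
    (hR : ∀ r : Γ(X, W), ∃ a : A, r - secHom f W a ∈ Ideal.span (Set.range z))
    (hV : V = X.basicOpen (∏ i, z i)) (hVa : IsAffineOpen V) (hVW : V ≤ W)
    (Vj : Fin (e + 1) → X.Opens) (hVj : ∀ j, Vj j = X.basicOpen (∏ k ∈ Finset.univ.erase j, z k))
    (hle : ∀ j, V ≤ Vj j)
    {N : Type*} [AddCommGroup N] [Module A N] (Ψ : Γ(D.term (e + 1), V) →+ N)
    (hΨA : ∀ (a : A) (s : Γ(D.term (e + 1), V)), Ψ (secHom f V a • s) = a • Ψ s)
    (hΨj : ∀ (j : Fin (e + 1)) (s : Γ(D.term (e + 1), Vj j)), Ψ (res (D.term (e + 1)) (hle j) s) = 0)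
    (v : Fin (e + 1) → Γ(X, V)) (hv : ∀ i, resO hVW (z i) * v i = 1)
    (hΨc : ∀ c : Fin (e + 1) → ℕ, c ≠ 0 →
      Ψ ((∏ k, v k ^ (c k + 1)) • wt f D ⟨V, hVa⟩ (fun i => resO hVW (z i))) = 0)
    (s : Γ(D.term e, V)) : Ψ (K853.CxAff.dSec D V e s) = 0 := by
  obtain ⟨b, hb⟩ := exists_basis f hz hVW
  obtain ⟨bW, hbW⟩ := exists_basis f hz (le_refl W)
  let iA : Algebra A Γ(X, V) := (secHom f V).toAlgebra
  let iW : Algebra A Γ(X, W) := (secHom f W).toAlgebra
  let iWV : Algebra Γ(X, W) Γ(X, V) := (resO hVW).toAlgebra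
  have iT : IsScalarTower A Γ(X, W) Γ(X, V) := IsScalarTower.of_algebraMap_eq fun a => (resO_sc f hVW a).symm
  have iL : IsLocalization.Away (∏ i, z i) Γ(X, V) := by
    subst hV
    exact hW.isLocalization_of_eq_basicOpen (∏ i, z i) (homOfLE hVW) rfl
  have hδA : ∀ a : A, K205.Leib.derZ f V (algebraMap A Γ(X, V) a) = 0 := fun a => dOmega_sc f V a
  -- the map on functions
  let Φ : Γ(X, V) →+ N := Ψ.comp
    ((AddMonoidHom.mk' (fun r : Γ(X, V) => r • wt f D ⟨V, hVa⟩ (fun i => resO hVW (z i))) fun r r' => add_smul r r' _))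
  have hΦ : ∀ r, Φ r = Ψ (r • wt f D ⟨V, hVa⟩ (fun i => resO hVW (z i))) := fun _ => rfl
  have key : ∀ (i : Fin (e + 1)) (h : Γ(X, V)), Φ (b.repr ((OmegaSh.dOmega f).app V h) i) = 0 := by
    intro i h
    refine FracAlg.main (A := A) (R := Γ(X, W)) (S := Γ(X, V)) z v hR hv i
      (coordDer (K205.Leib.derZ f V) hδA b i) ?_ ?_ Φ ?_ ?_ ?_ h
    · intro r
      refine ⟨bW.repr ((OmegaSh.dOmega f).app W r) i, ?_⟩
      rw [coordDer_apply]
      change b.repr ((OmegaSh.dOmega f).app V (resO hVW r)) i = resO hVW _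
      rw [← dOmega_res f hVW r]
      have h1 := congrArg (res (Omega.sheaf f) hVW) (bW.sum_repr ((OmegaSh.dOmega f).app W r))
      rw [map_sum] at h1
      have h2 : ∀ k, res (Omega.sheaf f) hVW (bW.repr ((OmegaSh.dOmega f).app W r) k • bW k) =
          resO hVW (bW.repr ((OmegaSh.dOmega f).app W r) k) • b k := by
        intro k
        rw [res_smul, hb, hbW, dOmega_res, resO_resO]
      rw [Finset.sum_congr rfl fun k _ => h2 k] at h1
      rw [← h1, map_sum, Finsupp.finsetSum_apply]
      simp only [map_smul, Module.Basis.repr_self, Finsupp.smul_apply, smul_eq_mul]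
      rw [Finset.sum_eq_single i]
      · rw [Finsupp.single_eq_same, mul_one]
      · intro k _ hk
        rw [Finsupp.single_eq_of_ne (Ne.symm hk), mul_zero]
      · intro h3
        exact absurd (Finset.mem_univ i) h3
    · intro k
      rw [coordDer_apply]
      change b.repr ((OmegaSh.dOmega f).app V (resO hVW (z k))) i = _
      rw [← hb, Module.Basis.repr_self, Finsupp.single_apply]
    · intro a s'
      rw [hΦ, hΦ, Algebra.smul_def, mul_smul]
      exact hΨA a _
    · rintro j r ⟨M, r', h⟩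
      rw [hΦ]
      -- the fraction extends to `V_j`
      have hjW : Vj j ≤ W := by rw [hVj]; exact X.basicOpen_le _
      have hja : IsAffineOpen (Vj j) := by rw [hVj]; exact hW.basicOpen _
      have hu : ∀ (V' : X.Opens) (_ : V' = X.basicOpen (∏ k ∈ Finset.univ.erase j, z k)) (hV' : V' ≤ W),
          IsUnit (resO hV' (∏ k ∈ Finset.univ.erase j, z k)) := by
        rintro _ rfl hV'
        exact X.toRingedSpace.isUnit_res_basicOpen (∏ k ∈ Finset.univ.erase j, z k)
      obtain ⟨w, hw⟩ := (hu _ (hVj j) hjW).exists_right_inv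
      have hw' : resO hVW (∏ k ∈ Finset.univ.erase j, z k) * resO (hle j) w = 1 := by
        rw [← resO_resO hjW (hle j), ← map_mul, hw, map_one]
      have h' : resO hVW (∏ k ∈ Finset.univ.erase j, z k) ^ M * r = resO hVW r' := by
        rw [map_prod]
        exact h
      have hr : resO (hle j) (resO hjW r' * w ^ M) = r := by
        have h1M : resO hVW (∏ k ∈ Finset.univ.erase j, z k) ^ M * resO (hle j) w ^ M = 1 := by
          rw [← mul_pow, hw', one_pow]
        rw [map_mul, map_pow, resO_resO, ← h']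
        linear_combination r * h1M
      have h6 : r • wt f D ⟨V, hVa⟩ (fun i => resO hVW (z i)) = res (D.term (e + 1)) (hle j)
          ((resO hjW r' * w ^ M) • wt f D ⟨Vj j, hja⟩ (fun i => resO hjW (z i))) := by
        rw [res_smul, hr]
        congr 1
        refine Eq.trans ?_ (wt_res f D (V := ⟨V, hVa⟩) (W := ⟨Vj j, hja⟩) (hle j) _).symm
        congr 1
        funext i
        exact (resO_resO hjW (hle j) (z i)).symm
      rw [h6]
      exact hΨj j _
    · intro c hc
      rw [hΦ]
      exact hΨc c hc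
  -- expansion of the form
  obtain ⟨t, rfl⟩ := (D.loc e ⟨V, hVa⟩).symm.surjective s
  have h1 := mem_span_wi (R := Γ(X, V)) b b.span_eq t
  rw [Submodule.mem_span_range_iff_exists_fun] at h1
  obtain ⟨c, rfl⟩ := h1
  rw [map_sum, map_sum, map_sum]
  refine Finset.sum_eq_zero fun i _ => ?_
  have h2 := dSec_wi D (V := ⟨V, hVa⟩) (y := fun i => resO hVW (z i)) b hb i (c i)
  refine (congrArg Ψ h2).trans ?_
  rw [map_zsmul, ← hΦ, key, smul_zero]

end Geo

end K854.FracForm
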