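import Groth.Agent.Dual.H366.ExtQCoh
import Groth.Agent.Sga67.TensorOps
import Groth.Agent.Ega1.QCohLoc
import Groth.Agent.CohqB.FiniteType2
import Groth.Agent.Vancyc.H878.OmegaRank

/-!
# Coherence of exterior powers of the sheaf of differentials

* `isQCoh_of_isExtPow`: exterior powers of quasi-coherent modules are quasi-coherent;
* `isCoh_of_isExtPow`: exterior powers of modules which are quasi-coherent with finitely generated sections over
  affine opens are coherent;
* `isCoh_omegaPow`: `Ω^p_{X/Y}` is coherent for `f : X ⟶ Y` locally of finite type with quasi-compact diagonal.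
-/

set_option autoImplicit false
universe u

open CategoryTheory CategoryTheory.Limits AlgebraicGeometry Opposite TopologicalSpace
open Groth.Agent.Sga67.Sec Groth.Agent.Sga67.LocBasis Groth.Agent.Sga67.ExtSheaf Groth.Agent.Fdesc
open Groth.Agent.Krr.H495.ExtSemi Groth.Agent.Krr.H495.ExtPre Groth.Agent.Dual.H366

namespace K854.ExtCoh

variable {X Y : Scheme.{u}}

/-- The sheaf `Λ^i E` is quasi-coherent for quasi-coherent `E`. -/
theorem isQCoh_ext (i : ℕ) {E : X.Modules} (hE : Coh.IsQCoh E) : Coh.IsQCoh (ext i E) := by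
  apply Groth.Agent.Ega1.QCohLoc.isQCoh_of_isLocOnAffines
  intro U hU g
  let i1 := QCohStalk.resModule E (X.basicOpen_le g)
  let i2 : Algebra Γ(X, U) Γ(X, X.basicOpen g) := (resO X (X.basicOpen_le g)).toAlgebra
  have i3 : IsScalarTower Γ(X, U) Γ(X, X.basicOpen g) Γ(E, X.basicOpen g) :=
    ⟨fun a b c => by rw [Algebra.smul_def, mul_smul]; rfl⟩
  have i4 : IsLocalization (.powers g) Γ(X, X.basicOpen g) := hU.isLocalization_basicOpen g
  have i5 := QCohStalk.isLocalizedModule_res E hU hE g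
  constructor
  · intro s
    obtain ⟨y, hy⟩ := (ExtQCoh.bijective_eta' hE (hU.basicOpen g) i).2 s
    obtain ⟨⟨_, k, rfl⟩, x, hx⟩ := ExtLoc.exists_smul_eq_extS (B := Γ(X, X.basicOpen g)) (.powers g)
      (QCohStalk.resₗ E (X.basicOpen_le g)) i (show ⋀[Γ(X, X.basicOpen g)]^i (Sec E (X.basicOpen g)) from y)
    refine ⟨k, eta' i E U x, ?_⟩
    have h1 := eta'_eres i E (X.basicOpen_le g) x
    have h2 : eres i E (X.basicOpen_le g) x = (resO X (X.basicOpen_le g) g) ^ k • y := by
      rw [← map_pow]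
      exact hx.symm
    rw [h2, map_smul, hy] at h1
    exact h1.symm
  · intro t ht
    obtain ⟨x, rfl⟩ := (ExtQCoh.bijective_eta' hE hU i).2 t
    have h1 := eta'_eres i E (X.basicOpen_le g) x
    have h2 : eres i E (X.basicOpen_le g) x = 0 := by
      apply (ExtQCoh.bijective_eta' hE (hU.basicOpen g) i).1
      rw [h1, map_zero]
      exact ht
    obtain ⟨⟨_, k, rfl⟩, hk⟩ := ExtLoc.exists_smul_eq_zero (B := Γ(X, X.basicOpen g)) (.powers g)
      (QCohStalk.resₗ E (X.basicOpen_le g)) i (show ⋀[Γ(X, U)]^i (Sec E U) from x) h2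
    refine ⟨k, ?_⟩
    have h3 : (g ^ k) • x = 0 := hk
    have h4 := congrArg (eta' i E U) h3
    rw [map_smul, map_zero] at h4
    exact h4

/-- Exterior powers of quasi-coherent modules are quasi-coherent. -/
theorem isQCoh_of_isExtPow {i : ℕ} {E L : X.Modules} (hE : Coh.IsQCoh E)
    (hL : ExtPow.IsExtPow i E L) : Coh.IsQCoh L := by
  obtain ⟨e⟩ := Groth.Agent.Sga67.TensorOps.nonempty_iso_of_isExtPow (Iso.refl E)
    (ExtQCoh.isExtPow_ext hE i) hL
  exact Groth.Agent.Ega1.QCohLoc.isQCoh_of_iso e (isQCoh_ext i hE)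

/-- Exterior powers of modules with finitely generated sections over affine opens. -/
theorem isCoh_of_isExtPow {i : ℕ} {E L : X.Modules} (hE : Coh.IsQCoh E)
    (hfin : ∀ x : X, ∃ V : X.Opens, x ∈ V ∧ IsAffineOpen V ∧ Module.Finite Γ(X, V) Γ(E, V))
    (hL : ExtPow.IsExtPow i E L) : Coh.IsCoh L := by
  have hq := isQCoh_of_isExtPow hE hL
  obtain ⟨φ, -⟩ := exists_phi hL
  refine ⟨hq, Groth.Agent.CohqB.FiniteType2.isFT_of_finite_sections _ fun x => ?_⟩
  obtain ⟨V, hxV, hV, hf⟩ := hfin x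
  refine ⟨V, hxV, hV, ?_⟩
  have h1 : Module.Finite Γ(X, V) (⋀[Γ(X, V)]^i (Sec E V)) := by
    have : Module.Finite Γ(X, V) (Sec E V) := hf
    infer_instance
  exact Module.Finite.equiv (φ ⟨V, hV⟩).symm

section Omega

open Groth.Agent.CurvesB.OmegaDer

/-- For `f` locally of finite type, the sections of `Ω_{X/Y}` over small affine opens are finitely generated. -/
theorem exists_finite_omega (f : X ⟶ Y) [LocallyOfFiniteType f]
    [QuasiCompact (pullback.diagonal f)] (x : X) :
    ∃ V : X.Opens, x ∈ V ∧ IsAffineOpen V ∧ Module.Finite Γ(X, V) Γ(Omega.sheaf f, V) := by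
  obtain ⟨U, hU, hxU, -⟩ := (Opens.isBasis_iff_nbhd.mp Y.isBasis_affineOpens)
    (show f x ∈ (⊤ : Y.Opens) from trivial)
  obtain ⟨W, hW, hxW, hWU⟩ := (Opens.isBasis_iff_nbhd.mp X.isBasis_affineOpens)
    (show x ∈ f ⁻¹ᵁ U from hxU)
  refine ⟨W, hxW, hW, ?_⟩
  let := algX f hWU
  let := modO f hWU
  have := isScalarTower f hWU
  have h1 : Algebra.FiniteType Γ(Y, U) Γ(X, W) := f.finiteType_appLE hU hW hWU
  have h2 : Module.Finite Γ(X, W) Ω[Γ(X, W)⁄Γ(Y, U)] := inferInstance
  exact Module.Finite.equiv (LinearEquiv.ofBijective _ (bijective_lift f hWU hU hW))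

/-- `Ω^p_{X/Y}` is coherent. -/
theorem isCoh_omegaPow (f : X ⟶ Y) [LocallyOfFiniteType f] [QuasiCompact (pullback.diagonal f)]
    {p : ℕ} {L : X.Modules} (hL : ExtPow.IsExtPow p (Omega.sheaf f) L) : Coh.IsCoh L :=
  isCoh_of_isExtPow (Groth.Agent.Vancyc.H878.OmegaRank.isQCoh_omega f) (exists_finite_omega f) hL

end Omega

end K854.ExtCoh
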