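import Groth.Agent.DeRhamSh.K854.CechCup
import Groth.Agent.Surf.K461.DualLF
import Groth.Agent.CohqB.HomPost
import Groth.Agent.Flat2B.ExtZero

/-!
# Acyclicity of the Čech modules

`F` finite locally free, `W` quasi-coherent, `U` a finite affine cover with affine intersections:
`Ext^q(F, cc U W n) = 0` for `q > 0`.
-/

set_option autoImplicit false
universe w u

open CategoryTheory CategoryTheory.Limits AlgebraicGeometry Opposite TopologicalSpace
open Groth.Agent.LoccohB.GlueHom
open Groth.Agent.Lefpen.H278.SecSys (UI UI_anti UI_range)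

namespace K854.CechMod

variable {X : Scheme.{u}}

section QCoh

variable {κ : Type} [Finite κ] (O : κ → X.Opens) (G : X.Modules)

/-- The module `JJ O G` is quasi-coherent. -/
theorem isQCoh_JJ (hO : ∀ (c : κ) (V : X.Opens), IsAffineOpen V → IsAffineOpen (V ⊓ O c)) (hG : Coh.IsQCoh G) :
    Coh.IsQCoh (JJ O G) := by
  have := Fintype.ofFinite κ
  apply Groth.Agent.Ega1.QCohLoc.isQCoh_of_isLocOnAffines
  intro V hV f
  have hc : ∀ c, Groth.Agent.Ega1.QCohLoc.IsLocAt G (V ⊓ O c) (resO (inf_le_left : V ⊓ O c ≤ V) f) := fun c =>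
    Groth.Agent.Ega1.QCohLoc.isLocAt_of_isQCoh hG (hO c V hV) _
  have he : ∀ c, X.basicOpen f ⊓ O c = X.basicOpen (resO (inf_le_left : V ⊓ O c ≤ V) f) := by
    intro c
    rw [show X.basicOpen (resO (inf_le_left : V ⊓ O c ≤ V) f) = (V ⊓ O c) ⊓ X.basicOpen f from
      Groth.Agent.Ega1.QCohLoc.basicOpen_resO _ f]
    have h1 : X.basicOpen f ≤ V := X.basicOpen_le f
    refine le_antisymm (le_inf (le_inf (inf_le_left.trans h1) inf_le_right) inf_le_left)
      (le_inf inf_le_right (inf_le_left.trans inf_le_right))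
  constructor
  · intro s
    choose n t ht using fun c => (hc c).surj' (he c) (inf_le_inf_right _ (X.basicOpen_le f)) (toF O G s c)
    let N := Finset.univ.sup n
    have hN : ∀ c, n c ≤ N := fun c => Finset.le_sup (Finset.mem_univ c)
    refine ⟨N, (toF O G).symm (fun c => resO (inf_le_left : V ⊓ O c ≤ V) f ^ (N - n c) • t c), ?_⟩
    apply (toF O G).injective
    funext c
    have h1 : toF O G (res (JJ O G) (X.basicOpen_le f)
        ((toF O G).symm (fun c => resO (inf_le_left : V ⊓ O c ≤ V) f ^ (N - n c) • t c))) c =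
        res G (inf_le_inf_right _ (X.basicOpen_le f)) (resO (inf_le_left : V ⊓ O c ≤ V) f ^ (N - n c) • t c) := rfl
    refine h1.trans ?_
    rw [res_smul]
    have h2 : res G (inf_le_inf_right (O c) (X.basicOpen_le f)) (t c) =
      resO (inf_le_inf_right (O c) (X.basicOpen_le f)) (resO (inf_le_left : V ⊓ O c ≤ V) f) ^ n c • toF O G s c := ht c
    rw [h2, smul_smul, map_pow, ← pow_add, Nat.sub_add_cancel (hN c), ← map_pow, ← map_pow, resO_resO]
    have h3 := toF_smul O G (resO (X.basicOpen_le f) f ^ N) s c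
    refine Eq.trans ?_ h3.symm
    rw [← map_pow, resO_resO]
  · intro t ht
    choose n hn using fun c => (hc c).inj' (he c) (inf_le_inf_right _ (X.basicOpen_le f)) (toF O G t c) (by
      have h1 : toF O G (res (JJ O G) (X.basicOpen_le f) t) c = 0 := by
        have : res (JJ O G) (X.basicOpen_le f) t = 0 := ht
        rw [this]
        rfl
      exact h1)
    let N := Finset.univ.sup n
    have hN : ∀ c, n c ≤ N := fun c => Finset.le_sup (Finset.mem_univ c)
    refine ⟨N, ?_⟩
    apply (toF O G).injective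
    funext c
    rw [toF_smul]
    change _ = (0 : Γ(G, V ⊓ O c))
    rw [map_pow, ← Nat.sub_add_cancel (hN c), pow_add, mul_smul]
    have h2 : resO (inf_le_left : V ⊓ O c ≤ V) f ^ n c • toF O G t c = 0 := hn c
    rw [h2, smul_zero]

end QCoh

section Hom

open Groth.Agent.CohqB.HomSheaf (homSheaf comp mkSec comp_mkSec comp_add comp_smul)

variable {κ : Type} (O : κ → X.Opens) (F W : X.Modules)

theorem comp_map'' {M N : X.Modules} {U : X.Opens} (s : Γ(homSheaf M N, U)) {V W : X.Opens} (hV : V ≤ U)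
    (h : W ≤ V) (m : Γ(M, V)) : comp s W (h.trans hV) (res M h m) = res N h (comp s V hV m) :=
  Groth.Agent.CohqB.HomSheaf.comp_map s hV h m

/-- The `c`-component of a section of `Hom(F, JJ O W)`. -/
noncomputable def hc {V : X.Opens} (s : Γ(homSheaf F (JJ O W), V)) (c : κ) : Γ(homSheaf F W, V ⊓ O c) :=
  mkSec (fun V' hV' =>
    { toFun := fun m => res W (le_inf le_rfl (hV'.trans inf_le_right))
        (toF O W (comp s V' (hV'.trans inf_le_left) m) c)
      map_add' := fun a b => by
        rw [map_add, map_add, Pi.add_apply, map_add]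
      map_smul' := fun r a => by
        rw [map_smul, toF_smul, res_smul, resO_resO, resO_self]
        rfl })
    (fun V' V'' hV hVV m => by
      have h1 := comp_map'' s (hV.trans inf_le_left) hVV m
      change res W _ (toF O W (comp s V'' _ (res F hVV m)) c) = res W hVV (res W _ (toF O W _ c))
      rw [h1, toF_res, res_res, res_res])

theorem comp_hc {V : X.Opens} (s : Γ(homSheaf F (JJ O W), V)) (c : κ) (V' : X.Opens) (hV' : V' ≤ V ⊓ O c)
    (m : Γ(F, V')) : comp (hc O F W s c) V' hV' m =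
      res W (le_inf le_rfl (hV'.trans inf_le_right)) (toF O W (comp s V' (hV'.trans inf_le_left) m) c) := rfl

/-- `Hom(F, JJ O W) ⟶ JJ O (Hom(F, W))`. -/
noncomputable def hφ : homSheaf F (JJ O W) ⟶ JJ O (homSheaf F W) :=
  hom (fun V => (toF O (homSheaf F W)).symm.toAddMonoidHom.comp
      (AddMonoidHom.mk' (fun s c => hc O F W s c) (fun s t => by
        funext c
        refine Groth.Agent.CohqB.HomSheaf.sec_ext fun V' hV' m => ?_
        rw [comp_hc]
        change res W _ (toF O W (comp s V' _ m + comp t V' _ m) c) = _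
        rw [map_add, Pi.add_apply, map_add]
        rfl)))
    (fun V r s => by
      apply (toF O (homSheaf F W)).injective
      funext c
      change hc O F W (r • s) c = resO (inf_le_left : V ⊓ O c ≤ V) r • hc O F W s c
      refine Groth.Agent.CohqB.HomSheaf.sec_ext fun V' hV' m => ?_
      rw [comp_hc, comp_smul, comp_smul]
      change res W _ (toF O W (resO (hV'.trans inf_le_left) r • comp s V' _ m) c) =
        resO hV' (resO inf_le_left r) • comp (hc O F W s c) V' hV' m
      rw [toF_smul, res_smul, resO_resO, resO_resO, resO_resO, comp_hc])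
    (fun {V V'} h s => rfl)

theorem toF_hφ {V : X.Opens} (s : Γ(homSheaf F (JJ O W), V)) (c : κ) :
    toF O (homSheaf F W) ((hφ O F W).app V s) c = hc O F W s c := rfl

instance isIso_hφ : IsIso (hφ O F W) := by
  refine Groth.Agent.Flat2B.ExtZero.isIso_of_bijective _ fun V => ⟨?_, ?_⟩
  · intro s t hst
    refine Groth.Agent.CohqB.HomSheaf.sec_ext fun V' hV' m => ?_
    apply (toF O W).injective
    funext c
    have h1 : hc O F W s c = hc O F W t c := congrFun (congrArg (toF O (homSheaf F W)) hst) c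
    have h2 : comp (hc O F W s c) (V' ⊓ O c) (inf_le_inf_right _ hV') (res F inf_le_left m) =
      comp (hc O F W t c) (V' ⊓ O c) (inf_le_inf_right _ hV') (res F inf_le_left m) := by rw [h1]
    rw [comp_hc, comp_hc, comp_map'' s hV' inf_le_left, comp_map'' t hV' inf_le_left, toF_res, toF_res, res_res,
      res_res, res_self, res_self] at h2
    exact h2
  · intro t
    refine ⟨mkSec (fun V' hV' =>
      { toFun := fun m => (toF O W).symm (fun c => comp (toF O (homSheaf F W) t c) (V' ⊓ O c)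
          (inf_le_inf_right _ hV') (res F inf_le_left m))
        map_add' := fun a b => by
          apply (toF O W).injective
          funext c
          change comp _ _ _ (res F _ (a + b)) = comp _ _ _ (res F _ a) + comp _ _ _ (res F _ b)
          rw [map_add, map_add]
        map_smul' := fun r a => by
          apply (toF O W).injective
          funext c
          change comp _ _ _ (res F _ (r • a)) = toF O W (r • _) c
          rw [toF_smul, res_smul, map_smul]
          rfl })
      (fun V' V'' hV hVV m => ?_), ?_⟩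
    · apply (toF O W).injective
      funext c
      change comp _ _ _ (res F _ (res F _ m)) = res W _ (comp _ _ _ (res F _ m))
      rw [← comp_map'', res_res, res_res]
    · apply (toF O (homSheaf F W)).injective
      funext c
      rw [toF_hφ]
      refine Groth.Agent.CohqB.HomSheaf.sec_ext fun V' hV' m => ?_
      rw [comp_hc]
      change res W _ (comp _ _ _ (res F _ m)) = _
      rw [← comp_map'', res_res, res_self]

end Hom

section Acyc

theorem toF_zsmul {κ : Type} (O : κ → X.Opens) (G : X.Modules) {V : X.Opens} (z : ℤ) (s : Γ(JJ O G, V)) (c : κ) :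
    toF O G (z • s) c = z • toF O G s c := by
  rw [map_zsmul]
  rfl

variable {k : Type u} [Field k] [X.Over (Spec (CommRingCat.of k))] {ι : Type}
  (U : ι → X.Opens)

open Groth.Agent.Lefpen.H722.Sys Groth.Agent.Lefpen.H278.SecSys

theorem UI_cons {p : ℕ} {n : ℕ} (σ : Fin (p + 1) → ι) (τ : Fin (n + 1) → ι) :
    UI U (Set.range σ) ⊓ Ot U n τ ≤ UI U (Set.range (Fin.cons (τ 0) σ : Fin (p + 2) → ι)) ⊓ Ot U n τ := by
  refine le_inf (le_iInf₂ fun j hj => ?_) inf_le_right
  obtain ⟨a, rfl⟩ := hj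
  refine Fin.cases ?_ (fun b => ?_) a
  · exact inf_le_right.trans (iInf₂_le_of_le (τ 0) ⟨0, rfl⟩ le_rfl)
  · exact inf_le_left.trans (iInf₂_le_of_le (σ b) ⟨b, rfl⟩ le_rfl)

variable (k)

/-- The Čech cohomology of the Čech modules vanishes. -/
theorem exists_d_eq (G : X.Modules) (n p : ℕ) (s : C (secSys k U (cc U G n)) (p + 1))
    (hs : d (secSys k U (cc U G n)) (p + 1) s = 0) : ∃ t, d (secSys k U (cc U G n)) p t = s := by
  let s' : ∀ σ : Fin (p + 2) → ι, Γ(cc U G n, UI U (Set.range σ)) := s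
  let t' : ∀ σ : Fin (p + 1) → ι, Γ(cc U G n, UI U (Set.range σ)) := fun σ =>
    ff U G (fun τ => res G (UI_cons U σ τ) (tf U G (s' (Fin.cons (τ 0) σ)) τ))
  refine ⟨t', ?_⟩
  funext σ
  refine (d_apply (secSys k U (cc U G n)) p t' σ).trans ?_
  change ∑ j : Fin (p + 2), (-1 : ℤ) ^ (j : ℕ) • res (cc U G n) (UI_anti U (face_subset σ j)) (t' (σ ∘ j.succAbove)) =
    s' σ
  apply (toF (Ot U n) G).injective
  funext τ
  rw [map_sum, Finset.sum_apply]
  have h0 : toF (Ot U n) G (∑ j : Fin (p + 3), (-1 : ℤ) ^ (j : ℕ) •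
      res (cc U G n) (UI_anti U (face_subset (Fin.cons (τ 0) σ) j)) (s' ((Fin.cons (τ 0) σ : Fin (p + 3) → ι) ∘
        j.succAbove))) τ = 0 := by
    have h00 := congrFun hs (Fin.cons (τ 0) σ)
    rw [d_apply] at h00
    have h01 : (∑ j : Fin (p + 3), (-1 : ℤ) ^ (j : ℕ) •
      res (cc U G n) (UI_anti U (face_subset (Fin.cons (τ 0) σ) j)) (s' ((Fin.cons (τ 0) σ : Fin (p + 3) → ι) ∘
        j.succAbove))) = 0 := h00
    rw [h01]
    rfl
  rw [map_sum, Finset.sum_apply, Fin.sum_univ_succ] at h0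
  have h1 := congrArg (res G (UI_cons U σ τ)) h0
  rw [map_zero, map_add, map_sum] at h1
  have key : ∀ (υ : Fin (p + 2) → ι) (e : υ = σ) (l : UI U (Set.range σ) ⊓ Ot U n τ ≤ UI U (Set.range υ) ⊓ Ot U n τ),
      res G l (tf U G (s' υ) τ) = tf U G (s' σ) τ := by
    rintro _ rfl l
    exact res_self _ _ _
  have h2 : res G (UI_cons U σ τ) (toF (Ot U n) G ((-1 : ℤ) ^ ((0 : Fin (p + 3)) : ℕ) •
      res (cc U G n) (UI_anti U (face_subset (Fin.cons (τ 0) σ) 0)) (s' ((Fin.cons (τ 0) σ : Fin (p + 3) → ι) ∘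
        (0 : Fin (p + 3)).succAbove))) τ) = tf U G (s' σ) τ := by
    rw [Fin.val_zero, pow_zero, one_smul, toF_res, res_res]
    exact key _ (by funext a; simp) _
  rw [h2] at h1
  refine Eq.trans ?_ (eq_neg_of_add_eq_zero_left h1).symm
  rw [← Finset.sum_neg_distrib]
  refine Finset.sum_congr rfl fun j _ => ?_
  have key2 : ∀ (υ υ' : Fin (p + 2) → ι) (e : υ = υ')
      (l : UI U (Set.range σ) ⊓ Ot U n τ ≤ UI U (Set.range υ) ⊓ Ot U n τ)
      (l' : UI U (Set.range σ) ⊓ Ot U n τ ≤ UI U (Set.range υ') ⊓ Ot U n τ),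
      res G l (tf U G (s' υ) τ) = res G l' (tf U G (s' υ') τ) := by
    rintro υ _ rfl l l'
    rfl
  rw [toF_zsmul, toF_zsmul, map_zsmul, Fin.val_succ, pow_succ, mul_neg_one, neg_smul, neg_neg]
  congr 1
  rw [toF_res, toF_res, res_res]
  have h3 : toF (Ot U n) G (t' (σ ∘ j.succAbove)) τ = res G (UI_cons U (σ ∘ j.succAbove) τ)
    (tf U G (s' (Fin.cons (τ 0) (σ ∘ j.succAbove))) τ) := rfl
  rw [h3, res_res]
  exact key2 _ _ (cons_comp_succAbove_succ (τ 0) σ j).symm _ _

variable [Finite ι] (hcov : ⨆ i, U i = ⊤) (hU : ∀ s : Finset ι, s.Nonempty → IsAffineOpen (⨅ i ∈ s, U i))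

omit [Finite ι] in
include hU in
theorem isAffineOpen_Ot (n : ℕ) (σ : Fin (n + 1) → ι) : IsAffineOpen (Ot U n σ) := by
  classical
  have h := hU (Finset.univ.image σ) (Finset.univ_nonempty.image σ)
  have e : Ot U n σ = ⨅ i ∈ Finset.univ.image σ, U i := by
    refine le_antisymm (le_iInf₂ fun i hi => ?_) (le_iInf₂ fun i hi => ?_)
    · obtain ⟨a, -, rfl⟩ := Finset.mem_image.mp hi
      exact iInf₂_le_of_le (σ a) ⟨a, rfl⟩ le_rfl
    · obtain ⟨a, rfl⟩ := hi
      exact iInf₂_le_of_le (σ a) (Finset.mem_image_of_mem _ (Finset.mem_univ a)) le_rfl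
  rwa [e]

include hU in
theorem isQCoh_cc [X.IsSeparated] {G : X.Modules} (hG : Coh.IsQCoh G) (n : ℕ) : Coh.IsQCoh (cc U G n) :=
  isQCoh_JJ (Ot U n) G (fun σ _ hV => hV.inf (isAffineOpen_Ot U hU n σ)) hG

include k hcov hU in
theorem subsingleton_HH [X.IsSeparated] {G : X.Modules} (hG : Coh.IsQCoh G) (n p : ℕ) :
    Subsingleton (Coh.HH X (cc U G n) (p + 1)) := by
  have hq := isQCoh_cc U hU hG n
  refine ⟨fun a b => ?_⟩
  have key : ∀ a : Coh.HH X (cc U G n) (p + 1), a = 0 := by
    intro a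
    obtain ⟨s, rfl⟩ := clsS_surjective k U hcov hU (cc U G n) hq (p + 1) a
    rw [clsS_eq_zero_iff_succ]
    exact exists_d_eq k U G n p s.1 (LinearMap.mem_ker.mp s.2)
  rw [key a, key b]

end Acyc

theorem subsingleton_HH_of_iso {M N : X.Modules} (e : M ≅ N) (p : ℕ) (h : Subsingleton (Coh.HH X N p)) :
    Subsingleton (Coh.HH X M p) := by
  have hi : Function.Injective (Sheaf.H.map ((SheafOfModules.toSheaf X.ringCatSheaf).map e.hom) p) := by
    intro a b hab
    have h1 : ∀ a, Sheaf.H.map ((SheafOfModules.toSheaf X.ringCatSheaf).map e.inv) p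
        (Sheaf.H.map ((SheafOfModules.toSheaf X.ringCatSheaf).map e.hom) p a) = a := by
      intro a
      have h2 : (SheafOfModules.toSheaf X.ringCatSheaf).map e.hom ≫
          (SheafOfModules.toSheaf X.ringCatSheaf).map e.inv = 𝟙 _ :=
        ((SheafOfModules.toSheaf X.ringCatSheaf).mapIso e).hom_inv_id
      refine (Sheaf.H.map_comp_apply _ _ _).symm.trans ?_
      rw [h2]
      exact Sheaf.H.map_id_apply _
    rw [← h1 a, ← h1 b, hab]
  exact hi.subsingleton

section ExtAcyc

open Groth.Agent Groth.Agent.CurvesC Groth.Agent.Sga2.PnHomAdj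

attribute [local instance] HasDerivedCategory.standard LinMod.linearModules

variable (k : Type u) [Field k] [X.Over (Spec (CommRingCat.of k))] {ι : Type} [Finite ι]
  (U : ι → X.Opens) (hcov : ⨆ i, U i = ⊤) (hU : ∀ s : Finset ι, s.Nonempty → IsAffineOpen (⨅ i ∈ s, U i))

include k hcov hU in
/-- **Acyclicity of the Čech modules.** -/
theorem subsingleton_ext [X.IsSeparated] [HasExt.{w} X.Modules] {F W : X.Modules} (hF : FlatMod.IsFinLocFree F)
    (hW : Coh.IsQCoh W) (n p : ℕ) : Subsingleton (Abelian.Ext.{w} F (cc U W n) (p + 1)) := by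
  obtain ⟨E⟩ := K461.DualLF.nonempty_hom_equiv k hF (cc U W n) (p + 1)
  have h1 : Subsingleton (Coh.HH X (cc U (Groth.Agent.CohqB.HomSheaf.homSheaf F W) n) (p + 1)) :=
    subsingleton_HH k U hcov hU (Groth.Agent.CohqB.HomPost.isQCoh_homSheaf_of_isFinLocFree hF hW) n p
  let e2 : Groth.Agent.CohqB.HomSheaf.homSheaf F (JJ (Ot U n) W) ≅
      JJ (Ot U n) (Groth.Agent.CohqB.HomSheaf.homSheaf F W) :=
    @asIso _ _ _ _ (hφ (Ot U n) F W) (isIso_hφ _ _ _)
  have h2 : Subsingleton (Coh.HH X ((DCoh.sheafHom F).obj (cc U W n)) (p + 1)) :=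
    subsingleton_HH_of_iso ((sheafHomIso F).app _ ≪≫ e2) _ h1
  have h3 : Subsingleton (HV X ((DCoh.sheafHom F).obj (cc U W n)) (p + 1)) :=
    (HV.equiv k _ _).toEquiv.subsingleton_congr.mpr h2
  have h4 := E.toEquiv.subsingleton_congr.mpr h3
  exact Abelian.Ext.homEquiv.subsingleton_congr.mpr h4

end ExtAcyc

end K854.CechMod
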