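import Groth.Agent.DeRhamSh.K854.CechRes

/-!
# Cup product of Čech cochains with a Čech cochain of homomorphisms

For `g : F ⟶ cc U W m` the maps `cup U g n : cc U F n ⟶ cc U W (m + n)` (front face in `F`, back face for `g`),
commuting with the differentials when `g ≫ dd = 0`; the resulting morphism of chains `sh`.
-/

set_option autoImplicit false
universe u

open CategoryTheory CategoryTheory.Limits AlgebraicGeometry Opposite TopologicalSpace
open Groth.Agent.LoccohB.GlueHom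
open Groth.Agent.Lefpen.H278.SecSys (UI UI_anti UI_range)

namespace K854.CechMod

section Seq

/-- Skip the index `j`. -/
def sk (j a : ℕ) : ℕ := if a < j then a else a + 1

theorem sk_lt {j a : ℕ} (h : a < j) : sk j a = a := if_pos h
theorem sk_ge {j a : ℕ} (h : j ≤ a) : sk j a = a + 1 := if_neg (by omega)
theorem sk_le {j a N : ℕ} (h : a ≤ N) : sk j a ≤ N + 1 := by unfold sk; split_ifs <;> omega

variable {ι : Type}

/-- A tuple as a sequence. -/
def sq {N : ℕ} (σ : Fin (N + 1) → ι) : ℕ → ι := fun i => σ ⟨min i N, by omega⟩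

/-- A part of a sequence as a tuple. -/
def tp (q : ℕ) (ρ : ℕ → ι) (φ : ℕ → ℕ) : Fin (q + 1) → ι := fun a => ρ (φ a)

theorem tp_congr {q : ℕ} {ρ : ℕ → ι} {φ ψ : ℕ → ℕ} (h : ∀ a ≤ q, φ a = ψ a) : tp q ρ φ = tp q ρ ψ := by
  funext a
  exact congrArg ρ (h a (by omega))

theorem comp_succAbove {N : ℕ} (σ : Fin (N + 2) → ι) (j : Fin (N + 2)) :
    σ ∘ j.succAbove = tp N (sq σ) (sk j) := by
  funext a
  refine congrArg σ (Fin.ext ?_)
  have ha := a.2
  change (j.succAbove a : ℕ) = min (sk j a) (N + 1)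
  rcases lt_or_ge (a : ℕ) (j : ℕ) with h | h
  · rw [Fin.succAbove_of_castSucc_lt _ _ (by rwa [Fin.lt_def]), sk_lt h]
    change (a : ℕ) = _
    omega
  · rw [Fin.succAbove_of_le_castSucc _ _ (by rwa [Fin.le_def]), sk_ge h]
    change (a : ℕ) + 1 = _
    omega

theorem tp_id {N : ℕ} (σ : Fin (N + 1) → ι) : tp N (sq σ) id = σ := by
  funext a
  refine congrArg σ (Fin.ext ?_)
  have ha := a.2
  change min (a : ℕ) N = a
  omega

theorem sq_tp {N q : ℕ} (σ : Fin (N + 1) → ι) (φ : ℕ → ℕ) {i : ℕ} (hi : i ≤ q) :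
    sq (tp q (sq σ) φ) i = sq σ (φ i) := by
  change sq σ (φ (min i q)) = _
  rw [min_eq_left hi]

theorem tp_tp {N q p : ℕ} (σ : Fin (N + 1) → ι) (φ ψ : ℕ → ℕ) (h : ∀ a ≤ p, ψ a ≤ q) :
    tp p (sq (tp q (sq σ) φ)) ψ = tp p (sq σ) (fun a => φ (ψ a)) := by
  funext a
  exact sq_tp σ φ (h a (by omega))

end Seq

variable {X : Scheme.{u}} {ι : Type} (U : ι → X.Opens)

theorem Ot_tp {N : ℕ} (σ : Fin (N + 1) → ι) (q : ℕ) (φ : ℕ → ℕ) : Ot U N σ ≤ Ot U q (tp q (sq σ) φ) :=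
  UI_anti U (by rintro _ ⟨a, rfl⟩; exact ⟨_, rfl⟩)

variable {F W : X.Modules}

section Cup

variable {m : ℕ} (g : F ⟶ cc U W m)

/-- The front face. -/
abbrev fr (n : ℕ) (σ : Fin (m + n + 1) → ι) : Fin (n + 1) → ι := tp n (sq σ) id

/-- The back face. -/
abbrev bk (n : ℕ) (σ : Fin (m + n + 1) → ι) : Fin (m + 1) → ι := tp m (sq σ) (fun a => n + a)

/-- The general term of a cup product. -/
noncomputable def tm {N n : ℕ} {V : X.Opens} (s : Γ(cc U F n, V)) (σ : Fin (N + 1) → ι) (φ ψ : ℕ → ℕ) :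
    Γ(W, V ⊓ Ot U N σ) :=
  res W (le_inf (inf_le_inf_left V (Ot_tp U σ n φ)) (inf_le_right.trans (Ot_tp U σ m ψ)))
    (tf U W (g.app (V ⊓ Ot U n (tp n (sq σ) φ)) (tf U F s (tp n (sq σ) φ))) (tp m (sq σ) ψ))

theorem tf_add' {M : X.Modules} {n : ℕ} {V : X.Opens} (s t : Γ(cc U M n, V)) (σ : Fin (n + 1) → ι) :
    tf U M (s + t) σ = tf U M s σ + tf U M t σ := rfl

theorem tf_zsmul {M : X.Modules} {n : ℕ} {V : X.Opens} (z : ℤ) (s : Γ(cc U M n, V)) (σ : Fin (n + 1) → ι) :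
    tf U M (z • s) σ = z • tf U M s σ := by
  change toF (Ot U n) M (z • s) σ = _
  rw [map_zsmul]
  rfl

theorem tm_add {N n : ℕ} {V : X.Opens} (s t : Γ(cc U F n, V)) (σ : Fin (N + 1) → ι) (φ ψ : ℕ → ℕ) :
    tm U g (s + t) σ φ ψ = tm U g s σ φ ψ + tm U g t σ φ ψ := by
  unfold tm
  rw [tf_add', map_add, tf_add', map_add]

theorem tm_congr {N n : ℕ} {V : X.Opens} (s : Γ(cc U F n, V)) (σ : Fin (N + 1) → ι) {φ ψ φ' ψ' : ℕ → ℕ}
    (h : ∀ a ≤ n, φ a = φ' a) (h' : ∀ a ≤ m, ψ a = ψ' a) : tm U g s σ φ ψ = tm U g s σ φ' ψ' := by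
  have h1 : tp n (sq σ) φ = tp n (sq σ) φ' := tp_congr h
  have h2 : tp m (sq σ) ψ = tp m (sq σ) ψ' := tp_congr h'
  have key : ∀ (τ τ' : Fin (n + 1) → ι) (υ υ' : Fin (m + 1) → ι) (e : τ = τ') (e' : υ = υ')
      (l : V ⊓ Ot U N σ ≤ (V ⊓ Ot U n τ) ⊓ Ot U m υ) (l' : V ⊓ Ot U N σ ≤ (V ⊓ Ot U n τ') ⊓ Ot U m υ'),
      res W l (tf U W (g.app (V ⊓ Ot U n τ) (tf U F s τ)) υ) =
        res W l' (tf U W (g.app (V ⊓ Ot U n τ') (tf U F s τ')) υ') := by
    rintro τ _ υ _ rfl rfl l l'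
    rfl
  exact key _ _ _ _ h1 h2 _ _

theorem tf_res {n : ℕ} {V V' : X.Opens} (h : V' ≤ V) (s : Γ(cc U F n, V)) (σ : Fin (n + 1) → ι) :
    tf U F (res (cc U F n) h s) σ = res F (inf_le_inf_right _ h) (tf U F s σ) := rfl

theorem tf_smul {n : ℕ} {V : X.Opens} (r : Γ(X, V)) (s : Γ(cc U F n, V)) (σ : Fin (n + 1) → ι) :
    tf U F (r • s) σ = resO (inf_le_left : V ⊓ Ot U n σ ≤ V) r • tf U F s σ := rfl

theorem tm_res {N n : ℕ} {V V' : X.Opens} (h : V' ≤ V) (s : Γ(cc U F n, V)) (σ : Fin (N + 1) → ι)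
    (φ ψ : ℕ → ℕ) : tm U g (res (cc U F n) h s) σ φ ψ = res W (inf_le_inf_right _ h) (tm U g s σ φ ψ) := by
  unfold tm
  rw [tf_res, app_res, tf_res, res_res, res_res]

theorem tm_smul {N n : ℕ} {V : X.Opens} (r : Γ(X, V)) (s : Γ(cc U F n, V)) (σ : Fin (N + 1) → ι)
    (φ ψ : ℕ → ℕ) : tm U g (r • s) σ φ ψ = resO (inf_le_left : V ⊓ Ot U N σ ≤ V) r • tm U g s σ φ ψ := by
  unfold tm
  rw [tf_smul, Scheme.Modules.Hom.app_smul, tf_smul, res_smul, resO_resO, resO_resO]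

/-- The cup product with `g`. -/
noncomputable def cup (n : ℕ) : cc U F n ⟶ cc U W (m + n) :=
  hom (fun V => (toF (Ot U (m + n)) W).symm.toAddMonoidHom.comp
      (AddMonoidHom.mk' (fun s σ => tm U g s σ id (fun a => n + a)) (fun s t => by
        funext σ
        exact tm_add U g s t σ _ _)))
    (fun V r s => by
      apply sec_ext'
      intro σ
      exact tm_smul U g r s σ _ _)
    (fun {V V'} h s => by
      apply sec_ext'
      intro σ
      exact tm_res U g h s σ _ _)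

theorem cup_app (n : ℕ) {V : X.Opens} (s : Γ(cc U F n, V)) (σ : Fin (m + n + 1) → ι) :
    tf U W ((cup U g n).app V s) σ = tm U g s σ id (fun a => n + a) := rfl

theorem tm_face {N n : ℕ} {V : X.Opens} (s : Γ(cc U F n, V)) (σ : Fin (N + 2) → ι) (j : Fin (N + 2))
    (φ ψ : ℕ → ℕ) (hφ : ∀ a ≤ n, φ a ≤ N) (hψ : ∀ a ≤ m, ψ a ≤ N) :
    res W (inf_le_inf_left V (Ot_face U σ j)) (tm U g s (σ ∘ j.succAbove) φ ψ) =
      tm U g s σ (fun a => sk j (φ a)) (fun a => sk j (ψ a)) := by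
  have key : ∀ (τ : Fin (N + 1) → ι) (l : Ot U (N + 1) σ ≤ Ot U N τ) (e : τ = tp N (sq σ) (sk j)),
      res W (inf_le_inf_left V l) (tm U g s τ φ ψ) =
      tm U g s σ (fun a => sk j (φ a)) (fun a => sk j (ψ a)) := by
    rintro _ l rfl
    unfold tm
    rw [res_res]
    have key2 : ∀ (τ τ' : Fin (n + 1) → ι) (υ υ' : Fin (m + 1) → ι) (e : τ = τ') (e' : υ = υ')
        (l : V ⊓ Ot U (N + 1) σ ≤ (V ⊓ Ot U n τ) ⊓ Ot U m υ)
        (l' : V ⊓ Ot U (N + 1) σ ≤ (V ⊓ Ot U n τ') ⊓ Ot U m υ'),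
        res W l (tf U W (g.app (V ⊓ Ot U n τ) (tf U F s τ)) υ) =
          res W l' (tf U W (g.app (V ⊓ Ot U n τ') (tf U F s τ')) υ') := by
      rintro τ _ υ _ rfl rfl l l'
      rfl
    exact key2 _ _ _ _ (tp_tp σ _ _ hφ) (tp_tp σ _ _ hψ) _ _
  exact key _ (Ot_face U σ j) (comp_succAbove σ j)

/-- Leibniz rule. -/
theorem cup_dd (hg : g ≫ dd U W m = 0) (n : ℕ) : cup U g n ≫ dd U W (m + n) = dd U F n ≫ cup U g (n + 1) := by
  apply hom_ext
  intro V s
  apply sec_ext'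
  intro σ
  rw [app_comp, app_comp, dd_app]
  -- the left hand side
  have hL : ∀ j : Fin (m + n + 2), (-1 : ℤ) ^ (j : ℕ) • res W (inf_le_inf_left V (Ot_face U σ j))
      (tf U W ((cup U g n).app V s) (σ ∘ j.succAbove)) =
      (fun j : ℕ => (-1 : ℤ) ^ j • tm U g s σ (sk j) (fun a => sk j (n + a))) j := by
    intro j
    dsimp only
    congr 1
    exact tm_face U g s σ j _ _ (fun a ha => by change a ≤ _; omega) (fun a ha => by omega)
  refine ((Finset.sum_congr rfl fun j _ => hL j).trans (Fin.sum_univ_eq_sum_range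
    (fun j : ℕ => (-1 : ℤ) ^ j • tm U g s σ (sk j) (fun a => sk j (n + a))) (m + n + 2))).trans ?_
  rw [show m + n + 2 = (n + 1) + (m + 1) by omega, Finset.sum_range_add]
  -- the right hand side
  have hR : tf U W ((cup U g (n + 1)).app V ((dd U F n).app V s)) σ =
      ∑ j ∈ Finset.range (n + 2), (-1 : ℤ) ^ j • tm U g s σ (sk j) (fun a => n + 1 + a) := by
    rw [cup_app]
    unfold tm
    rw [dd_app, map_sum]
    change res W _ (toF (Ot U m) W (∑ j : Fin (n + 2), _) _) = _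
    rw [map_sum, Finset.sum_apply, map_sum, ← Fin.sum_univ_eq_sum_range
      (fun j => (-1 : ℤ) ^ j • res W (le_inf (inf_le_inf_left V (Ot_tp U σ n (sk j)))
        (inf_le_right.trans (Ot_tp U σ m _))) (tf U W (g.app (V ⊓ Ot U n (tp n (sq σ) (sk j)))
        (tf U F s (tp n (sq σ) (sk j)))) (tp m (sq σ) (fun a => n + 1 + a))))]
    refine Finset.sum_congr rfl fun j _ => ?_
    rw [map_zsmul]
    refine (congrArg (res W _) (tf_zsmul U _ _ _)).trans ?_
    rw [map_zsmul]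
    congr 1
    rw [app_res, tf_res, res_res]
    have key : ∀ (τ τ' : Fin (n + 1) → ι) (υ : Fin (m + 1) → ι) (e : τ = τ')
        (l : V ⊓ Ot U (m + n + 1) σ ≤ (V ⊓ Ot U n τ) ⊓ Ot U m υ)
        (l' : V ⊓ Ot U (m + n + 1) σ ≤ (V ⊓ Ot U n τ') ⊓ Ot U m υ),
        res W l (tf U W (g.app (V ⊓ Ot U n τ) (tf U F s τ)) υ) =
          res W l' (tf U W (g.app (V ⊓ Ot U n τ') (tf U F s τ')) υ) := by
      rintro τ _ υ rfl l l'
      rfl
    refine key _ _ _ ?_ _ _
    rw [comp_succAbove]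
    refine (tp_tp σ _ _ fun a ha => sk_le ha).trans ?_
    rfl
  refine Eq.trans ?_ hR.symm
  rw [Finset.sum_range_succ (n := n + 1)]
  -- the relation from `g ≫ dd = 0`
  have hG : ∑ i ∈ Finset.range (m + 2), (-1 : ℤ) ^ i • tm U g s σ id (fun a => n + sk i a) = 0 := by
    have h0 : tf U W ((dd U W m).app _ (g.app (V ⊓ Ot U n (tp n (sq σ) id)) (tf U F s (tp n (sq σ) id))))
        (tp (m + 1) (sq σ) (fun a => n + a)) = 0 := by
      rw [← app_comp, hg]
      rfl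
    rw [dd_app] at h0
    have h1 := congrArg (res W (le_inf (inf_le_inf_left V (Ot_tp U σ n id))
      (inf_le_right.trans (Ot_tp U σ (m + 1) (fun a => n + a))) :
      V ⊓ Ot U (m + n + 1) σ ≤ (V ⊓ Ot U n (tp n (sq σ) id)) ⊓ Ot U (m + 1) (tp (m + 1) (sq σ) (fun a => n + a)))) h0
    rw [map_zero, map_sum] at h1
    rw [← h1, ← Fin.sum_univ_eq_sum_range (fun i => (-1 : ℤ) ^ i • tm U g s σ id (fun a => n + sk i a))]
    refine Finset.sum_congr rfl fun j _ => ?_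
    rw [map_zsmul, res_res]
    congr 1
    unfold tm
    refine res_tuple U W _ ?_ _ _
    rw [comp_succAbove]
    exact (tp_tp σ _ _ fun a ha => sk_le ha).symm
  rw [Finset.sum_range_succ'] at hG
  refine congrArg₂ _ (Finset.sum_congr rfl fun j hj => ?_) ?_
  · have hj' := Finset.mem_range.mp hj
    congr 1
    exact tm_congr U g s σ (fun a _ => rfl) (fun a _ => by rw [sk_ge (by omega)]; omega)
  · have h2 : ∀ i ∈ Finset.range (m + 1), (-1 : ℤ) ^ (n + 1 + i) •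
        tm U g s σ (sk (n + 1 + i)) (fun a => sk (n + 1 + i) (n + a)) =
        (-1 : ℤ) ^ n • ((-1 : ℤ) ^ (i + 1) • tm U g s σ id (fun a => n + sk (i + 1) a)) := by
      intro i _
      rw [smul_smul, ← pow_add, show n + 1 + i = n + (i + 1) by omega]
      congr 1
      refine tm_congr U g s σ (fun a ha => sk_lt (by omega)) (fun a _ => ?_)
      unfold sk
      split_ifs <;> omega
    rw [Finset.sum_congr rfl h2, ← Finset.smul_sum, eq_neg_of_add_eq_zero_left hG, pow_zero, one_smul, pow_succ,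
      mul_neg_one, neg_smul, smul_neg]
    congr 2
    refine tm_congr U g s σ (fun a ha => ?_) (fun a _ => ?_)
    · change a = sk (n + 1) a
      rw [sk_lt (by omega)]
    · rw [sk_ge (by omega)]
      omega

/-- `aug ≫ cup g 0 = g`. -/
theorem aug_cup : aug U F ≫ cup U g 0 = g := by
  apply hom_ext
  intro V s
  apply sec_ext'
  intro σ
  rw [app_comp, cup_app]
  unfold tm
  rw [aug_app, app_res, tf_res, res_res]
  have h : tp m (sq σ) (fun a => 0 + a) = σ := by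
    refine Eq.trans ?_ (tp_id σ)
    exact tp_congr fun a _ => Nat.zero_add a
  rw [res_tuple U W _ h _ le_rfl, res_self]
  rfl

end Cup

section Chain

variable (hU : ⨆ i, U i = ⊤) {m : ℕ}

include hU in
theorem exists_lift {T : X.Modules} (q : ℕ) (g : T ⟶ cc U W q) (hg : g ≫ dd U W q = 0) :
    ∃ h : T ⟶ Zc U W q, h ≫ ic U W q = g := by
  have hS := shortExact U W hU q
  have := hS.mono_f
  have hg' : g ≫ pc U W q = 0 := by
    rw [← cancel_mono (ic U W (q + 1)), Category.assoc, pc_ic, hg, zero_comp]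
  exact ⟨hS.exact.lift g hg', hS.exact.lift_f g hg'⟩

include hU in
theorem mono_ic (q : ℕ) : Mono (ic U W q) := (shortExact U W hU q).mono_f

/-- The morphism of chains of degree `m` attached to `h : F ⟶ Z m`. -/
theorem exists_sh (h : F ⟶ Zc U W m) : ∃ α : ExtChain.Chain.SHom (chain U F hU) (chain U W hU) m,
    α.z 0 = h ∧ (∀ n, α.k n = cup U (h ≫ ic U W m) n) := by
  have hg : (h ≫ ic U W m) ≫ dd U W m = 0 := by rw [Category.assoc, ic_dd, comp_zero]
  have hz : ∀ n, ∃ z : Zc U F n ⟶ Zc U W (m + n), z ≫ ic U W (m + n) = ic U F n ≫ cup U (h ≫ ic U W m) n := by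
    intro n
    refine exists_lift U hU _ _ ?_
    rw [Category.assoc, cup_dd U _ hg, ← Category.assoc, ic_dd, zero_comp]
  choose z hz using hz
  have hm := fun q => mono_ic U (W := W) hU q
  refine ⟨{ z := z, k := fun n => cup U (h ≫ ic U W m) n, hi := fun n => (hz n).symm, hp := fun n => ?_ }, ?_,
    fun n => rfl⟩
  · have := hm (m + (n + 1))
    refine (cancel_mono (ic U W (m + (n + 1)))).mp ?_
    change (pc U F n ≫ z (n + 1)) ≫ _ = (cup U (h ≫ ic U W m) n ≫ pc U W (m + n)) ≫ _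
    rw [Category.assoc, hz, ← Category.assoc, pc_ic, Category.assoc]
    refine (cup_dd U _ hg n).symm.trans ?_
    congr 1
    exact (pc_ic U W (m + n)).symm
  · have := hm (m + 0)
    refine (cancel_mono (ic U W (m + 0))).mp ?_
    refine (hz 0).trans ?_
    exact aug_cup U (h ≫ ic U W m)

end Chain

end K854.CechMod
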