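import Groth.Agent.DeRhamSh.K854.CechCup

/-!
# The Leibniz rule for the Čech cup product

`cupN U g n N : cc U F n ⟶ cc U W N` for `g : F ⟶ cc U W m`; for `N = m + n`:
`cupN g n N ≫ dd = dd ≫ cupN g (n + 1) (N + 1) + (-1) ^ n • cupN (g ≫ dd) n (N + 1)`.
-/

set_option autoImplicit false
universe u

open CategoryTheory CategoryTheory.Limits AlgebraicGeometry Opposite TopologicalSpace
open Groth.Agent.LoccohB.GlueHom
open Groth.Agent.Lefpen.H278.SecSys (UI UI_anti UI_range)

namespace K854.CechMod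

variable {X : Scheme.{u}} {ι : Type} (U : ι → X.Opens) {F W : X.Modules} {m : ℕ} (g : F ⟶ cc U W m)

/-- The cup product with `g`, all degrees. -/
noncomputable def cupN (n N : ℕ) : cc U F n ⟶ cc U W N :=
  hom (fun V => (toF (Ot U N) W).symm.toAddMonoidHom.comp
      (AddMonoidHom.mk' (fun s σ => tm U g s σ id (fun a => n + a)) (fun s t => by
        funext σ
        exact tm_add U g s t σ _ _)))
    (fun V r s => by
      apply sec_ext'
      intro σ
      exact tm_smul U g r s σ _ _)
    (fun {V V'} h s => by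
      apply sec_ext'
      intro σ
      exact tm_res U g h s σ _ _)

theorem cupN_app (n N : ℕ) {V : X.Opens} (s : Γ(cc U F n, V)) (σ : Fin (N + 1) → ι) :
    tf U W ((cupN U g n N).app V s) σ = tm U g s σ id (fun a => n + a) := rfl

theorem cup_eq (n : ℕ) : cup U g n = cupN U g n (m + n) := rfl

/-- **Leibniz rule.** -/
theorem leibniz {n N : ℕ} (hN : m + n = N) {V : X.Opens} (s : Γ(cc U F n, V)) :
    (dd U W N).app V ((cupN U g n N).app V s) = (cupN U g (n + 1) (N + 1)).app V ((dd U F n).app V s) +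
      (-1 : ℤ) ^ n • (cupN U (g ≫ dd U W m) n (N + 1)).app V s := by
  subst hN
  apply sec_ext'
  intro σ
  rw [dd_app, tf_add', tf_zsmul]
  -- the left hand side
  have hL : ∀ j : Fin (m + n + 2), (-1 : ℤ) ^ (j : ℕ) • res W (inf_le_inf_left V (Ot_face U σ j))
      (tf U W ((cupN U g n (m + n)).app V s) (σ ∘ j.succAbove)) =
      (fun j : ℕ => (-1 : ℤ) ^ j • tm U g s σ (sk j) (fun a => sk j (n + a))) j := by
    intro j
    dsimp only
    congr 1
    exact tm_face U g s σ j _ _ (fun a ha => by change a ≤ _; omega) (fun a ha => by omega)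
  refine ((Finset.sum_congr rfl fun j _ => hL j).trans (Fin.sum_univ_eq_sum_range
    (fun j : ℕ => (-1 : ℤ) ^ j • tm U g s σ (sk j) (fun a => sk j (n + a))) (m + n + 2))).trans ?_
  rw [show m + n + 2 = (n + 1) + (m + 1) by omega, Finset.sum_range_add]
  -- the right hand side
  have hR : tf U W ((cupN U g (n + 1) (m + n + 1)).app V ((dd U F n).app V s)) σ =
      ∑ j ∈ Finset.range (n + 2), (-1 : ℤ) ^ j • tm U g s σ (sk j) (fun a => n + 1 + a) := by
    rw [cupN_app]
    unfold tm
    rw [dd_app, map_sum]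
    change res W _ (toF (Ot U m) W (∑ j : Fin (n + 2), _) _) = _
    rw [map_sum, Finset.sum_apply, map_sum, ← Fin.sum_univ_eq_sum_range
      (fun j => (-1 : ℤ) ^ j • res W (le_inf (inf_le_inf_left V (Ot_tp U σ n (sk j)))
        (inf_le_right.trans (Ot_tp U σ m _))) (tf U W (g.app (V ⊓ Ot U n (tp n (sq σ) (sk j)))
        (tf U F s (tp n (sq σ) (sk j)))) (tp m (sq σ) (fun a => n + 1 + a))))]
    refine Finset.sum_congr rfl fun j _ => ?_
    rw [map_zsmul]
    refine (congrArg (res W _) (tf_zsmul U _ _ _)).trans ?_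
    rw [map_zsmul]
    congr 1
    rw [app_res, tf_res, res_res]
    have key : ∀ (τ τ' : Fin (n + 1) → ι) (υ : Fin (m + 1) → ι) (e : τ = τ')
        (l : V ⊓ Ot U (m + n + 1) σ ≤ (V ⊓ Ot U n τ) ⊓ Ot U m υ)
        (l' : V ⊓ Ot U (m + n + 1) σ ≤ (V ⊓ Ot U n τ') ⊓ Ot U m υ),
        res W l (tf U W (g.app (V ⊓ Ot U n τ) (tf U F s τ)) υ) =
          res W l' (tf U W (g.app (V ⊓ Ot U n τ') (tf U F s τ')) υ) := by
      rintro τ _ υ rfl l l'
      rfl
    refine key _ _ _ ?_ _ _
    rw [comp_succAbove]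
    refine (tp_tp σ _ _ fun a ha => sk_le ha).trans ?_
    rfl
  refine Eq.trans ?_ (congrArg₂ (· + ·) hR.symm rfl)
  rw [Finset.sum_range_succ (n := n + 1)]
  -- the relation from `g ≫ dd`
  have hG : ∑ i ∈ Finset.range (m + 2), (-1 : ℤ) ^ i • tm U g s σ id (fun a => n + sk i a) =
      tf U W ((cupN U (g ≫ dd U W m) n (m + n + 1)).app V s) σ := by
    rw [cupN_app]
    unfold tm
    rw [app_comp, dd_app, map_sum, ← Fin.sum_univ_eq_sum_range (fun i => (-1 : ℤ) ^ i •
      res W (le_inf (inf_le_inf_left V (Ot_tp U σ n id)) (inf_le_right.trans (Ot_tp U σ m _)))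
        (tf U W (g.app (V ⊓ Ot U n (tp n (sq σ) id)) (tf U F s (tp n (sq σ) id)))
          (tp m (sq σ) (fun a => n + sk i a))))]
    refine Finset.sum_congr rfl fun j _ => ?_
    rw [map_zsmul, res_res]
    congr 1
    refine (res_tuple U W _ ?_ _ _).symm
    rw [comp_succAbove]
    exact tp_tp σ _ _ fun a ha => sk_le ha
  rw [← hG, Finset.sum_range_succ' (n := m + 1), smul_add]
  refine Eq.trans ?_ (add_assoc _ _ _).symm
  refine congrArg₂ _ (Finset.sum_congr rfl fun j hj => ?_) ?_
  · have hj' := Finset.mem_range.mp hj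
    congr 1
    exact tm_congr U g s σ (fun a _ => rfl) (fun a _ => by rw [sk_ge (by omega)]; omega)
  · have h2 : ∀ i ∈ Finset.range (m + 1), (-1 : ℤ) ^ (n + 1 + i) •
        tm U g s σ (sk (n + 1 + i)) (fun a => sk (n + 1 + i) (n + a)) =
        (-1 : ℤ) ^ n • ((-1 : ℤ) ^ (i + 1) • tm U g s σ id (fun a => n + sk (i + 1) a)) := by
      intro i _
      rw [smul_smul, ← pow_add, show n + 1 + i = n + (i + 1) by omega]
      congr 1
      refine tm_congr U g s σ (fun a ha => sk_lt (by omega)) (fun a _ => ?_)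
      unfold sk
      split_ifs <;> omega
    have h3 : tm U g s σ (sk (n + 1)) (fun a => n + 1 + a) = tm U g s σ id (fun a => n + sk 0 a) := by
      refine tm_congr U g s σ (fun a ha => ?_) (fun a _ => ?_)
      · change sk (n + 1) a = a
        rw [sk_lt (by omega)]
      · rw [sk_ge (by omega)]
        omega
    rw [Finset.sum_congr rfl h2, ← Finset.smul_sum, h3, pow_succ, mul_neg_one, neg_smul, pow_zero, one_smul]
    abel

end K854.CechMod
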