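import Mathlib.Algebra.Homology.DerivedCategory.Ext.ExactSequences
import Mathlib.Algebra.Homology.DerivedCategory.Ext.ExtClass

/-!
# Classes in `Ext` of a chain of short exact sequences

`Chain C`: short exact sequences `0 → Z n → K n → Z (n+1) → 0`, `n : ℕ`.  `cls n : Ext (Z n) (Z 0) n` is the Yoneda
class, and `cl n f = f ∘ cls n : Ext T (Z 0) n` for `f : T ⟶ Z n`.
-/

set_option autoImplicit false

universe w v u

open CategoryTheory CategoryTheory.Limits CategoryTheory.Abelian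

namespace K854.ExtChain

variable (C : Type u) [Category.{v} C] [Abelian C]

/-- Short exact sequences `0 → Z n → K n → Z (n+1) → 0`. -/
structure Chain where
  Z : ℕ → C
  K : ℕ → C
  i : ∀ n, Z n ⟶ K n
  p : ∀ n, K n ⟶ Z (n + 1)
  w : ∀ n, i n ≫ p n = 0
  se : ∀ n, (ShortComplex.mk (i n) (p n) (w n)).ShortExact

variable {C} [HasExt.{w} C] (R R' : Chain C)

namespace Chain

/-- The Yoneda class of `Z n → Z 0`. -/
noncomputable def cls : ∀ n, Ext.{w} (R.Z n) (R.Z 0) n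
  | 0 => Ext.mk₀ (𝟙 _)
  | n + 1 => (R.se n).extClass.comp (cls n) (add_comm 1 n)

theorem cls_zero : R.cls 0 = Ext.mk₀ (𝟙 _) := rfl

theorem cls_succ (n : ℕ) : R.cls (n + 1) = (R.se n).extClass.comp (R.cls n) (add_comm 1 n) := rfl

variable (T : C)

/-- The class of `f : T ⟶ Z n`. -/
noncomputable def cl (n : ℕ) : (T ⟶ R.Z n) →+ Ext.{w} T (R.Z 0) n where
  toFun f := (Ext.mk₀ f).comp (R.cls n) (zero_add n)
  map_zero' := by rw [Ext.mk₀_zero, Ext.zero_comp]
  map_add' f g := by rw [Ext.mk₀_add, Ext.add_comp]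

theorem cl_apply (n : ℕ) (f : T ⟶ R.Z n) : R.cl T n f = (Ext.mk₀ f).comp (R.cls n) (zero_add n) := rfl

theorem cl_comp {T' : C} (g : T' ⟶ T) (n : ℕ) (f : T ⟶ R.Z n) :
    R.cl T' n (g ≫ f) = (Ext.mk₀ g).comp (R.cl T n f) (zero_add n) := by
  rw [cl_apply, cl_apply, ← Ext.mk₀_comp_mk₀]
  exact Ext.comp_assoc _ _ _ _ _ (by omega)

theorem cl_zero_eq (f : T ⟶ R.Z 0) : R.cl T 0 f = Ext.mk₀ f := by
  rw [cl_apply, cls_zero, Ext.mk₀_comp_mk₀, Category.comp_id]

theorem cl_p (n : ℕ) (g : T ⟶ R.K n) : R.cl T (n + 1) (g ≫ R.p n) = 0 := by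
  rw [cl_apply, ← Ext.mk₀_comp_mk₀, cls_succ, Ext.comp_assoc_of_second_deg_zero,
    ← Ext.comp_assoc (Ext.mk₀ (R.p n)) (R.se n).extClass (R.cls n) (zero_add 1) (add_comm 1 n) (by omega)]
  have h := (R.se n).comp_extClass
  have h' : (Ext.mk₀ (R.p n)).comp (R.se n).extClass (zero_add 1) = 0 := h
  rw [h', Ext.zero_comp, Ext.comp_zero]

variable {T}

/-- `T` is acyclic for the middle terms. -/
def Acyc (T : C) : Prop := ∀ n q : ℕ, Subsingleton (Ext.{w} T (R.K n) (q + 1))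

variable {R}

/-- composition with `cls n` in positive degrees is injective and surjective -/
theorem comp_ext_surjective (hT : R.Acyc T) (n q : ℕ) (x : Ext.{w} T (R.Z n) (q + 1)) :
    ∃ y : Ext.{w} T (R.Z (n + 1)) q, y.comp (R.se n).extClass rfl = x := by
  have : Subsingleton (Ext.{w} T (R.K n) (q + 1)) := hT n q
  exact Ext.covariant_sequence_exact₁ T (R.se n) x (Subsingleton.elim _ _) rfl

theorem comp_ext_injective (hT : R.Acyc T) (n q : ℕ) (y : Ext.{w} T (R.Z (n + 1)) (q + 1))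
    (hy : y.comp (R.se n).extClass (rfl : q + 1 + 1 = q + 1 + 1) = 0) : y = 0 := by
  obtain ⟨x, hx⟩ := Ext.covariant_sequence_exact₃ T (R.se n) y rfl hy
  have : Subsingleton (Ext.{w} T (R.K n) (q + 1)) := hT n q
  rw [← hx, Subsingleton.elim x 0, Ext.zero_comp]

theorem comp_cls_surjective (hT : R.Acyc T) (n q : ℕ) (x : Ext.{w} T (R.Z 0) (q + n)) :
    ∃ y : Ext.{w} T (R.Z n) q, y.comp (R.cls n) rfl = x := by
  induction n generalizing q with
  | zero => exact ⟨x, by rw [cls_zero]; exact Ext.comp_mk₀_id _⟩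
  | succ n ih =>
    obtain ⟨y, hy⟩ := ih (q + 1) (x.comp (Ext.mk₀ (𝟙 _)) (by omega))
    obtain ⟨z, hz⟩ := comp_ext_surjective hT n q y
    refine ⟨z, ?_⟩
    rw [cls_succ, ← Ext.comp_assoc z (R.se n).extClass (R.cls n) rfl (add_comm 1 n) (by omega), hz]
    have h : ∀ (a b : ℕ) (hab : a = b) (h1 : q + 1 + n = a) (h2 : q + 1 + n = b) (h3 : b + 0 = a) (x : Ext.{w} T (R.Z 0) b),
        y.comp (R.cls n) h1 = x.comp (Ext.mk₀ (𝟙 _)) h3 → y.comp (R.cls n) h2 = x := by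
      rintro a _ rfl h1 h2 h3 x h
      exact h.trans (Ext.comp_mk₀_id _)
    exact h _ _ (by omega) rfl (by omega) _ x hy

theorem comp_cls_injective (hT : R.Acyc T) (n q : ℕ) (y : Ext.{w} T (R.Z n) (q + 1))
    (hy : y.comp (R.cls n) (rfl : q + 1 + n = q + 1 + n) = 0) : y = 0 := by
  induction n generalizing q with
  | zero => rw [cls_zero] at hy; exact (Ext.comp_mk₀_id y).symm.trans hy
  | succ n ih =>
    apply comp_ext_injective hT n q
    apply ih (q + 1)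
    rw [cls_succ, ← Ext.comp_assoc y (R.se n).extClass (R.cls n) rfl (add_comm 1 n) (by omega)] at hy
    have h : ∀ (a b : ℕ) (hab : a = b) (h1 : q + 1 + 1 + n = a) (h2 : q + 1 + 1 + n = b),
        (y.comp (R.se n).extClass (rfl : q + 1 + 1 = q + 1 + 1)).comp (R.cls n) h1 = 0 →
        (y.comp (R.se n).extClass (rfl : q + 1 + 1 = q + 1 + 1)).comp (R.cls n) h2 = 0 := by
      rintro a _ rfl h1 h2 h
      exact h
    exact h _ _ (by omega) _ rfl hy

theorem cl_surjective (hT : R.Acyc T) (n : ℕ) : Function.Surjective (R.cl T n) := by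
  intro x
  obtain ⟨y, hy⟩ := comp_cls_surjective hT n 0 (x.comp (Ext.mk₀ (𝟙 _)) (by omega))
  obtain ⟨f, rfl⟩ := Ext.homEquiv₀.symm.surjective y
  refine ⟨f, ?_⟩
  have h : ∀ (a b : ℕ) (hab : a = b) (h1 : 0 + n = a) (h2 : 0 + n = b) (h3 : b + 0 = a) (x : Ext.{w} T (R.Z 0) b),
      (Ext.mk₀ f).comp (R.cls n) h1 = x.comp (Ext.mk₀ (𝟙 _)) h3 → (Ext.mk₀ f).comp (R.cls n) h2 = x := by
    rintro a _ rfl h1 h2 h3 x h
    exact h.trans (Ext.comp_mk₀_id _)
  exact h _ _ (by omega) (by omega) (by omega) (by omega) x hy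

theorem cl_eq_zero (hT : R.Acyc T) (n : ℕ) (f : T ⟶ R.Z (n + 1)) (hf : R.cl T (n + 1) f = 0) :
    ∃ g : T ⟶ R.K n, g ≫ R.p n = f := by
  rw [cl_apply, cls_succ, ← Ext.comp_assoc (Ext.mk₀ f) (R.se n).extClass (R.cls n) (zero_add 1) (add_comm 1 n)
    (by omega)] at hf
  have h1 : (Ext.mk₀ f).comp (R.se n).extClass (zero_add 1) = 0 := by
    apply comp_cls_injective hT n 0
    have h : ∀ (a b : ℕ) (hab : a = b) (h1 : 1 + n = a) (h2 : 1 + n = b),
        ((Ext.mk₀ f).comp (R.se n).extClass (zero_add 1)).comp (R.cls n) h1 = 0 →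
        ((Ext.mk₀ f).comp (R.se n).extClass (zero_add 1)).comp (R.cls n) h2 = 0 := by
      rintro a _ rfl h1 h2 h
      exact h
    exact h _ _ (by omega) _ _ hf
  obtain ⟨x, hx⟩ := Ext.covariant_sequence_exact₃ T (R.se n) (Ext.mk₀ f) (zero_add 1) h1
  obtain ⟨g, rfl⟩ := Ext.homEquiv₀.symm.surjective x
  refine ⟨g, ?_⟩
  have hx' : (Ext.mk₀ g).comp (Ext.mk₀ (R.p n)) (add_zero 0) = Ext.mk₀ f := hx
  rw [Ext.mk₀_comp_mk₀] at hx'
  exact Ext.homEquiv₀.symm.injective hx'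

section Shift

variable {R'}

/-- A morphism of chains of degree `m`. -/
structure SHom (R R' : Chain C) (m : ℕ) where
  z : ∀ n, R.Z n ⟶ R'.Z (m + n)
  k : ∀ n, R.K n ⟶ R'.K (m + n)
  hi : ∀ n, R.i n ≫ k n = z n ≫ R'.i (m + n)
  hp : ∀ n, R.p n ≫ z (n + 1) = k n ≫ R'.p (m + n)

variable {m : ℕ} (α : SHom R R' m)

theorem SHom.comm (n : ℕ) : (Ext.mk₀ (α.z n)).comp (R'.cls (m + n)) (zero_add _) =
    (R.cls n).comp ((Ext.mk₀ (α.z 0)).comp (R'.cls m) (zero_add m)) (add_comm n m) := by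
  induction n with
  | zero =>
    rw [cls_zero, Ext.mk₀_id_comp]
    rfl
  | succ n ih =>
    let φ : ShortComplex.mk (R.i n) (R.p n) (R.w n) ⟶ ShortComplex.mk (R'.i (m + n)) (R'.p (m + n)) (R'.w (m + n)) :=
      { τ₁ := α.z n
        τ₂ := α.k n
        τ₃ := α.z (n + 1)
        comm₁₂ := (α.hi n).symm
        comm₂₃ := (α.hp n).symm }
    have h1 : (R.se n).extClass.comp (Ext.mk₀ (α.z n)) (add_zero 1) =
      (Ext.mk₀ (α.z (n + 1))).comp (R'.se (m + n)).extClass (zero_add 1) :=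
      ShortComplex.ShortExact.extClass_naturality (R.se n) (R'.se (m + n)) φ
    have h2 : R'.cls (m + (n + 1)) = (R'.se (m + n)).extClass.comp (R'.cls (m + n)) (add_comm 1 (m + n)) := rfl
    rw [h2, ← Ext.comp_assoc (Ext.mk₀ (α.z (n + 1))) (R'.se (m + n)).extClass (R'.cls (m + n)) (zero_add 1)
      (add_comm 1 (m + n)) (by omega), ← h1,
      Ext.comp_assoc (R.se n).extClass (Ext.mk₀ (α.z n)) (R'.cls (m + n)) (add_zero 1) (zero_add _) (by omega), ih,
      cls_succ]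
    exact (Ext.comp_assoc (R.se n).extClass (R.cls n) ((Ext.mk₀ (α.z 0)).comp (R'.cls m) (zero_add m)) (add_comm 1 n)
      (add_comm n m) (by omega)).symm

/-- The class of a composite with a morphism of chains. -/
theorem SHom.cl_comp (n : ℕ) (f : T ⟶ R.Z n) : R'.cl T (m + n) (f ≫ α.z n) =
    (R.cl T n f).comp (R'.cl (R.Z 0) m (α.z 0)) (add_comm n m) := by
  rw [cl_apply, ← Ext.mk₀_comp_mk₀, Ext.comp_assoc_of_second_deg_zero, α.comm, cl_apply, cl_apply]
  exact (Ext.comp_assoc (Ext.mk₀ f) (R.cls n) ((Ext.mk₀ (α.z 0)).comp (R'.cls m) (zero_add m)) (zero_add n)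
    (add_comm n m) (by omega)).symm

end Shift

end Chain

end K854.ExtChain
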