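import Groth.Agent.StMod.K908.MkMod
import Groth.Agent.LoccohB.GlueHom
import Groth.Agent.PerfB.ModExact
import Groth.Agent.Lefpen.H278.SecSys
import Groth.Agent.DeRhamSh.K854.ExtChain

/-!
# The sheaf-level Čech resolution of an `O_X`-module

`JJ O G`: the module `V ↦ ∏_c Γ(G, V ⊓ O c)`.  `cc U G p`: the Čech modules of a family `U : ι → X.Opens`
(full cochains), `dd` the differential, `chain`: for a cover, the short exact sequences
`0 → Z p → cc p → Z (p+1) → 0` with `Z 0 = G`, `Z (p+1) = ker dd`.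
-/

set_option autoImplicit false
universe u

open CategoryTheory CategoryTheory.Limits AlgebraicGeometry Opposite TopologicalSpace
open Groth.Agent.LoccohB.GlueHom
open Groth.Agent.Lefpen.H278.SecSys (UI UI_anti UI_range)

namespace K854.CechMod

variable {X : Scheme.{u}}

section JJ

variable {κ : Type} (O : κ → X.Opens) (G : X.Modules)

/-- The data of the module `V ↦ ∏_c Γ(G, V ⊓ O c)`. -/
noncomputable def dat : K908.MkMod.Data X where
  sec V := ∀ c : κ, Γ(G, V ⊓ O c)
  grp V := Pi.addCommGroup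
  mod V := @Pi.module κ (fun c => Γ(G, V ⊓ O c)) Γ(X, V) _ _
    (fun c => Module.compHom _ (resO (inf_le_left : V ⊓ O c ≤ V)))
  res {V W} h := AddMonoidHom.mk' (fun s c => res G (inf_le_inf_right _ h) (s c)) (fun s t => by
    funext c; exact map_add _ _ _)
  res_self {V} h s := by
    funext c
    exact res_self G _ _
  res_res {V W Z} h h' s := by
    funext c
    exact res_res G _ _ _
  res_smul {V W} h r s := by
    funext c
    change res G (inf_le_inf_right _ h) (resO (inf_le_left : V ⊓ O c ≤ V) r • s c) =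
      resO (inf_le_left : W ⊓ O c ≤ W) (resO h r) • res G (inf_le_inf_right _ h) (s c)
    rw [res_smul, resO_resO, resO_resO]
  glue {ι} V s hs := by
    have key : ∀ c : κ, ∃! t : Γ(G, iSup V ⊓ O c), ∀ i,
        res G (inf_le_inf_right _ (le_iSup V i)) t = s i c := by
      intro c
      obtain ⟨t, ht, hu⟩ := TopCat.Sheaf.existsUnique_gluing' (⟨G.presheaf, G.isSheaf⟩ : TopCat.Sheaf Ab X)
        (fun i => V i ⊓ O c) (iSup V ⊓ O c) (fun i => homOfLE (inf_le_inf_right _ (le_iSup V i)))
        (by rw [iSup_inf_eq]) (fun i => s i c) (fun i j => by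
          have h1 := congrFun (hs i j) c
          change res G _ (s i c) = res G _ (s j c) at h1
          have h2 := congrArg (res G (le_inf (inf_le_inf inf_le_left inf_le_left) (inf_le_left.trans inf_le_right) :
            (V i ⊓ O c) ⊓ (V j ⊓ O c) ≤ (V i ⊓ V j) ⊓ O c)) h1
          rw [res_res, res_res] at h2
          exact h2)
      exact ⟨t, ht, hu⟩
    choose t ht hu using key
    refine ⟨t, fun i => funext fun c => ht c i, fun t' ht' => funext fun c => hu c (t' c) fun i => congrFun (ht' i) c⟩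

/-- The module `V ↦ ∏_c Γ(G, V ⊓ O c)`. -/
noncomputable def JJ : X.Modules := K908.MkMod.mk (dat O G)

/-- Sections of `JJ O G` as families. -/
noncomputable def toF {V : X.Opens} : Γ(JJ O G, V) ≃+ ∀ c : κ, Γ(G, V ⊓ O c) where
  toFun s := s
  invFun s := s
  left_inv _ := rfl
  right_inv _ := rfl
  map_add' _ _ := rfl

theorem toF_res {V W : X.Opens} (h : W ≤ V) (s : Γ(JJ O G, V)) (c : κ) :
    toF O G (res (JJ O G) h s) c = res G (inf_le_inf_right _ h) (toF O G s c) := rfl

theorem toF_smul {V : X.Opens} (r : Γ(X, V)) (s : Γ(JJ O G, V)) (c : κ) :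
    toF O G (r • s) c = resO (inf_le_left : V ⊓ O c ≤ V) r • toF O G s c := rfl

end JJ

/-- Morphisms from families of additive maps. -/
noncomputable def hom {M N : X.Modules} (f : ∀ V : X.Opens, Γ(M, V) →+ Γ(N, V))
    (hs : ∀ (V : X.Opens) (r : Γ(X, V)) (x : Γ(M, V)), f V (r • x) = r • f V x)
    (hr : ∀ {V W : X.Opens} (h : W ≤ V) (x : Γ(M, V)), f W (res M h x) = res N h (f V x)) : M ⟶ N :=
  K908.MkMod.homMk f hs hr

theorem hom_app {M N : X.Modules} (f : ∀ V : X.Opens, Γ(M, V) →+ Γ(N, V))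
    (hs : ∀ (V : X.Opens) (r : Γ(X, V)) (x : Γ(M, V)), f V (r • x) = r • f V x)
    (hr : ∀ {V W : X.Opens} (h : W ≤ V) (x : Γ(M, V)), f W (res M h x) = res N h (f V x)) (V : X.Opens)
    (x : Γ(M, V)) : (hom f hs hr).app V x = f V x := rfl

theorem hom_ext {M N : X.Modules} {φ ψ : M ⟶ N} (h : ∀ (V : X.Opens) (x : Γ(M, V)), φ.app V x = ψ.app V x) :
    φ = ψ := by
  ext V x
  exact h V x

theorem app_comp {M N P : X.Modules} (φ : M ⟶ N) (ψ : N ⟶ P) (V : X.Opens) (x : Γ(M, V)) :
    (φ ≫ ψ).app V x = ψ.app V (φ.app V x) := rfl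

section Cech

variable {ι : Type} (U : ι → X.Opens) (G : X.Modules)

/-- The open attached to a tuple. -/
noncomputable def Ot (p : ℕ) (σ : Fin (p + 1) → ι) : X.Opens := UI U (Set.range σ)

theorem Ot_face {p : ℕ} (σ : Fin (p + 2) → ι) (j : Fin (p + 2)) : Ot U (p + 1) σ ≤ Ot U p (σ ∘ j.succAbove) :=
  UI_anti U (Set.range_comp_subset_range _ _)

/-- The Čech modules. -/
noncomputable abbrev cc (p : ℕ) : X.Modules := JJ (Ot U p) G

/-- Sections as families. -/
noncomputable abbrev tf {p : ℕ} {V : X.Opens} (s : Γ(cc U G p, V)) : ∀ σ : Fin (p + 1) → ι, Γ(G, V ⊓ Ot U p σ) :=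
  toF (Ot U p) G s

/-- Families as sections. -/
noncomputable abbrev ff {p : ℕ} {V : X.Opens} (s : ∀ σ : Fin (p + 1) → ι, Γ(G, V ⊓ Ot U p σ)) : Γ(cc U G p, V) :=
  (toF (Ot U p) G).symm s

theorem sec_ext' {p : ℕ} {V : X.Opens} {s t : Γ(cc U G p, V)} (h : ∀ σ, tf U G s σ = tf U G t σ) : s = t :=
  (toF (Ot U p) G).injective (funext h)

/-- The Čech differential. -/
noncomputable def dd (p : ℕ) : cc U G p ⟶ cc U G (p + 1) :=
  hom (fun V => (toF (Ot U (p + 1)) G).symm.toAddMonoidHom.comp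
      (AddMonoidHom.mk' (fun s σ => ∑ j : Fin (p + 2), (-1 : ℤ) ^ (j : ℕ) •
        res G (inf_le_inf_left V (Ot_face U σ j)) (tf U G s (σ ∘ j.succAbove)))
        (fun s t => by
          funext σ
          refine (Finset.sum_congr rfl fun j _ => ?_).trans Finset.sum_add_distrib
          refine Eq.trans ?_ (smul_add _ _ _)
          exact congrArg _ (map_add (res G _) _ _))))
    (fun V r s => by
      apply sec_ext'
      intro σ
      change ∑ j : Fin (p + 2), (-1 : ℤ) ^ (j : ℕ) • res G (inf_le_inf_left V (Ot_face U σ j))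
          (resO (inf_le_left : V ⊓ Ot U p (σ ∘ j.succAbove) ≤ V) r • tf U G s (σ ∘ j.succAbove)) =
        resO (inf_le_left : V ⊓ Ot U (p + 1) σ ≤ V) r • ∑ j : Fin (p + 2), (-1 : ℤ) ^ (j : ℕ) •
          res G (inf_le_inf_left V (Ot_face U σ j)) (tf U G s (σ ∘ j.succAbove))
      rw [Finset.smul_sum]
      refine Finset.sum_congr rfl fun j _ => ?_
      rw [res_smul, resO_resO, smul_comm])
    (fun {V W} h s => by
      apply sec_ext'
      intro σ
      change ∑ j : Fin (p + 2), (-1 : ℤ) ^ (j : ℕ) • res G _ (res G _ (tf U G s _)) =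
        res G _ (∑ j : Fin (p + 2), (-1 : ℤ) ^ (j : ℕ) • res G _ (tf U G s _))
      rw [map_sum]
      refine Finset.sum_congr rfl fun j _ => ?_
      rw [map_zsmul, res_res, res_res])

theorem dd_app (p : ℕ) {V : X.Opens} (s : Γ(cc U G p, V)) (σ : Fin (p + 2) → ι) :
    tf U G ((dd U G p).app V s) σ = ∑ j : Fin (p + 2), (-1 : ℤ) ^ (j : ℕ) •
      res G (inf_le_inf_left V (Ot_face U σ j)) (tf U G s (σ ∘ j.succAbove)) := rfl

/-- The augmentation. -/
noncomputable def aug : G ⟶ cc U G 0 :=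
  hom (fun V => (toF (Ot U 0) G).symm.toAddMonoidHom.comp
      (AddMonoidHom.mk' (fun s σ => res G inf_le_left s) (fun s t => by
        funext σ
        exact map_add _ _ _)))
    (fun V r s => by
      apply sec_ext'
      intro σ
      exact res_smul _ _ _ _)
    (fun {V W} h s => by
      apply sec_ext'
      intro σ
      change res G _ (res G _ s) = res G _ (res G _ s)
      rw [res_res, res_res])

theorem aug_app {V : X.Opens} (s : Γ(G, V)) (σ : Fin 1 → ι) :
    tf U G ((aug U G).app V s) σ = res G inf_le_left s := rfl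

/-- restriction of a family along an equality of tuples -/
theorem res_tuple {p : ℕ} {V W : X.Opens} (s : ∀ σ : Fin (p + 1) → ι, Γ(G, V ⊓ Ot U p σ)) {σ σ' : Fin (p + 1) → ι}
    (h : σ = σ') (hW : W ≤ V ⊓ Ot U p σ) (hW' : W ≤ V ⊓ Ot U p σ') : res G hW (s σ) = res G hW' (s σ') := by
  subst h
  rfl

theorem aug_dd : aug U G ≫ dd U G 0 = 0 := by
  apply hom_ext
  intro V s
  apply sec_ext'
  intro σ
  rw [app_comp, dd_app]
  simp only [aug_app, res_res]
  rw [Fin.sum_univ_two]
  simp only [Fin.val_zero, pow_zero, one_smul, Fin.val_one, pow_one, neg_smul]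
  exact add_neg_cancel _

theorem dd_dd (p : ℕ) : dd U G p ≫ dd U G (p + 1) = 0 := by
  apply hom_ext
  intro V s
  apply sec_ext'
  intro σ
  rw [app_comp, dd_app]
  change _ = (0 : Γ(G, V ⊓ Ot U (p + 2) σ))
  have h1 : ∀ i : Fin (p + 3), (-1 : ℤ) ^ (i : ℕ) • res G (inf_le_inf_left V (Ot_face U σ i))
      (tf U G ((dd U G p).app V s) (σ ∘ i.succAbove)) =
      ∑ j : Fin (p + 2), (-1 : ℤ) ^ ((i : ℕ) + (j : ℕ)) •
        res G (inf_le_inf_left V ((Ot_face U σ i).trans (Ot_face U (σ ∘ i.succAbove) j)))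
          (tf U G s ((σ ∘ i.succAbove) ∘ j.succAbove)) := by
    intro i
    rw [dd_app, map_sum, Finset.smul_sum]
    refine Finset.sum_congr rfl fun j _ => ?_
    rw [map_zsmul, res_res, smul_smul, pow_add]
  simp only [h1]
  rw [← Finset.sum_product', Finset.univ_product_univ]
  refine Finset.sum_involution (fun p _ => (p.1.succAbove p.2, p.2.predAbove p.1)) ?_ ?_ ?_ ?_
  · rintro ⟨i, j⟩ _
    dsimp only
    rw [Fin.neg_one_pow_succAbove_add_predAbove, neg_smul]
    have h : (σ ∘ (i.succAbove j).succAbove) ∘ (j.predAbove i).succAbove =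
        (σ ∘ i.succAbove) ∘ j.succAbove := by
      funext a
      exact congrArg σ (Fin.succAbove_succAbove_succAbove_predAbove i j a)
    rw [res_tuple U G (tf U G s) h _ (inf_le_inf_left V ((Ot_face U σ i).trans (Ot_face U (σ ∘ i.succAbove) j))),
      add_neg_cancel]
  · rintro ⟨i, j⟩ _ _ h
    exact Fin.succAbove_ne i j (congrArg Prod.fst h)
  · intro _ _; exact Finset.mem_univ _
  · rintro ⟨i, j⟩ _
    exact Prod.ext (Fin.succAbove_succAbove_predAbove i j) (Fin.predAbove_predAbove_succAbove i j)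

end Cech

end K854.CechMod
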