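import Groth.Agent.DeRhamSh.K854.CechAcyc
import Groth.Agent.Surf.K461.SerreDual
import Groth.Agent.Fdesc.LocGen

/-!
# The duality pairing on Čech cohomology

`cls : Z^n(U, M) → Ext^n(O, M)`, surjective with kernel the coboundaries, and the duality theorems `dual_injective`,
`dual_surjective` for the cup product with Čech cochains of homomorphisms.
-/

set_option autoImplicit false
universe u

open CategoryTheory CategoryTheory.Limits AlgebraicGeometry Opposite TopologicalSpace
open Groth.Agent Groth.Agent.LoccohB.GlueHom Groth.Agent.CurvesC Groth.Agent.CurvesC.RepX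
open Groth.Agent.CurvesC.DualLin K854.CechMod
open Groth.Agent.Lefpen.H278.SecSys (Sec)
open CategoryTheory.Abelian

attribute [local instance] HasDerivedCategory.standard LinMod.linearModules

namespace K854.CechPair

variable (k : Type u) [Field k] {X : Scheme.{u}} [X.Over (Spec (CommRingCat.of k))] {ι : Type}
  (U : ι → X.Opens)

noncomputable local instance (X : Scheme.{u}) : HasExt.{u + 1} X.Modules := HasExt.standard _

/-- Čech cochains. -/
abbrev Co (M : X.Modules) (n : ℕ) : Type u := Sec k (cc U M n) ⊤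

theorem smul_def (M : X.Modules) (V : X.Opens) (t : k) (s : Sec k M V) :
    t • s = (Fga.MumCech.glV k V t • (show Γ(M, V) from s) : Γ(M, V)) := rfl

/-- Morphisms are `k`-linear on sections. -/
noncomputable def appK {M N : X.Modules} (φ : M ⟶ N) (V : X.Opens) : Sec k M V →ₗ[k] Sec k N V where
  toFun s := φ.app V s
  map_add' s t := map_add (φ.app V).hom s t
  map_smul' t s := by
    change φ.app V (Fga.MumCech.glV k V t • (show Γ(M, V) from s)) = _
    rw [Scheme.Modules.Hom.app_smul]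
    rfl

theorem appK_apply {M N : X.Modules} (φ : M ⟶ N) (V : X.Opens) (s : Sec k M V) :
    appK k φ V s = φ.app V s := rfl

/-- The Čech differential. -/
noncomputable def dk (M : X.Modules) (n : ℕ) : Co k U M n →ₗ[k] Co k U M (n + 1) := appK k (dd U M n) ⊤

theorem dk_dk (M : X.Modules) (n : ℕ) (s : Co k U M n) : dk k U M (n + 1) (dk k U M n s) = 0 := by
  have h := app_comp (dd U M n) (dd U M (n + 1)) ⊤ s
  rw [dd_dd] at h
  exact h.symm

omit [Field k] [X.Over (Spec (CommRingCat.of k))] in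
theorem sec_homOf' {M : X.Modules} (m : Γ(M, ⊤)) : Fdesc.LocGen.sec (Fdesc.LocGen.homOf m) ⊤ = m := by
  rw [Fdesc.LocGen.sec_homOf]
  exact res_self M le_rfl m

/-- Global sections as morphisms. -/
noncomputable def eH (M : X.Modules) : Sec k M ⊤ ≃ₗ[k] (Coh.structureModule X ⟶ M) where
  toFun s := Fdesc.LocGen.homOf s
  invFun φ := Fdesc.LocGen.sec φ ⊤
  left_inv s := sec_homOf' s
  right_inv φ := Fdesc.LocGen.homOf_sec φ
  map_add' s t := Fdesc.LocGen.hom_ext_sec ((sec_homOf' (M := M) (s + t)).trans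
    (congrArg₂ (fun a b : Γ(M, ⊤) => a + b) (sec_homOf' (M := M) s).symm (sec_homOf' (M := M) t).symm))
  map_smul' t s := Fdesc.LocGen.hom_ext_sec ((sec_homOf' (M := M) (t • s)).trans
    (congrArg (fun a : Γ(M, ⊤) => (Formal.smulMod k M t).app ⊤ a) (sec_homOf' (M := M) s).symm))

theorem eH_app {M N : X.Modules} (φ : M ⟶ N) (s : Sec k M ⊤) : eH k N (appK k φ ⊤ s) = eH k M s ≫ φ :=
  Fdesc.LocGen.hom_ext_sec ((sec_homOf' (M := N) (φ.app ⊤ s)).trans
    (congrArg (fun a : Γ(M, ⊤) => φ.app ⊤ a) (sec_homOf' (M := M) s).symm))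

variable (hcov : ⨆ i, U i = ⊤)

include hcov in
/-- Cocycles as morphisms to the kernels. -/
theorem exists_toZ (M : X.Modules) (n : ℕ) (s : LinearMap.ker (dk k U M n)) :
    ∃ h : Coh.structureModule X ⟶ Zc U M n, h ≫ ic U M n = eH k (cc U M n) s.1 := by
  refine exists_lift U hcov n _ ?_
  have h := eH_app k (dd U M n) s.1
  have h1 : appK k (dd U M n) ⊤ s.1 = 0 := s.2
  rw [h1, map_zero] at h
  exact h.symm

noncomputable def toZ (M : X.Modules) (n : ℕ) :
    LinearMap.ker (dk k U M n) →ₗ[k] (Coh.structureModule X ⟶ Zc U M n) where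
  toFun s := (exists_toZ k U hcov M n s).choose
  map_add' s t := by
    have := mono_ic U (W := M) hcov n
    refine (cancel_mono (ic U M n)).mp ?_
    rw [Preadditive.add_comp, (exists_toZ k U hcov M n s).choose_spec, (exists_toZ k U hcov M n t).choose_spec,
      (exists_toZ k U hcov M n (s + t)).choose_spec]
    exact map_add (eH k (cc U M n)) s.1 t.1
  map_smul' a s := by
    have := mono_ic U (W := M) hcov n
    refine (cancel_mono (ic U M n)).mp ?_
    rw [RingHom.id_apply, Linear.smul_comp, (exists_toZ k U hcov M n s).choose_spec,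
      (exists_toZ k U hcov M n (a • s)).choose_spec]
    exact map_smul (eH k (cc U M n)) a s.1

theorem toZ_ic (M : X.Modules) (n : ℕ) (s : LinearMap.ker (dk k U M n)) :
    toZ k U hcov M n s ≫ ic U M n = eH k (cc U M n) s.1 := (exists_toZ k U hcov M n s).choose_spec

theorem toZ_surjective (M : X.Modules) (n : ℕ) (h : Coh.structureModule X ⟶ Zc U M n) :
    ∃ s, toZ k U hcov M n s = h := by
  have := mono_ic U (W := M) hcov n
  have h1 : (eH k (cc U M n)).symm (h ≫ ic U M n) ∈ LinearMap.ker (dk k U M n) := by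
    rw [LinearMap.mem_ker]
    apply (eH k (cc U M (n + 1))).injective
    rw [map_zero]
    refine (eH_app k (dd U M n) _).trans ?_
    rw [LinearEquiv.apply_symm_apply, Category.assoc, ic_dd, comp_zero]
  refine ⟨⟨_, h1⟩, (cancel_mono (ic U M n)).mp ?_⟩
  rw [toZ_ic, LinearEquiv.apply_symm_apply]

/-- The class of a cocycle. -/
noncomputable def cls (M : X.Modules) (n : ℕ) :
    LinearMap.ker (dk k U M n) →ₗ[k] Ext.{u + 1} (Coh.structureModule X) M n where
  toFun s := (chain U M hcov).cl (Coh.structureModule X) n (toZ k U hcov M n s)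
  map_add' s t := (congrArg ((chain U M hcov).cl (Coh.structureModule X) n)
    (map_add (toZ k U hcov M n) s t)).trans (map_add ((chain U M hcov).cl (Coh.structureModule X) n) _ _)
  map_smul' a s := (congrArg ((chain U M hcov).cl (Coh.structureModule X) n)
    (map_smul (toZ k U hcov M n) a s)).trans (by
      refine ((chain U M hcov).cl_apply _ n _).trans ?_
      refine (congrArg (fun z => Ext.comp z ((chain U M hcov).cls n) (zero_add n)) (Ext.mk₀_smul a _)).trans ?_
      exact Ext.smul_comp _ _ _ _)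

theorem cls_apply (M : X.Modules) (n : ℕ) (s : LinearMap.ker (dk k U M n)) :
    cls k U hcov M n s = (chain U M hcov).cl (Coh.structureModule X) n (toZ k U hcov M n s) := rfl

/-- Coboundaries. -/
def IsBd (M : X.Modules) : (n : ℕ) → Co k U M n → Prop
  | 0, s => s = 0
  | n + 1, s => ∃ t : Co k U M n, dk k U M n t = s

/-- Coboundaries of cochains of homomorphisms. -/
def IsBdH {F W : X.Modules} : (m : ℕ) → (F ⟶ cc U W m) → Prop
  | 0, g => g = 0
  | m + 1, g => ∃ g' : F ⟶ cc U W m, g' ≫ dd U W m = g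

variable [Finite ι] (hU : ∀ s : Finset ι, s.Nonempty → IsAffineOpen (⨅ i ∈ s, U i)) [X.IsSeparated]

include k hU in
theorem acyc {F W : X.Modules} (hF : FlatMod.IsFinLocFree F) (hW : Coh.IsQCoh W) :
    (chain U W hcov).Acyc F := fun n q => subsingleton_ext k U hcov hU hF hW n q

variable (X) in
omit [X.IsSeparated] in
theorem isFinLocFree_O : FlatMod.IsFinLocFree (Coh.structureModule X) :=
  Sga67.TensorOps.isFinLocFree_structureModule

include hU in
theorem cls_surjective {M : X.Modules} (hM : Coh.IsQCoh M) (n : ℕ) : Function.Surjective (cls k U hcov M n) := by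
  intro x
  obtain ⟨h, rfl⟩ := ExtChain.Chain.cl_surjective (acyc k U hcov hU (isFinLocFree_O X) hM) n x
  obtain ⟨s, rfl⟩ := toZ_surjective k U hcov M n h
  exact ⟨s, rfl⟩

include hU in
theorem cls_eq_zero_iff {M : X.Modules} (hM : Coh.IsQCoh M) (n : ℕ) (s : LinearMap.ker (dk k U M n)) :
    cls k U hcov M n s = 0 ↔ IsBd k U M n s.1 := by
  cases n with
  | zero =>
    have h0 : cls k U hcov M 0 s = Ext.mk₀ (toZ k U hcov M 0 s) := (chain U M hcov).cl_zero_eq _ _
    rw [h0]
    refine (Ext.mk₀_eq_zero_iff (M := Coh.structureModule X) (N := Zc U M 0) (toZ k U hcov M 0 s)).trans ?_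
    constructor
    · intro h
      have h1 := toZ_ic k U hcov M 0 s
      rw [h, zero_comp] at h1
      exact ((eH k (cc U M 0)).map_eq_zero_iff.mp h1.symm)
    · intro h
      have h1 : s = 0 := Subtype.ext h
      rw [h1, map_zero]
  | succ n =>
    rw [cls_apply]
    constructor
    · intro h
      obtain ⟨g, hg⟩ : ∃ g : Coh.structureModule X ⟶ cc U M n, g ≫ pc U M n = toZ k U hcov M (n + 1) s :=
        ExtChain.Chain.cl_eq_zero (acyc k U hcov hU (isFinLocFree_O X) hM) n _ h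
      refine ⟨(eH k (cc U M n)).symm g, ?_⟩
      apply (eH k (cc U M (n + 1))).injective
      refine (eH_app k (dd U M n) _).trans ?_
      rw [LinearEquiv.apply_symm_apply, ← toZ_ic k U hcov M (n + 1) s, ← hg, Category.assoc]
      congr 1
      exact (pc_ic U M n).symm
    · rintro ⟨t, ht⟩
      have h1 : toZ k U hcov M (n + 1) s = eH k (cc U M n) t ≫ pc U M n := by
        have := mono_ic U (W := M) hcov (n + 1)
        refine (cancel_mono (ic U M (n + 1))).mp ?_
        rw [toZ_ic, Category.assoc, pc_ic, ← eH_app k (dd U M n) t, ← ht]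
        rfl
      rw [h1]
      exact (chain U M hcov).cl_p _ n _

section Hom

variable {F W : X.Modules} {m : ℕ}

omit [Finite ι] [X.IsSeparated] in
/-- The cup product of a cocycle with a cocycle of homomorphisms is a cocycle. -/
theorem cup_mem (g : F ⟶ cc U W m) (hg : g ≫ dd U W m = 0) (n : ℕ) (s : LinearMap.ker (dk k U F n)) :
    appK k (cup U g n) ⊤ s.1 ∈ LinearMap.ker (dk k U W (m + n)) := by
  rw [LinearMap.mem_ker]
  have h1 := app_comp (cup U g n) (dd U W (m + n)) ⊤ s.1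
  rw [cup_dd U g hg] at h1
  refine h1.symm.trans ?_
  refine (app_comp (dd U F n) (cup U g (n + 1)) ⊤ s.1).trans ?_
  have h2 : (dd U F n).app ⊤ s.1 = 0 := s.2
  rw [h2, map_zero]
  rfl

/-- The cup product on cocycles. -/
noncomputable def cupZ (g : F ⟶ cc U W m) (hg : g ≫ dd U W m = 0) (n : ℕ) :
    LinearMap.ker (dk k U F n) →ₗ[k] LinearMap.ker (dk k U W (m + n)) where
  toFun s := ⟨appK k (cup U g n) ⊤ s.1, cup_mem k U g hg n s⟩
  map_add' s t := Subtype.ext (map_add (appK k (cup U g n) ⊤) s.1 t.1)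
  map_smul' a s := Subtype.ext (map_smul (appK k (cup U g n) ⊤) a s.1)

omit [Finite ι] [X.IsSeparated] in
/-- The class of a cup product is the composition of the classes. -/
theorem cls_cupZ (h : F ⟶ Zc U W m) (hg : (h ≫ ic U W m) ≫ dd U W m = 0) (n : ℕ)
    (s : LinearMap.ker (dk k U F n)) : cls k U hcov W (m + n) (cupZ k U (h ≫ ic U W m) hg n s) =
      (cls k U hcov F n s).comp ((chain U W hcov).cl F m h) (add_comm n m) := by
  obtain ⟨α, hα0, hαk⟩ := exists_sh U hcov h
  let z : Zc U F n ⟶ Zc U W (m + n) := α.z n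
  have h1 : toZ k U hcov W (m + n) (cupZ k U (h ≫ ic U W m) hg n s) = toZ k U hcov F n s ≫ z := by
    have := mono_ic U (W := W) hcov (m + n)
    refine (cancel_mono (ic U W (m + n))).mp ?_
    have h2 : ic U F n ≫ cup U (h ≫ ic U W m) n = z ≫ ic U W (m + n) := by
      rw [← hαk]
      exact α.hi n
    rw [toZ_ic, Category.assoc, ← h2, ← Category.assoc, toZ_ic]
    exact eH_app k (cup U (h ≫ ic U W m) n) s.1
  rw [cls_apply, h1]
  refine (α.cl_comp n (toZ k U hcov F n s)).trans ?_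
  rw [hα0]
  rfl

end Hom

section Dual

variable {F W : X.Modules}

omit [Finite ι] [X.IsSeparated] in
/-- The trace on Čech cocycles. -/
noncomputable def tr {d : ℕ} (τ : (P X ⟶ (DCoh.inD X W)⟦(d : ℤ)⟧) →ₗ[k] k) :
    LinearMap.ker (dk k U W d) →ₗ[k] k where
  toFun s := τ (cls k U hcov W d s).hom
  map_add' s t := by rw [map_add, Ext.add_hom, map_add]
  map_smul' a s := by
    rw [map_smul, Ext.smul_hom, map_smul, RingHom.id_apply]

omit [Finite ι] [X.IsSeparated] in
theorem tr_apply {d : ℕ} (τ : (P X ⟶ (DCoh.inD X W)⟦(d : ℤ)⟧) →ₗ[k] k) (s : LinearMap.ker (dk k U W d)) :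
    tr k U hcov τ s = τ (cls k U hcov W d s).hom := rfl

include hU in
theorem tr_eq_zero {d : ℕ} (τ : (P X ⟶ (DCoh.inD X W)⟦(d : ℤ)⟧) →ₗ[k] k) (hW : Coh.IsQCoh W)
    (s : LinearMap.ker (dk k U W d)) (hs : IsBd k U W d s.1) : tr k U hcov τ s = 0 := by
  rw [tr_apply, (cls_eq_zero_iff k U hcov hU hW d s).mpr hs, Ext.zero_hom, map_zero]

omit [Finite ι] [X.IsSeparated] in
theorem tau_comp {m n d : ℕ} (h : n + m = d) (τ : (P X ⟶ (DCoh.inD X W)⟦(d : ℤ)⟧) →ₗ[k] k)
    (α : Ext.{u + 1} (Coh.structureModule X) F n) (β : Ext.{u + 1} F W m) :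
    τ (α.comp β h).hom = pairing k X τ ((DCoh.inD X F)⟦(n : ℤ)⟧)
      (K461.DualAbs.homShiftE k F W (m : ℤ) (n : ℤ) (d : ℤ) (by omega) β.hom) α.hom := by
  rw [pairing_apply, Ext.comp_hom]
  have h1 : ∀ φ : DCoh.inD X F ⟶ (DCoh.inD X W)⟦(m : ℤ)⟧,
      K461.DualAbs.homShiftE k F W (m : ℤ) (n : ℤ) (d : ℤ) (by omega) φ =
        φ⟦(n : ℤ)⟧' ≫ (shiftFunctorAdd' (DCoh.D X) (m : ℤ) (n : ℤ) (d : ℤ) (by omega)).inv.app _ := by
    intro φ
    change (𝟙 _ ≫ φ⟦(n : ℤ)⟧') ≫ _ = _
    rw [Category.id_comp]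
    rfl
  rw [h1]
  rfl

include hU in
/-- **Injectivity of the duality map.** -/
theorem dual_injective {m n : ℕ} (τ : (P X ⟶ (DCoh.inD X W)⟦((m + n : ℕ) : ℤ)⟧) →ₗ[k] k)
    (hτ : ∀ K : DCoh.D X, DCoh.IsQCohD K → Function.Bijective (pairing k X τ K))
    (hF : FlatMod.IsFinLocFree F) (hW : Coh.IsQCoh W) (g : F ⟶ cc U W m) (hg : g ≫ dd U W m = 0)
    (H : ∀ s : LinearMap.ker (dk k U F n), tr k U hcov τ (cupZ k U g hg n s) = 0) : IsBdH U m g := by
  obtain ⟨h, rfl⟩ := exists_lift U hcov m g hg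
  have hFq : Coh.IsQCoh F := Ega2.QCohLocal.isQCoh_of_isFinLocFree hF
  have h0 : (chain U W hcov).cl F m h = 0 := by
    apply Ext.homEquiv.injective
    change ((chain U W hcov).cl F m h).hom = (0 : Ext.{u + 1} F W m).hom
    rw [Ext.zero_hom]
    apply (K461.DualAbs.homShiftE k F W (m : ℤ) (n : ℤ) ((m + n : ℕ) : ℤ) (by omega)).injective
    apply (hτ _ (PerfA.QCohD.isQCohD_shift (PerfA.QCohD.isQCohD_inD F hFq) (n : ℤ))).1
    rw [map_zero, map_zero]
    refine LinearMap.ext fun x => ?_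
    obtain ⟨x, rfl⟩ := (Ext.homEquiv (X := Coh.structureModule X) (Y := F) (n := n)).surjective x
    obtain ⟨s, rfl⟩ := cls_surjective k U hcov hU hFq n x
    have h1 := H s
    rw [tr_apply, cls_cupZ] at h1
    exact (tau_comp k (add_comm n m) τ (cls k U hcov F n s) ((chain U W hcov).cl F m h)).symm.trans h1
  cases m with
  | zero =>
    have h1 : Ext.mk₀ (X := F) (Y := W) h = 0 := ((chain U W hcov).cl_zero_eq F h).symm.trans h0
    have h2 : h = 0 := (Ext.mk₀_eq_zero_iff (M := F) (N := W) h).mp h1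
    change h ≫ ic U W 0 = 0
    rw [h2, zero_comp]
  | succ m =>
    obtain ⟨g', hg'⟩ : ∃ g' : F ⟶ cc U W m, g' ≫ pc U W m = h :=
      ExtChain.Chain.cl_eq_zero (acyc k U hcov hU hF hW) m h h0
    refine ⟨g', ?_⟩
    rw [← hg', Category.assoc, pc_ic]

include hU in
/-- **Surjectivity of the duality map.** -/
theorem dual_surjective {m n : ℕ} (τ : (P X ⟶ (DCoh.inD X W)⟦((m + n : ℕ) : ℤ)⟧) →ₗ[k] k)
    (hτ : ∀ K : DCoh.D X, DCoh.IsQCohD K → Function.Bijective (pairing k X τ K))
    (hF : FlatMod.IsFinLocFree F) (hW : Coh.IsQCoh W) (l : LinearMap.ker (dk k U F n) →ₗ[k] k)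
    (hl : ∀ s, IsBd k U F n s.1 → l s = 0) :
    ∃ (g : F ⟶ cc U W m) (hg : g ≫ dd U W m = 0), ∀ s, tr k U hcov τ (cupZ k U g hg n s) = l s := by
  have hFq : Coh.IsQCoh F := Ega2.QCohLocal.isQCoh_of_isFinLocFree hF
  -- the functional on `Ext`
  have hker : LinearMap.ker (cls k U hcov F n) ≤ LinearMap.ker l := fun s hs =>
    hl s ((cls_eq_zero_iff k U hcov hU hFq n s).mp hs)
  let L : Ext.{u + 1} (Coh.structureModule X) F n →ₗ[k] k :=
    ((LinearMap.ker (cls k U hcov F n)).liftQ l hker) ∘ₗ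
      ((cls k U hcov F n).quotKerEquivOfSurjective (cls_surjective k U hcov hU hFq n)).symm.toLinearMap
  have hL : ∀ s, L (cls k U hcov F n s) = l s := by
    intro s
    have h1 : ((cls k U hcov F n).quotKerEquivOfSurjective (cls_surjective k U hcov hU hFq n)).symm
        (cls k U hcov F n s) = Submodule.Quotient.mk s := by
      rw [LinearEquiv.symm_apply_eq]
      rfl
    change ((LinearMap.ker (cls k U hcov F n)).liftQ l hker) _ = _
    erw [h1]
    rfl
  obtain ⟨φ, hφ⟩ := (hτ _ (PerfA.QCohD.isQCohD_shift (PerfA.QCohD.isQCohD_inD F hFq) (n : ℤ))).2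
    (L ∘ₗ (Ext.homLinearEquiv (R := k) (X := Coh.structureModule X) (Y := F) (n := n)).symm.toLinearMap)
  obtain ⟨φ, rfl⟩ := (K461.DualAbs.homShiftE k F W (m : ℤ) (n : ℤ) ((m + n : ℕ) : ℤ) (by omega)).surjective φ
  obtain ⟨β, rfl⟩ := (Ext.homEquiv (X := F) (Y := W) (n := m)).surjective φ
  obtain ⟨h, rfl⟩ := ExtChain.Chain.cl_surjective (acyc k U hcov hU hF hW) m β
  have hg : ((show F ⟶ Zc U W m from h) ≫ ic U W m) ≫ dd U W m = 0 := by
    rw [Category.assoc, ic_dd, comp_zero]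
  refine ⟨(show F ⟶ Zc U W m from h) ≫ ic U W m, hg, fun s => ?_⟩
  rw [tr_apply, cls_cupZ, ← hL s]
  refine (tau_comp k (add_comm n m) τ (cls k U hcov F n s) ((chain U W hcov).cl F m h)).trans ?_
  have h2 := LinearMap.congr_fun hφ (cls k U hcov F n s).hom
  refine h2.trans ?_
  change L ((Ext.homLinearEquiv (R := k)).symm _) = _
  congr 1
  exact (Ext.homLinearEquiv (R := k)).symm_apply_apply _

include hcov hU in
/-- Vanishing above the dimension. -/
theorem isBd_of_lt {d n : ℕ} (hdn : d < n) (τ : (P X ⟶ (DCoh.inD X W)⟦(d : ℤ)⟧) →ₗ[k] k)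
    (hτ : ∀ K : DCoh.D X, DCoh.IsQCohD K → Function.Bijective (pairing k X τ K))
    (hFq : Coh.IsQCoh F) (s : LinearMap.ker (dk k U F n)) : IsBd k U F n s.1 := by
  rw [← cls_eq_zero_iff k U hcov hU hFq n s]
  apply Ext.homEquiv.injective
  change (cls k U hcov F n s).hom = (0 : Ext.{u + 1} (Coh.structureModule X) F n).hom
  rw [Ext.zero_hom]
  by_contra hne
  obtain ⟨l, hl⟩ : ∃ l : Module.Dual k (P X ⟶ (DCoh.inD X F)⟦(n : ℤ)⟧), l (cls k U hcov F n s).hom ≠ 0 := by
    by_contra hc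
    push Not at hc
    exact hne ((Module.forall_dual_apply_eq_zero_iff k _).mp hc)
  obtain ⟨φ, hφ⟩ := (hτ _ (PerfA.QCohD.isQCohD_shift (PerfA.QCohD.isQCohD_inD F hFq) (n : ℤ))).2 l
  have h1 : ((DCoh.inD X F)⟦(n : ℤ)⟧).IsLE (-(n : ℤ)) := isLE_shift X F n
  have h2 : ((DCoh.inD X W)⟦(d : ℤ)⟧).IsGE (-(d : ℤ)) :=
    DerivedCategory.TStructure.t.isGE_shift _ 0 (d : ℤ) (-(d : ℤ)) (by lia)
  have h3 : φ = 0 := DerivedCategory.TStructure.t.zero φ (-(n : ℤ)) (-(d : ℤ)) (by lia)
  apply hl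
  rw [← hφ, h3, map_zero, LinearMap.zero_apply]

end Dual

end K854.CechPair
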