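import Groth.Agent.DeRhamSh.K854.CechMod

/-!
# Exactness of the sheaf-level Čech complex

`chain U hU G`: for a cover `U` the short exact sequences `0 → Z p → cc p → Z (p+1) → 0`.
-/

set_option autoImplicit false
universe u

open CategoryTheory CategoryTheory.Limits AlgebraicGeometry Opposite TopologicalSpace
open Groth.Agent.LoccohB.GlueHom
open Groth.Agent.Lefpen.H278.SecSys (UI UI_anti UI_range)

namespace K854.CechMod

variable {X : Scheme.{u}} {ι : Type} (U : ι → X.Opens) (G : X.Modules)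

theorem le_Ot_cons {p : ℕ} {V : X.Opens} {i : ι} (hV : V ≤ U i) (σ : Fin (p + 1) → ι) :
    V ⊓ Ot U p σ ≤ V ⊓ Ot U (p + 1) (Fin.cons i σ) := by
  refine le_inf inf_le_left ?_
  refine le_iInf₂ fun j hj => ?_
  obtain ⟨a, rfl⟩ := hj
  refine Fin.cases ?_ (fun b => ?_) a
  · exact inf_le_left.trans hV
  · exact inf_le_right.trans (iInf₂_le_of_le (σ b) ⟨b, rfl⟩ le_rfl)

/-- The local contraction. -/
noncomputable def hh {p : ℕ} {V : X.Opens} {i : ι} (hV : V ≤ U i) (s : Γ(cc U G (p + 1), V)) : Γ(cc U G p, V) :=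
  ff U G (fun σ => res G (le_Ot_cons U hV σ) (tf U G s (Fin.cons i σ)))

theorem hh_app {p : ℕ} {V : X.Opens} {i : ι} (hV : V ≤ U i) (s : Γ(cc U G (p + 1), V)) (σ : Fin (p + 1) → ι) :
    tf U G (hh U G hV s) σ = res G (le_Ot_cons U hV σ) (tf U G s (Fin.cons i σ)) := rfl

theorem cons_comp_succAbove_succ {p : ℕ} (i : ι) (σ : Fin (p + 2) → ι) (j : Fin (p + 2)) :
    (Fin.cons i σ : Fin (p + 3) → ι) ∘ j.succ.succAbove = Fin.cons i (σ ∘ j.succAbove) := by
  funext a
  refine Fin.cases ?_ (fun b => ?_) a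
  · simp
  · simp [Fin.succ_succAbove_succ]

theorem dd_hh {p : ℕ} {V : X.Opens} {i : ι} (hV : V ≤ U i) (s : Γ(cc U G (p + 1), V))
    (hs : (dd U G (p + 1)).app V s = 0) : (dd U G p).app V (hh U G hV s) = s := by
  apply sec_ext'
  intro σ
  have h0 : tf U G ((dd U G (p + 1)).app V s) (Fin.cons i σ) = 0 := by rw [hs]; rfl
  rw [dd_app, Fin.sum_univ_succ] at h0
  have h1 := congrArg (res G (le_Ot_cons U hV σ)) h0
  rw [map_zero, map_add, map_sum] at h1
  have h2 : res G (le_Ot_cons U hV σ) ((-1 : ℤ) ^ ((0 : Fin (p + 3)) : ℕ) •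
      res G (inf_le_inf_left V (Ot_face U (Fin.cons i σ) 0)) (tf U G s ((Fin.cons i σ) ∘ (0 : Fin (p + 3)).succAbove))) =
      tf U G s σ := by
    rw [Fin.val_zero, pow_zero, one_smul, res_res,
      res_tuple U G (tf U G s) (σ' := σ) (by funext a; simp) _ le_rfl, res_self]
  rw [h2] at h1
  rw [dd_app]
  refine Eq.trans ?_ (eq_neg_of_add_eq_zero_left h1).symm
  rw [← Finset.sum_neg_distrib]
  refine Finset.sum_congr rfl fun j _ => ?_
  rw [map_zsmul, res_res, hh_app, res_res, Fin.val_succ, pow_succ, mul_neg_one, neg_smul, ← smul_neg, ← smul_neg, neg_neg]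
  congr 1
  exact res_tuple U G (tf U G s) (cons_comp_succAbove_succ i σ j).symm _ _

theorem exists_aug {V : X.Opens} {i : ι} (hV : V ≤ U i) (s : Γ(cc U G 0, V))
    (hs : (dd U G 0).app V s = 0) : ∃ t : Γ(G, V), (aug U G).app V t = s := by
  have hle : V ≤ V ⊓ Ot U 0 (fun _ => i) := by
    refine le_inf le_rfl (le_iInf₂ fun j hj => ?_)
    obtain ⟨a, rfl⟩ := hj
    exact hV
  refine ⟨res G hle (tf U G s (fun _ => i)), ?_⟩
  apply sec_ext'
  intro σ
  rw [aug_app, res_res]
  have h0 : tf U G ((dd U G 0).app V s) (Fin.cons i σ) = 0 := by rw [hs]; rfl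
  rw [dd_app, Fin.sum_univ_two] at h0
  have h1 := congrArg (res G (le_Ot_cons U hV σ)) h0
  rw [map_zero, map_add, Fin.val_zero, pow_zero, one_smul, Fin.val_one, pow_one, neg_smul, one_smul, map_neg,
    res_res, res_res, ← sub_eq_add_neg, sub_eq_zero] at h1
  rw [res_tuple U G (tf U G s) (σ' := σ) (by funext a; simp) _ le_rfl, res_self] at h1
  rw [h1]
  refine res_tuple U G (tf U G s) ?_ _ _
  funext a
  have ha : a = 0 := Subsingleton.elim (α := Fin 1) _ _
  subst ha
  rfl

theorem mono_of_injective {M N : X.Modules} (φ : M ⟶ N) (h : ∀ V, Function.Injective (φ.app V)) : Mono φ := by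
  constructor
  intro Z f g hfg
  apply hom_ext
  intro V x
  apply h V
  rw [← app_comp, hfg, app_comp]

/-- The terms `Z p`. -/
noncomputable def Zc : ℕ → X.Modules
  | 0 => G
  | p + 1 => kernel (dd U G (p + 1))

/-- The inclusions `Z p ⟶ cc p`. -/
noncomputable def ic : ∀ p, Zc U G p ⟶ cc U G p
  | 0 => aug U G
  | p + 1 => kernel.ι (dd U G (p + 1))

/-- The projections `cc p ⟶ Z (p+1)`. -/
noncomputable def pc (p : ℕ) : cc U G p ⟶ Zc U G (p + 1) := kernel.lift (dd U G (p + 1)) (dd U G p) (dd_dd U G p)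

theorem pc_ic (p : ℕ) : pc U G p ≫ ic U G (p + 1) = dd U G p := kernel.lift_ι _ _ _

instance mono_ic_succ (p : ℕ) : Mono (ic U G (p + 1)) := inferInstanceAs (Mono (kernel.ι _))

theorem ic_dd (p : ℕ) : ic U G p ≫ dd U G p = 0 := by
  cases p with
  | zero => exact aug_dd U G
  | succ p => exact kernel.condition _

theorem ic_pc (p : ℕ) : ic U G p ≫ pc U G p = 0 := by
  rw [← cancel_mono (ic U G (p + 1)), Category.assoc, pc_ic, ic_dd, zero_comp]

theorem aug_injective (hU : ⨆ i, U i = ⊤) (V : X.Opens) : Function.Injective ((aug U G).app V) := by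
  rw [injective_iff_map_eq_zero]
  intro s hs
  have hle : V ≤ iSup fun i : ULift.{u} ι => U i.down := by
    intro x _
    have hx : x ∈ (⨆ i, U i : X.Opens) := by rw [hU]; trivial
    obtain ⟨i, hi⟩ := Opens.mem_iSup.mp hx
    exact Opens.mem_iSup.mpr ⟨⟨i⟩, hi⟩
  refine sec_ext G (fun i : ULift.{u} ι => U i.down) hle _ _ fun i => ?_
  rw [map_zero]
  have h1 : tf U G ((aug U G).app V s) (fun _ => i.down) = 0 := by rw [hs]; rfl
  rw [aug_app] at h1
  have hle2 : V ⊓ U i.down ≤ V ⊓ Ot U 0 (fun _ => i.down) := by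
    refine le_inf inf_le_left (le_iInf₂ fun j hj => ?_)
    obtain ⟨a, rfl⟩ := hj
    exact inf_le_right
  have h2 := congrArg (res G hle2) h1
  rwa [res_res, map_zero] at h2

theorem exists_mem (hU : ⨆ i, U i = ⊤) (x : X) : ∃ i, x ∈ U i := by
  have hx : x ∈ (⨆ i, U i : X.Opens) := by rw [hU]; trivial
  exact Opens.mem_iSup.mp hx

theorem shortExact (hU : ⨆ i, U i = ⊤) (p : ℕ) : (ShortComplex.mk (ic U G p) (pc U G p) (ic_pc U G p)).ShortExact := by
  have hm : Mono (ic U G p) := by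
    cases p with
    | zero => exact mono_of_injective _ (aug_injective U G hU)
    | succ p => infer_instance
  have he : Epi (pc U G p) := by
    refine Groth.Agent.PerfB.ModExact.epi_of_locally_surjective _ fun V y x hx => ?_
    obtain ⟨i, hi⟩ := exists_mem U hU x
    have hle : V ⊓ U i ≤ V := inf_le_left
    refine ⟨V ⊓ U i, hle, ⟨hx, hi⟩, hh U G inf_le_right ((ic U G (p + 1)).app _ (res _ hle y)), ?_⟩
    apply Groth.Agent.PerfB.ModExact.app_injective_of_mono (ic U G (p + 1))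
    rw [← app_comp, pc_ic, dd_hh]
    · rfl
    · rw [← app_comp, ic_dd]
      rfl
  refine { exact := ?_, mono_f := hm, epi_g := he }
  refine Groth.Agent.PerfB.ModExact.exact_of_locally_lifts _ fun V s hs x hx => ?_
  change (pc U G p).app V s = 0 at hs
  have hs' : (dd U G p).app V s = 0 := by
    rw [← pc_ic, app_comp, hs, map_zero]
  obtain ⟨i, hi⟩ := exists_mem U hU x
  have hle : V ⊓ U i ≤ V := inf_le_left
  cases p with
  | zero =>
    obtain ⟨t, ht⟩ := exists_aug U G (inf_le_right : V ⊓ U i ≤ U i) (res _ hle s) (by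
      rw [app_res, hs', map_zero])
    exact ⟨V ⊓ U i, hle, ⟨hx, hi⟩, t, ht⟩
  | succ p =>
    obtain ⟨t, ht⟩ := Groth.Agent.PerfB.ModExact.exists_app_of_isLimit (kernel.ι (dd U G (p + 1))) (dd U G (p + 1))
      (kernel.condition _) (kernelIsKernel _) V s hs'
    refine ⟨V, le_rfl, hx, t, ?_⟩
    refine ht.trans ?_
    exact (res_self (cc U G (p + 1)) le_rfl s).symm

/-- The chain of short exact sequences of the Čech resolution. -/
noncomputable def chain (hU : ⨆ i, U i = ⊤) : ExtChain.Chain X.Modules where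
  Z := Zc U G
  K := cc U G
  i := ic U G
  p := pc U G
  w := ic_pc U G
  se := shortExact U G hU

end K854.CechMod
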