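import Groth.Agent.DeRhamSh.K854.WedgePerf
import Groth.Agent.Sga67.LocBasisOps
import Groth.Agent.Sga67.ExtSheaf
import Groth.Agent.LoccohB.GlueHom
import Groth.Agent.Ega4dA.FrameQC
import Groth.Agent.Sga2.PnHomAdj
import Groth.Agent.CohqB.HomSheafQCoh
import Groth.Agent.Ega2.BasSec
import Groth.Prelude.Def_DeRham2

/-!
# The wedge pairing of the terms of a de Rham complex

`wd D h V s t`: the product `Γ(Ω^b, V) × Γ(Ω^a, V) → Γ(Ω^c, V)`, `h : b + a = c`, on all opens `V`;
`beta D h : Ω^a ⟶ Hom(Ω^b, Ω^c)`; it is an isomorphism for `c` the rank of `Ω`.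
-/

set_option autoImplicit false
universe u

open CategoryTheory CategoryTheory.Limits AlgebraicGeometry Opposite TopologicalSpace
open scoped TensorProduct
open Groth.Agent Groth.Agent.Sga67.ExtAlg
open Groth.Agent.Sga67.ExtSheaf (Phi PhiComp)

namespace K854.WedgeSh

variable {X S : Scheme.{u}} {f : X ⟶ S} {Ω : X.Modules} {δ : OmegaSh.Der f Ω} (D : DeRhamSh.Cx f Ω δ)

/-- The identifications over affine opens. -/
noncomputable def phi (p : ℕ) : Phi p Ω (D.term p) := fun V => D.loc p V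

theorem phi_comp (p : ℕ) : PhiComp (phi D p) := fun U V h e => D.loc_res p U V h e

theorem wedge_phi {a b c : ℕ} (h : b + a = c) (V : X.affineOpens) (s : Γ(D.term b, V.1)) (t : Γ(D.term a, V.1)) :
    (wedge h (phi D b V s) (phi D a V t)).1 = (wedge h (D.loc b V s) (D.loc a V t)).1 := by
  rw [coe_wedge, coe_wedge]
  rfl

theorem phi_coe {b : ℕ} (V : X.affineOpens) (s : Γ(D.term b, V.1)) : (phi D b V s).1 = (D.loc b V s).1 := rfl

theorem exists_wed {a b c : ℕ} (h : b + a = c) : ∃ m : CohB1.tensorMod (D.term b) (D.term a) ⟶ D.term c,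
    ∀ (V : X.affineOpens) (s : Γ(D.term b, V.1)) (t : Γ(D.term a, V.1)),
      D.loc c V (m.app V.1 (Ega2.Tens.tmul s t)) = wedge h (D.loc b V s) (D.loc a V t) := by
  obtain ⟨m, hm⟩ := Sga67.ExtSheaf.exists_extMul h (𝟙 Ω) (phi D b) (phi_comp D b) (phi D a) (phi_comp D a)
    (phi D c) (phi_comp D c)
  refine ⟨m, fun V s t => ?_⟩
  have h1 : Sga67.Sec.appS (𝟙 Ω) V.1 = LinearMap.id := rfl
  have h2 := mu_tmul h (Sga67.Sec.appS (𝟙 Ω) V.1) (phi D b V s) (phi D a V t)
  have h3 : exteriorPower.map b (Sga67.Sec.appS (𝟙 Ω) V.1) (phi D b V s) = phi D b V s := by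
    rw [h1, exteriorPower.map_id, LinearMap.id_apply]
  rw [h3] at h2
  have h4 : phi D c V (Sga67.Sec.appS m V.1 (Sga67.Sec.tau (D.term b) (D.term a) V.1 (s ⊗ₜ t))) =
    wedge h (phi D b V s) (phi D a V t) := (hm V (s ⊗ₜ t)).trans h2
  have h6 : (phi D c V (m.app V.1 (Ega2.Tens.tmul s t))) =
    (phi D c V (Sga67.Sec.appS m V.1 (Sga67.Sec.tau (D.term b) (D.term a) V.1 (s ⊗ₜ t)))) := rfl
  exact Subtype.ext ((phi_coe D V _).symm.trans ((congrArg Subtype.val (h6.trans h4)).trans (wedge_phi D h V s t)))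

/-- The wedge morphism. -/
noncomputable def wed {a b c : ℕ} (h : b + a = c) : CohB1.tensorMod (D.term b) (D.term a) ⟶ D.term c :=
  (exists_wed D h).choose

/-- The product of sections. -/
noncomputable def wd {a b c : ℕ} (h : b + a = c) (V : X.Opens) (s : Γ(D.term b, V)) (t : Γ(D.term a, V)) :
    Γ(D.term c, V) := (wed D h).app V (Ega2.Tens.tmul s t)

variable {a b c : ℕ} (h : b + a = c) {V : X.Opens}

theorem loc_wd (V : X.affineOpens) (s : Γ(D.term b, V.1)) (t : Γ(D.term a, V.1)) :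
    D.loc c V (wd D h V.1 s t) = wedge h (D.loc b V s) (D.loc a V t) :=
  (exists_wed D h).choose_spec V s t

theorem wd_eq (V : X.affineOpens) (s : Γ(D.term b, V.1)) (t : Γ(D.term a, V.1)) :
    wd D h V.1 s t = (D.loc c V).symm (wedge h (D.loc b V s) (D.loc a V t)) := by
  rw [LinearEquiv.eq_symm_apply, loc_wd]

theorem wd_add_left (s s' : Γ(D.term b, V)) (t : Γ(D.term a, V)) :
    wd D h V (s + s') t = wd D h V s t + wd D h V s' t := by
  unfold wd
  rw [Ega2.Tens.add_tmul, map_add]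

theorem wd_add_right (s : Γ(D.term b, V)) (t t' : Γ(D.term a, V)) :
    wd D h V s (t + t') = wd D h V s t + wd D h V s t' := by
  unfold wd
  rw [Ega2.Tens.tmul_add, map_add]

theorem wd_smul_left (r : Γ(X, V)) (s : Γ(D.term b, V)) (t : Γ(D.term a, V)) :
    wd D h V (r • s) t = r • wd D h V s t := by
  unfold wd
  rw [Ega2.Tens.smul_tmul, Scheme.Modules.Hom.app_smul]

theorem wd_smul_right (r : Γ(X, V)) (s : Γ(D.term b, V)) (t : Γ(D.term a, V)) :
    wd D h V s (r • t) = r • wd D h V s t := by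
  unfold wd
  rw [Ega2.Tens.tmul_smul, Scheme.Modules.Hom.app_smul]

theorem wd_res {W : X.Opens} (hW : W ≤ V) (s : Γ(D.term b, V)) (t : Γ(D.term a, V)) :
    LoccohB.GlueHom.res (D.term c) hW (wd D h V s t) =
      wd D h W (LoccohB.GlueHom.res (D.term b) hW s) (LoccohB.GlueHom.res (D.term a) hW t) := by
  unfold wd
  rw [← LoccohB.GlueHom.app_res]
  congr 1
  exact Ega2.Tens.tmul_res _ _ _

/-- The product as a bilinear map. -/
noncomputable def wdₗ (V : X.Opens) : Γ(D.term b, V) →ₗ[Γ(X, V)] Γ(D.term a, V) →ₗ[Γ(X, V)] Γ(D.term c, V) :=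
  LinearMap.mk₂ _ (wd D h V) (wd_add_left D h) (wd_smul_left D h) (wd_add_right D h) (wd_smul_right D h)

/-- `Ω^a ⟶ Hom(Ω^b, Ω^c)`, `x ↦ (m ↦ m ∧ x)`. -/
noncomputable def beta : D.term a ⟶ CohqB.HomSheaf.homSheaf (D.term b) (D.term c) :=
  Sga2.PnHomAdj.curry (wed D h)

theorem comp_beta (x : Γ(D.term a, V)) {V' : X.Opens} (hV' : V' ≤ V) (m : Γ(D.term b, V')) :
    CohqB.HomSheaf.comp ((beta D h).app V x) V' hV' m =
      wd D h V' m (LoccohB.GlueHom.res (D.term a) hV' x) :=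
  Sga2.PnHomAdj.comp_curry _ _ _ _ _

open Sga67.LocBasis in
/-- **The wedge pairing into the top power is perfect.** -/
theorem isIso_beta (hΩ : FlatMod.IsFinLocFreeOfRank c Ω) : IsIso (beta D h) := by
  have hb : Coh.IsQCoh (D.term b) := by
    have h1 : FlatMod.IsFinLocFree Ω := fun x => by
      obtain ⟨W, hxW, hW⟩ := hΩ x
      exact ⟨W, c, hxW, hW⟩
    exact Ega4dA.FrameQC.isQCoh_of_isFinLocFree (Sga67.LocBasis.isFinLocFree_of_isExtPow h1 (D.isExtPow b))
  refine isIso_of_bijective _ fun x U hxU => ?_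
  obtain ⟨W, hxW, hW⟩ := hΩ x
  obtain ⟨e, he⟩ := (Ega2.BasSec.nonempty_restrict_iso_freeMod_iff Ω c W).mp hW
  obtain ⟨V, hV, hxV, hVle⟩ := (Opens.isBasis_iff_nbhd.mp X.isBasis_affineOpens)
    (show x ∈ W ⊓ U from ⟨hxW, hxU⟩)
  refine ⟨V, hVle.trans inf_le_right, hxV, ?_⟩
  have heV : Ega2.BasSec.IsBas (fun i => Fdesc.LocGen.res Ω (hVle.trans inf_le_left) (e i)) := he.res _
  -- the basis of sections
  let L : (Fin c → Γ(X, V)) →ₗ[Γ(X, V)] Γ(Ω, V) :=
    { toFun := Ega2.BasSec.comb (fun i => Fdesc.LocGen.res Ω (hVle.trans inf_le_left) (e i))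
      map_add' := fun a b => by
        simp only [Ega2.BasSec.comb, Pi.add_apply, add_smul, Finset.sum_add_distrib]
      map_smul' := fun r a => by
        simp only [Ega2.BasSec.comb, Pi.smul_apply, smul_eq_mul, mul_smul, Finset.smul_sum, RingHom.id_apply] }
  have hL : Function.Bijective L := by
    have h1 := heV V le_rfl
    have h2 : (L : (Fin c → Γ(X, V)) → Γ(Ω, V)) = Ega2.BasSec.comb (fun i => Fdesc.LocGen.res Ω le_rfl
        (Fdesc.LocGen.res Ω (hVle.trans inf_le_left) (e i))) := by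
      funext a
      change Ega2.BasSec.comb _ a = _
      simp only [Fdesc.LocGen.res_res]
    rw [h2]
    exact h1
  let B : Module.Basis (Fin c) Γ(X, V) Γ(Ω, V) := Module.Basis.ofEquivFun (LinearEquiv.ofBijective L hL).symm
  have hperf := WedgePerf.bijective_wedge_flip B h (Fintype.card_fin c)
  let E := CohqB.HomSheaf.affineEquiv (N := D.term c) hb hV
  have hE : ∀ t : Γ(D.term a, V), E ((beta D h).app V t) = (wdₗ D h V).flip t := by
    intro t
    refine LinearMap.ext fun m => ?_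
    refine (comp_beta D h t le_rfl m).trans ?_
    rw [LoccohB.GlueHom.res_self]
    rfl
  have hw : ∀ t : Γ(D.term a, V), ∀ m, D.loc c ⟨V, hV⟩ ((wdₗ D h V).flip t m) =
      (wedge h).flip (D.loc a ⟨V, hV⟩ t) (D.loc b ⟨V, hV⟩ m) := fun t m => loc_wd D h ⟨V, hV⟩ m t
  have key : Function.Bijective (fun t : Γ(D.term a, V) => (wdₗ D h V).flip t) := by
    constructor
    · intro t t' htt
      apply (D.loc a ⟨V, hV⟩).injective
      apply hperf.1
      refine LinearMap.ext fun m => ?_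
      obtain ⟨m, rfl⟩ := (D.loc b ⟨V, hV⟩).surjective m
      rw [← hw, ← hw]
      exact congrArg _ (LinearMap.congr_fun htt m)
    · intro g
      obtain ⟨y, hy⟩ := hperf.2 ((D.loc c ⟨V, hV⟩).toLinearMap ∘ₗ g ∘ₗ (D.loc b ⟨V, hV⟩).symm.toLinearMap)
      refine ⟨(D.loc a ⟨V, hV⟩).symm y, ?_⟩
      refine LinearMap.ext fun m => ?_
      apply (D.loc c ⟨V, hV⟩).injective
      refine (hw _ _).trans ?_
      rw [LinearEquiv.apply_symm_apply, hy]
      simp
  have h3 : Function.Bijective (fun t => E ((beta D h).app V t)) := by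
    have : (fun t => E ((beta D h).app V t)) = (fun t : Γ(D.term a, V) => (wdₗ D h V).flip t) := funext hE
    rw [this]
    exact key
  exact (Function.Bijective.of_comp_iff' E.bijective _).mp h3

end K854.WedgeSh
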