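import Groth.Agent.DeRhamSh.K854.CechLeib
import Groth.Agent.DeRhamSh.K854.CechAcyc
import Groth.Agent.DeRhamSh.K854.WedgeSh

/-!
# Čech cochains as cochains of homomorphisms

For `β : A ⟶ Hom(F, W)`: `Th U β m : Γ(cc U A m, ⊤) → (F ⟶ cc U W m)`, compatible with the differentials, bijective if
`β` is an isomorphism.  `cpd`: the cup product of Čech cochains with values in the terms of a de Rham complex.
-/

set_option autoImplicit false
universe u

open CategoryTheory CategoryTheory.Limits AlgebraicGeometry Opposite TopologicalSpace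
open Groth.Agent.LoccohB.GlueHom
open Groth.Agent.Lefpen.H278.SecSys (UI UI_anti UI_range)
open Groth.Agent.CohqB.HomSheaf (homSheaf comp mkSec comp_mkSec comp_add comp_smul ofHom)

namespace K854.CechMod

variable {X : Scheme.{u}} {ι : Type} (U : ι → X.Opens) {A F W : X.Modules}

/-- Evaluation of sections of the internal Hom. -/
noncomputable def evH {V V' : X.Opens} (hV : V' ≤ V) (m : Γ(F, V')) : Γ(homSheaf F W, V) →+ Γ(W, V') where
  toFun s := comp s V' hV m
  map_zero' := rfl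
  map_add' _ _ := rfl

theorem evH_apply {V V' : X.Opens} (hV : V' ≤ V) (m : Γ(F, V')) (s : Γ(homSheaf F W, V)) :
    evH hV m s = comp s V' hV m := rfl

theorem evH_res {V V' V'' : X.Opens} (hV : V' ≤ V) (h : V'' ≤ V') (m : Γ(F, V'')) (s : Γ(homSheaf F W, V)) :
    evH h m (res (homSheaf F W) hV s) = evH (h.trans hV) m s := rfl

variable (β : A ⟶ homSheaf F W)

/-- Čech cochains as cochains of homomorphisms. -/
noncomputable def Th (m : ℕ) (x : Γ(cc U A m, ⊤)) : F ⟶ cc U W m :=
  hom (fun V => (toF (Ot U m) W).symm.toAddMonoidHom.comp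
      (AddMonoidHom.mk' (fun ω σ => comp (β.app (⊤ ⊓ Ot U m σ) (tf U A x σ)) (V ⊓ Ot U m σ)
        (inf_le_inf_right _ le_top) (res F inf_le_left ω)) (fun s t => by
        funext σ
        rw [map_add, map_add]
        rfl)))
    (fun V r s => by
      apply sec_ext'
      intro σ
      change comp (β.app (⊤ ⊓ Ot U m σ) (tf U A x σ)) (V ⊓ Ot U m σ) (inf_le_inf_right _ le_top)
        (res F inf_le_left (r • s)) = resO (inf_le_left : V ⊓ Ot U m σ ≤ V) r •
          comp (β.app (⊤ ⊓ Ot U m σ) (tf U A x σ)) (V ⊓ Ot U m σ) (inf_le_inf_right _ le_top)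
            (res F inf_le_left s)
      rw [res_smul, map_smul])
    (fun {V V'} h s => by
      apply sec_ext'
      intro σ
      change comp _ _ _ (res F _ (res F _ s)) = res W _ (comp _ _ _ (res F _ s))
      rw [← comp_map'', res_res, res_res])

theorem Th_app (m : ℕ) (x : Γ(cc U A m, ⊤)) (V : X.Opens) (ω : Γ(F, V)) (σ : Fin (m + 1) → ι) :
    tf U W ((Th U β m x).app V ω) σ = comp (β.app (⊤ ⊓ Ot U m σ) (tf U A x σ)) (V ⊓ Ot U m σ)
        (inf_le_inf_right _ le_top) (res F inf_le_left ω) := rfl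

theorem Th_add (m : ℕ) (x y : Γ(cc U A m, ⊤)) : Th U β m (x + y) = Th U β m x + Th U β m y := by
  apply hom_ext
  intro V ω
  apply sec_ext'
  intro σ
  have h1 : tf U W ((Th U β m x + Th U β m y).app V ω) σ =
    tf U W ((Th U β m x).app V ω) σ + tf U W ((Th U β m y).app V ω) σ := rfl
  rw [h1, Th_app, Th_app, Th_app, tf_add', map_add]
  rfl

theorem Th_zero (m : ℕ) : Th U β m 0 = 0 := by
  have h := Th_add U β m 0 0
  rw [add_zero] at h
  exact left_eq_add.mp h

theorem Th_dd (m : ℕ) (x : Γ(cc U A m, ⊤)) : Th U β (m + 1) ((dd U A m).app ⊤ x) = Th U β m x ≫ dd U W m := by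
  apply hom_ext
  intro V ω
  apply sec_ext'
  intro σ
  rw [Th_app, app_comp, dd_app, dd_app, map_sum]
  change evH _ _ (∑ j : Fin (m + 2), _) = _
  rw [map_sum]
  refine Finset.sum_congr rfl fun j _ => ?_
  rw [map_zsmul, map_zsmul, Th_app, app_res, evH_res, evH_apply, ← comp_map'', res_res]

theorem Th_injective [IsIso β] (m : ℕ) : Function.Injective (Th U β m) := by
  intro x y h
  apply sec_ext'
  intro σ
  have hβ : Function.Injective (β.app (⊤ ⊓ Ot U m σ)) := by
    intro a b hab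
    have h1 := congrArg ((inv β).app (⊤ ⊓ Ot U m σ)) hab
    rw [← app_comp, ← app_comp, IsIso.hom_inv_id] at h1
    exact h1
  apply hβ
  refine Groth.Agent.CohqB.HomSheaf.sec_ext fun V' hV' ω => ?_
  have h1 : tf U W ((Th U β m x).app V' ω) σ = tf U W ((Th U β m y).app V' ω) σ := by rw [h]
  rw [Th_app, Th_app, comp_map'', comp_map''] at h1
  have h2 := congrArg (res W (le_inf le_rfl (hV'.trans inf_le_right) : V' ≤ V' ⊓ Ot U m σ)) h1
  rw [res_res, res_res, res_self, res_self] at h2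
  exact h2

theorem Th_surjective [IsIso β] (m : ℕ) : Function.Surjective (Th U β m) := by
  intro g
  let s : Γ(homSheaf F (cc U W m), ⊤) := ofHom g ⊤
  refine ⟨ff U A (fun σ => (inv β).app (⊤ ⊓ Ot U m σ) (hc (Ot U m) F W s σ)), ?_⟩
  apply hom_ext
  intro V ω
  apply sec_ext'
  intro σ
  rw [Th_app]
  have h1 : β.app (⊤ ⊓ Ot U m σ) (tf U A (ff U A (fun σ => (inv β).app (⊤ ⊓ Ot U m σ)
      (hc (Ot U m) F W s σ))) σ) = hc (Ot U m) F W s σ := by
    change β.app _ ((inv β).app _ _) = _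
    rw [← app_comp, IsIso.inv_hom_id]
    rfl
  rw [h1, comp_hc]
  change res W _ (tf U W (g.app _ (res F _ ω)) σ) = _
  rw [app_res, tf_res, res_res]
  exact res_self _ _ _

end K854.CechMod

namespace K854.CechWedge

open K854.CechMod K854.WedgeSh

variable {X S : Scheme.{u}} {f : X ⟶ S} {Ω : X.Modules} {δ : OmegaSh.Der f Ω} (D : DeRhamSh.Cx f Ω δ)
  {ι : Type} (U : ι → X.Opens)

/-- The cup product of Čech cochains. -/
noncomputable def cpd {a a' c : ℕ} (h : a + a' = c) {n m : ℕ} (N : ℕ) (y : Γ(cc U (D.term a) n, ⊤))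
    (x : Γ(cc U (D.term a') m, ⊤)) : Γ(cc U (D.term c) N, ⊤) :=
  (cupN U (Th U (beta D h) m x) n N).app ⊤ y

variable {a a' c : ℕ} (h : a + a' = c) {n m : ℕ} (N : ℕ)

theorem tf_cpd (y : Γ(cc U (D.term a) n, ⊤)) (x : Γ(cc U (D.term a') m, ⊤)) (σ : Fin (N + 1) → ι) :
    tf U (D.term c) (cpd D U h N y x) σ = wd D h (⊤ ⊓ Ot U N σ)
      (res (D.term a) (inf_le_inf_left ⊤ (Ot_tp U σ n id)) (tf U (D.term a) y (tp n (sq σ) id)))
      (res (D.term a') (inf_le_inf_left ⊤ (Ot_tp U σ m (fun i => n + i)))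
        (tf U (D.term a') x (tp m (sq σ) (fun i => n + i)))) := by
  unfold cpd
  rw [cupN_app]
  unfold tm
  rw [Th_app, comp_beta, wd_res, res_res, res_res]

/-- Čech Leibniz rule. -/
theorem dd_cpd (hN : m + n = N) (y : Γ(cc U (D.term a) n, ⊤)) (x : Γ(cc U (D.term a') m, ⊤)) :
    (dd U (D.term c) N).app ⊤ (cpd D U h N y x) = cpd D U h (N + 1) ((dd U (D.term a) n).app ⊤ y) x +
      (-1 : ℤ) ^ n • cpd D U h (N + 1) y ((dd U (D.term a') m).app ⊤ x) := by
  unfold cpd
  rw [leibniz U _ hN, Th_dd]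

end K854.CechWedge
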