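import Groth.Agent.DeRhamSh.K854.DblDual
import Groth.Agent.DelIll.K890.RingLem

/-!
# The total complex of a double complex through families

`nonempty_H_equiv`: the cohomology of `Tot` is the cohomology of a complex of families `(a, b) ↦ S a b`, `a + b = n`.
-/

set_option autoImplicit false
universe u

open DirectSum

namespace K854.DblPair

open K854.FiltDual2

variable {k : Type u} [Field k]

namespace Dbl

variable (A : Dbl.{u, u} k)

theorem co_D_succ_zero (a : ℕ) (x : A.Tot) : A.co (a + 1) 0 (A.D x) = A.dH a 0 (A.co a 0 x) := by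
  have h : A.co (a + 1) 0 ∘ₗ A.D = A.dH a 0 ∘ₗ A.co a 0 := by
    refine A.lin_ext fun a' b' y => ?_
    change A.co (a + 1) 0 (A.D (A.io a' b' y)) = A.dH a 0 (A.co a 0 (A.io a' b' y))
    rw [D_io, map_add, map_smul, A.co_io_ne (a := a') (b := b' + 1) (by intro he; rw [Prod.mk.injEq] at he; omega),
      smul_zero, add_zero]
    by_cases h1 : (a', b') = (a, 0)
    · rw [Prod.mk.injEq] at h1
      obtain ⟨rfl, rfl⟩ := h1
      rw [co_io, co_io]
    · rw [A.co_io_ne (by intro he; apply h1; rw [Prod.mk.injEq] at he ⊢; omega), A.co_io_ne h1, map_zero]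
  exact LinearMap.congr_fun h x

theorem DG' {n : ℕ} {x : A.Tot} (hx : x ∈ A.G n) : A.D x ∈ A.G ((n + 1 : ℕ) : ℤ) := by
  have := A.DG hx
  push_cast
  exact this

section

variable {T : ℕ → Type u} [∀ n, AddCommGroup (T n)] [∀ n, Module k (T n)] (d : ∀ n, T n →ₗ[k] T (n + 1))
  (Ψ : ∀ n : ℕ, A.G n ≃ₗ[k] T n)
  (hΨ : ∀ (n : ℕ) (x : A.G n), Ψ (n + 1) ⟨A.D x.1, A.DG' x.2⟩ = d n (Ψ n x))

include hΨ in
theorem nonempty_H_equiv (n : ℕ) : Nonempty (H A.D A.G n ≃ₗ[k] K890.RingLem.H d n) := by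
  let e₀ : Z A.D A.G n →ₗ[k] LinearMap.ker (d n) :=
    LinearMap.codRestrict _ ((Ψ n).toLinearMap ∘ₗ Submodule.inclusion inf_le_left) (fun x => by
      rw [LinearMap.mem_ker]
      change d n (Ψ n ⟨x.1, x.2.1⟩) = 0
      rw [← hΨ]
      have h1 : (⟨A.D x.1, A.DG' x.2.1⟩ : A.G ((n + 1 : ℕ) : ℤ)) = 0 := Subtype.ext x.2.2
      rw [h1, map_zero])
  have he : ∀ x : Z A.D A.G n, (e₀ x).1 = Ψ n ⟨x.1, x.2.1⟩ := fun _ => rfl
  have hb : Function.Bijective e₀ := by
    constructor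
    · intro x y hxy
      have h1 : Ψ n ⟨x.1, x.2.1⟩ = Ψ n ⟨y.1, y.2.1⟩ := congrArg Subtype.val hxy
      have h2 : (⟨x.1, x.2.1⟩ : A.G n) = ⟨y.1, y.2.1⟩ := (Ψ n).injective h1
      have h3 : x.1 = y.1 := congrArg (fun z : A.G n => (z : A.Tot)) h2
      exact Subtype.ext h3
    · intro y
      obtain ⟨x, hx⟩ := (Ψ n).surjective y.1
      have h1 : A.D x.1 = 0 := by
        have h2 := hΨ n x
        rw [hx, show d n y.1 = 0 from y.2, ← map_zero (Ψ (n + 1))] at h2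
        exact congrArg Subtype.val ((Ψ (n + 1)).injective h2)
      exact ⟨⟨x.1, x.2, h1⟩, Subtype.ext hx⟩
  let e := LinearEquiv.ofBijective e₀ hb
  have hiff : ∀ x : Z A.D A.G n, x ∈ B A.D A.G n ↔ e x ∈ Groth.Agent.Ega3B.FlatCxB.bz d n := by
    intro x
    rw [mem_B, Groth.Agent.Ega3B.FlatCxB.mem_bz]
    change _ ↔ Ψ n ⟨x.1, x.2.1⟩ ∈ _
    cases n with
    | zero =>
      constructor
      · rintro ⟨z, hz, hz'⟩
        have hz0 : z = 0 := by
          refine A.ext fun a b => ?_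
          rw [map_zero]
          exact hz a b (by push_cast; omega)
        have hx0 : (⟨x.1, x.2.1⟩ : A.G ((0 : ℕ) : ℤ)) = 0 := Subtype.ext (by
          change x.1 = 0
          rw [← hz', hz0, map_zero])
        rw [hx0, map_zero]
        exact zero_mem _
      · intro h
        have h1 : Ψ 0 ⟨x.1, x.2.1⟩ = 0 := (Submodule.mem_bot k).mp h
        rw [← map_zero (Ψ 0)] at h1
        have h2 : x.1 = 0 := congrArg Subtype.val ((Ψ 0).injective h1)
        exact ⟨0, zero_mem _, by rw [map_zero, h2]⟩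
    | succ n =>
      constructor
      · rintro ⟨z, hz, hz'⟩
        have hz1 : z ∈ A.G (n : ℤ) := by
          rw [show (n : ℤ) = ((n + 1 : ℕ) : ℤ) - 1 by push_cast; ring]
          exact hz
        refine ⟨Ψ n ⟨z, hz1⟩, ?_⟩
        rw [← hΨ]
        congr 1
        exact Subtype.ext hz'
      · rintro ⟨y, hy⟩
        obtain ⟨z, rfl⟩ := (Ψ n).surjective y
        rw [← hΨ] at hy
        have h2 := congrArg Subtype.val ((Ψ (n + 1)).injective hy)
        refine ⟨z.1, ?_, h2⟩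
        rw [show ((n + 1 : ℕ) : ℤ) - 1 = (n : ℤ) by push_cast; ring]
        exact z.2
  refine ⟨Submodule.Quotient.equiv _ _ e ?_⟩
  ext y
  obtain ⟨x, rfl⟩ := e.surjective y
  constructor
  · rintro ⟨x', hx', h⟩
    have h1 : x' = x := e.injective h
    rw [← h1]
    exact (hiff x').mp hx'
  · intro h
    exact ⟨x, (hiff x).mpr h, rfl⟩

end

section Fam

variable {S : ℕ → ℕ → Type u} [∀ a b, AddCommGroup (S a b)] [∀ a b, Module k (S a b)]
  (θ : ∀ a b, S a b ≃ₗ[k] A.C a b)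

/-- The components of an element of degree `n`. -/
noncomputable def psi₀ (n : ℕ) : A.G n →ₗ[k] (∀ p : {p : ℕ × ℕ // p.1 + p.2 = n}, S p.1.1 p.1.2) :=
  LinearMap.pi fun p => (θ p.1.1 p.1.2).symm.toLinearMap ∘ₗ A.co p.1.1 p.1.2 ∘ₗ (A.G n).subtype

theorem psi₀_apply (n : ℕ) (x : A.G n) (p : {p : ℕ × ℕ // p.1 + p.2 = n}) :
    A.psi₀ θ n x p = (θ p.1.1 p.1.2).symm (A.co p.1.1 p.1.2 x.1) := rfl

theorem psi₀_bijective (n : ℕ) : Function.Bijective (A.psi₀ θ n) := by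
  constructor
  · intro x y h
    apply Subtype.ext
    refine A.ext fun a b => ?_
    by_cases hab : a + b = n
    · have h1 := congrFun h ⟨(a, b), hab⟩
      rw [psi₀_apply, psi₀_apply] at h1
      exact (θ a b).symm.injective h1
    · rw [x.2 a b (by exact_mod_cast hab), y.2 a b (by exact_mod_cast hab)]
  · intro y
    let x : A.Tot := DirectSum.mk (fun p : ℕ × ℕ => A.C p.1 p.2) (Finset.antidiagonal n)
      (fun p => θ p.1.1 p.1.2 (y ⟨p.1, Finset.mem_antidiagonal.mp p.2⟩))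
    have hx : x ∈ A.G n := by
      intro a b hab
      change x (a, b) = 0
      exact DirectSum.mk_apply_of_notMem (β := fun p : ℕ × ℕ => A.C p.1 p.2) (n := (a, b)) (fun h => hab (by
        exact_mod_cast Finset.mem_antidiagonal.mp h))
    refine ⟨⟨x, hx⟩, funext fun p => ?_⟩
    rw [psi₀_apply, LinearEquiv.symm_apply_eq]
    change x p.1 = _
    exact DirectSum.mk_apply_of_mem (β := fun p : ℕ × ℕ => A.C p.1 p.2) (n := p.1) (Finset.mem_antidiagonal.mpr p.2)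

/-- The components of an element of degree `n`, as an equivalence. -/
noncomputable def psi (n : ℕ) : A.G n ≃ₗ[k] (∀ p : {p : ℕ × ℕ // p.1 + p.2 = n}, S p.1.1 p.1.2) :=
  LinearEquiv.ofBijective (A.psi₀ θ n) (A.psi₀_bijective θ n)

theorem θ_psi (n : ℕ) (x : A.G n) (a b : ℕ) (h : a + b = n) : θ a b (A.psi θ n x ⟨(a, b), h⟩) = A.co a b x.1 :=
  (θ a b).apply_symm_apply _

variable (d : ∀ n, (∀ p : {p : ℕ × ℕ // p.1 + p.2 = n}, S p.1.1 p.1.2) →ₗ[k]
  (∀ p : {p : ℕ × ℕ // p.1 + p.2 = n + 1}, S p.1.1 p.1.2))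
  (hz : ∀ (n b : ℕ) (t : ∀ p : {p : ℕ × ℕ // p.1 + p.2 = n}, S p.1.1 p.1.2) (h : 0 + (b + 1) = n + 1)
    (h' : 0 + b = n), θ 0 (b + 1) (d n t ⟨(0, b + 1), h⟩) = (-1 : k) ^ (n + 1) • A.dV 0 b (θ 0 b (t ⟨(0, b), h'⟩)))
  (hs : ∀ (n a : ℕ) (t : ∀ p : {p : ℕ × ℕ // p.1 + p.2 = n}, S p.1.1 p.1.2) (h : a + 1 + 0 = n + 1)
    (h' : a + 0 = n), θ (a + 1) 0 (d n t ⟨(a + 1, 0), h⟩) = A.dH a 0 (θ a 0 (t ⟨(a, 0), h'⟩)))
  (hss : ∀ (n a b : ℕ) (t : ∀ p : {p : ℕ × ℕ // p.1 + p.2 = n}, S p.1.1 p.1.2) (h : a + 1 + (b + 1) = n + 1)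
    (h' : a + (b + 1) = n) (h'' : a + 1 + b = n), θ (a + 1) (b + 1) (d n t ⟨(a + 1, b + 1), h⟩) =
      A.dH a (b + 1) (θ a (b + 1) (t ⟨(a, b + 1), h'⟩)) + (-1 : k) ^ (n + 1) • A.dV (a + 1) b (θ (a + 1) b (t ⟨(a + 1, b), h''⟩)))

include hz hs hss in
theorem nonempty_H_equiv_fam (n : ℕ) : Nonempty (H A.D A.G n ≃ₗ[k] K890.RingLem.H d n) := by
  refine A.nonempty_H_equiv d (A.psi θ) (fun n x => ?_) n
  funext p
  obtain ⟨⟨a, b⟩, h⟩ := p
  change a + b = n + 1 at h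
  apply (θ a b).injective
  rw [A.θ_psi]
  cases a with
  | zero =>
    cases b with
    | zero => omega
    | succ b =>
      rw [hz n b _ h (by omega), A.θ_psi]
      obtain rfl : b = n := by omega
      exact A.co_D_zero b x.1
  | succ a =>
    cases b with
    | zero =>
      rw [hs n a _ h (by omega), A.θ_psi]
      exact A.co_D_succ_zero a x.1
    | succ b =>
      rw [hss n a b _ h (by omega) (by omega), A.θ_psi, A.θ_psi]
      have h1 : (-1 : k) ^ (n + 1) = (-1) ^ (a + b) := by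
        rw [← h]
        ring
      rw [h1]
      exact A.co_D_succ a b x.1

end Fam

end Dbl

end K854.DblPair
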