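import Groth.Agent.DeRhamSh.K854.PPerf
import Groth.Agent.DeRhamSh.K854.DblCmp
import Groth.Agent.DelIll.K890.RankBC
import Groth.Agent.DelIll.K890.CechFull

/-!
# Complexes of abelian sheaves with `O_X`-module terms as `LCx`, and their hypercohomology

`ofCx h : LCx k X`; `nonempty_HT`: for a finite affine cover of a separated scheme the cohomology of the total Čech
complex of `ofCx h` is the hypercohomology of `K`, `k`-linearly.
-/

set_option autoImplicit false
universe w u

open CategoryTheory CategoryTheory.Limits AlgebraicGeometry Opposite TopologicalSpace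
open Groth.Agent Groth.Agent.LoccohB.GlueHom
open K854.CechMod K854.CechPair K854.DblPair K854.PCx
open Groth.Agent.Lefpen.H278.SecSys (Sec UI_range)

namespace K854.DRCx

section Of

variable {k : Type u} [Field k] {X : Scheme.{u}} [X.Over (Spec (CommRingCat.of k))]
  {K : CochainComplex (Sheaf (Opens.grothendieckTopology X) AddCommGrpCat.{u}) ℕ}
  {term : ℕ → X.Modules} {iso : ∀ p : ℕ, K.X p ≅ Coh.toAb (term p)}
  (h : KLinDR.TermwiseLinear (Coh.toGlobal (X ↘ Spec (CommRingCat.of k))) K term iso)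

/-- The differential read on the modules. -/
noncomputable def dO (K : CochainComplex (Sheaf (Opens.grothendieckTopology X) AddCommGrpCat.{u}) ℕ)
    (term : ℕ → X.Modules) (iso : ∀ p : ℕ, K.X p ≅ Coh.toAb (term p)) (a : ℕ) :
    Coh.toAb (term a) ⟶ Coh.toAb (term (a + 1)) := (iso a).inv ≫ K.d a (a + 1) ≫ (iso (a + 1)).hom

omit [X.Over (Spec (CommRingCat.of k))] in
theorem dO_dO (a : ℕ) : dO K term iso a ≫ dO K term iso (a + 1) = 0 := by
  simp [dO]

include h in
theorem dO_smul (a : ℕ) (t : k) : dO K term iso a ≫ Coh.smulAb (term (a + 1)) (Coh.toGlobal (X ↘ Spec (CommRingCat.of k)) t) =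
    Coh.smulAb (term a) (Coh.toGlobal (X ↘ Spec (CommRingCat.of k)) t) ≫ dO K term iso a := by
  have h1 := h t a
  unfold KLinDR.scalarEnd at h1
  have h2 := congrArg (fun z => (iso a).inv ≫ z ≫ (iso (a + 1)).hom) h1
  simpa [dO] using h2

/-- The complex of modules with `k`-linear differentials. -/
noncomputable def ofCx : LCx k X where
  M := term
  d a V :=
    { toFun := fun s => ((dO K term iso a).hom.app (op V)).hom s
      map_add' := fun s t => map_add ((dO K term iso a).hom.app (op V)).hom s t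
      map_smul' := fun t s =>
        (congrArg (fun z : Coh.toAb (term a) ⟶ Coh.toAb (term (a + 1)) => (z.hom.app (op V)).hom s) (dO_smul h a t)).symm }
  d_res a {_ _} hV s := ConcreteCategory.congr_hom ((dO K term iso a).hom.naturality (homOfLE hV).op) s
  d_d a V s :=
    congrArg (fun z : Coh.toAb (term a) ⟶ Coh.toAb (term (a + 2)) => (z.hom.app (op V)).hom s)
      (dO_dO (K := K) (term := term) (iso := iso) a)

theorem ofCx_M (a : ℕ) : (ofCx h).M a = term a := rfl

theorem ofCx_d (a : ℕ) (V : X.Opens) (s : Γ(term a, V)) :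
    (ofCx h).d a V s = ((dO K term iso a).hom.app (op V)).hom s := rfl

end Of

section HT

open K890.CechHT K890.TotMod K890.CechFull K890.RankBC Groth.Agent.Ega3B.CombRes

variable {k : Type u} [Field k] {X : Scheme.{u}} [X.Over (Spec (CommRingCat.of k))]
  {K : CochainComplex (Sheaf (Opens.grothendieckTopology X) AddCommGrpCat.{u}) ℕ}
  {term : ℕ → X.Modules} {iso : ∀ p : ℕ, K.X p ≅ Coh.toAb (term p)}
  (h : KLinDR.TermwiseLinear (Coh.toGlobal (X ↘ Spec (CommRingCat.of k))) K term iso)
  {ι : Type} [Fintype ι] [DecidableEq ι] (U : ι → X.Opens)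

/-- The full Čech datum of a family of opens of a scheme. -/
noncomputable abbrev fU : Data X.toPresheafedSpace.carrier := full (X := X.toPresheafedSpace.carrier) U

omit [X.Over (Spec (CommRingCat.of k))] in
theorem W_eq (b : ℕ) (σ : Fin (b + 1) → ι) : (⊤ : X.Opens) ⊓ Ot U b σ = (fU U).W b σ :=
  (top_inf_eq _).trans (UI_range U σ)

/-- The identification of the terms on sections. -/
noncomputable def isoS (a : ℕ) (V : X.Opens) : GS (act h) a V ≃ₗ[k] Sec k (term a) V where
  toFun x := ((iso a).hom.hom.app (op V)).hom x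
  invFun x := ((iso a).inv.hom.app (op V)).hom x
  left_inv x := congrArg (fun z : K.X a ⟶ K.X a => (z.hom.app (op V)).hom x) (iso a).hom_inv_id
  right_inv x := congrArg (fun z : Coh.toAb (term a) ⟶ Coh.toAb (term a) => (z.hom.app (op V)).hom x) (iso a).inv_hom_id
  map_add' := map_add ((iso a).hom.hom.app (op V)).hom
  map_smul' t x := by
    have h1 : KLinDR.scalarEnd (Coh.toGlobal (X ↘ Spec (CommRingCat.of k))) term iso t a ≫ (iso a).hom =
        (iso a).hom ≫ Coh.smulAb (term a) (Coh.toGlobal (X ↘ Spec (CommRingCat.of k)) t) := by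
      simp [KLinDR.scalarEnd]
    exact congrArg (fun z : K.X a ⟶ Coh.toAb (term a) => (z.hom.app (op V)).hom x) h1

theorem isoS_res (a : ℕ) {V V' : X.Opens} (hV : V' ≤ V) (x : (K.X a).obj.obj (op V)) :
    isoS h a V' (((K.X a).obj.map (homOfLE hV).op).hom x) = res (term a) hV (isoS h a V x) :=
  ConcreteCategory.congr_hom ((iso a).hom.hom.naturality (homOfLE hV).op) x

theorem isoS_d (a : ℕ) (V : X.Opens) (x : (K.X a).obj.obj (op V)) :
    isoS h (a + 1) V (((K.d a (a + 1)).hom.app (op V)).hom x) = (ofCx h).d a V (isoS h a V x) := by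
  have h1 : K.d a (a + 1) ≫ (iso (a + 1)).hom = (iso a).hom ≫ dO K term iso a := by simp [dO]
  exact congrArg (fun z : K.X a ⟶ Coh.toAb (term (a + 1)) => (z.hom.app (op V)).hom x) h1

/-- The identification of Čech cochains. -/
noncomputable def θ (a b : ℕ) : (∀ σ : (fU U).B b, GS (act h) a ((fU U).W b σ)) ≃ₗ[k] (dbl U (ofCx h)).C a b where
  toFun x := ff U (term a) (fun σ => res (term a) (W_eq U b σ).le (isoS h a _ (x σ)))
  invFun y := fun σ => (isoS h a _).symm (res (term a) (W_eq U b σ).ge (tf U (term a) (V := ⊤) y σ))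
  left_inv x := by
    funext σ
    refine (LinearEquiv.symm_apply_eq (isoS h a _)).mpr ?_
    exact (res_res (term a) _ _ _).trans (res_self (term a) _ _)
  right_inv y := by
    apply sec_ext'
    intro σ
    refine (congrArg (res (term a) (W_eq U b σ).le) ((isoS h a _).apply_symm_apply _)).trans ?_
    exact (res_res (term a) _ _ _).trans (res_self (term a) _ _)
  map_add' x y := by
    apply sec_ext'
    intro σ
    change res (term a) _ (isoS h a _ (x σ + y σ)) = res (term a) _ (isoS h a _ (x σ)) + res (term a) _ (isoS h a _ (y σ))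
    rw [map_add]
    exact map_add (res (term a) _) _ _
  map_smul' t x := by
    apply sec_ext'
    intro σ
    refine Eq.trans ?_ (tf_ksmul k U (term a) t _ σ).symm
    change res (term a) _ (isoS h a _ (t • x σ)) = _
    rw [map_smul]
    exact res_ksmul k (term a) _ t _

theorem tf_θ (a b : ℕ) (x : ∀ σ : (fU U).B b, GS (act h) a ((fU U).W b σ)) (σ : Fin (b + 1) → ι) :
    tf U (term a) (V := ⊤) (θ h U a b x) σ = res (term a) (W_eq U b σ).le (isoS h a _ (x σ)) := rfl

theorem θ_hor (a b : ℕ) (x : (fU U).K b (K.X a).obj) :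
    θ h U (a + 1) b ((fU U).Kmap b (K.d a (a + 1)).hom x) = (dbl U (ofCx h)).dH a b (θ h U a b x) := by
  apply sec_ext'
  intro σ
  change res (term (a + 1)) _ (isoS h (a + 1) _ (((K.d a (a + 1)).hom.app (op _)).hom (x σ))) =
    (ofCx h).d a _ (res (term a) _ (isoS h a _ (x σ)))
  rw [isoS_d]
  exact ((ofCx h).d_res a _ _).symm

theorem θ_ver (a b : ℕ) (x : (fU U).K b (K.X a).obj) :
    θ h U a (b + 1) ((fU U).δ b (K.X a).obj x) = (dbl U (ofCx h)).dV a b (θ h U a b x) := by
  apply sec_ext'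
  intro σ
  change res (term a) _ (isoS h a _ ((fU U).δ b (K.X a).obj x σ)) = ∑ j : Fin (b + 2), (-1 : ℤ) ^ (j : ℕ) •
      res (term a) (inf_le_inf_left ⊤ (Ot_face U σ j)) (res (term a) _ (isoS h a _ (x (σ ∘ j.succAbove))))
  have h1 : (fU U).δ b (K.X a).obj x σ = ∑ j : Fin (b + 2), (-1 : ℤ) ^ (j : ℕ) •
      (K.X a).obj.map (homOfLE (face_le (U := U) σ j)).op (x (σ ∘ j.succAbove)) := full_δ_apply b x σ
  rw [h1]
  refine (congrArg (res (term a) _) (map_sum (isoS h a _) _ _)).trans ?_
  refine (map_sum (res (term a) (W_eq U (b + 1) σ).le) _ _).trans ?_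
  refine Finset.sum_congr rfl fun j _ => ?_
  refine (congrArg (res (term a) _) (map_zsmul (isoS h a _) _ _)).trans ?_
  refine (map_zsmul (res (term a) (W_eq U (b + 1) σ).le) _ _).trans ?_
  congr 1
  refine (congrArg (res (term a) _) (isoS_res h a _ _)).trans ?_
  exact (res_res (term a) _ _ _).trans (res_res (term a) _ _ _).symm

theorem negOnePow_smul_eq {N : Type*} [AddCommGroup N] [Module k N] (m : ℕ) (z : N) :
    (m : ℤ).negOnePow • z = (-1 : k) ^ m • z := by
  induction m with
  | zero => simp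
  | succ m ih =>
    rw [Nat.cast_succ, Int.negOnePow_succ, Units.neg_smul, ih, pow_succ]
    simp

theorem map_negOnePow {M N : Type*} [AddCommGroup M] [AddCommGroup N] [Module k N] (f : M →+ N) (m : ℕ) (x : M) :
    f ((m : ℤ).negOnePow • x) = (-1 : k) ^ m • f x := by
  rw [← negOnePow_smul_eq, Units.smul_def, Units.smul_def, map_zsmul]

/-- `θ` on cochains. -/
noncomputable def θ' (a b : ℕ) : (fU U).K b (K.X a).obj →+ (dbl U (ofCx h)).C a b where
  toFun x := θ h U a b x
  map_zero' := map_zero (θ h U a b)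
  map_add' x y := map_add (θ h U a b) x y

theorem θ_comb (a b m : ℕ) (x y : (fU U).K b (K.X a).obj) :
    θ h U a b (show (fU U).K b (K.X a).obj from x + (m : ℤ).negOnePow • y) = θ h U a b x + (-1 : k) ^ m • θ h U a b y :=
  (map_add (θ' h U a b) x _).trans (congrArg (fun z => θ' h U a b x + z) (map_negOnePow (θ' h U a b) m y))

/-- **The cohomology of the total Čech complex is the hypercohomology.** -/
theorem nonempty_HT [HasDerivedCategory.{w} (Sheaf (Opens.grothendieckTopology X) AddCommGrpCat.{u})]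
    [X.IsSeparated] (hcov : ⨆ i, U i = ⊤) (hU : ∀ s : Finset ι, s.Nonempty → IsAffineOpen (⨅ i ∈ s, U i))
    (hqc : ∀ a, Coh.IsQCoh (term a)) (n : ℕ) :
    Nonempty (FiltDual2.H (dbl U (ofCx h)).D (dbl U (ofCx h)).G n ≃ₗ[k]
      KLinDR.HTρ (CohCx.freeSheaf (Opens.grothendieckTopology X) (⊤ : X.Opens)) (K.extend ComplexShape.embeddingUpNat)
        (KLinDR.scalar h) n) := by
  have hW : ∀ (b : ℕ) (σ : (fU U).B b), IsAffineOpen (X := X) ((fU U).W b σ) := by
    intro b σ
    have h1 : IsAffineOpen (⊤ ⊓ Ot U b σ) := isAffineOpen_top_inf U hU b σ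
    exact (congrArg IsAffineOpen (W_eq U b σ)).mp h1
  obtain ⟨e₁⟩ := nonempty_equiv_HT h (fU U) (full_locGood hcov) hW hqc n
  have e₂ := (dbl U (ofCx h)).nonempty_H_equiv_fam (θ h U) (fun n => dm (act h) (fU U) n)
    (fun n b t hn hn' => by
      refine (θ_comb h U 0 (b + 1) (n + 1) 0 ((fU U).δ b (K.X 0).obj (t ⟨(0, b), hn'⟩))).trans ?_
      refine (congrArg₂ (· + ·) (map_zero (θ h U 0 (b + 1)))
        (congrArg (fun z => (-1 : k) ^ (n + 1) • z) (θ_ver h U 0 b (t ⟨(0, b), hn'⟩)))).trans ?_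
      exact zero_add _)
    (fun n a t hn hn' => by
      refine (θ_comb h U (a + 1) 0 (n + 1) ((fU U).Kmap 0 (K.d a (a + 1)).hom (t ⟨(a, 0), hn'⟩)) 0).trans ?_
      refine (congrArg₂ (· + ·) (θ_hor h U a 0 (t ⟨(a, 0), hn'⟩))
        ((congrArg (fun z => (-1 : k) ^ (n + 1) • z) (map_zero (θ h U (a + 1) 0))).trans (smul_zero _))).trans ?_
      exact add_zero _)
    (fun n a b t hn hn' hn'' => by
      refine (θ_comb h U (a + 1) (b + 1) (n + 1) ((fU U).Kmap (b + 1) (K.d a (a + 1)).hom (t ⟨(a, b + 1), hn'⟩))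
        ((fU U).δ b (K.X (a + 1)).obj (t ⟨(a + 1, b), hn''⟩))).trans ?_
      exact congrArg₂ (· + ·) (θ_hor h U a (b + 1) (t ⟨(a, b + 1), hn'⟩))
        (congrArg (fun z => (-1 : k) ^ (n + 1) • z) (θ_ver h U (a + 1) b (t ⟨(a + 1, b), hn''⟩)))) n
  exact e₂.map fun e => e.trans e₁

end HT

end K854.DRCx
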