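import Groth.Agent.DeRhamSh.K854.DblPair

/-!
# Duality for total complexes of paired double complexes

`Perf P d`: a trace on the top cocycles, perfect pairings on the vertical cohomology of the columns.
`nonempty_equiv`, `finrank_eq`: the total cohomologies are dual.
-/

set_option autoImplicit false

open DirectSum

namespace K854.DblPair

open K854.FiltDual (exists_fac)
open K854.FiltDual2

variable {k : Type*} [Field k]

namespace Dbl

variable (A : Dbl k)

/-- Vertical coboundaries. -/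
def IsBd (a : ℕ) : (b : ℕ) → A.C a b → Prop
  | 0, x => x = 0
  | b + 1, x => ∃ w : A.C a b, A.dV a b w = x

/-- Acyclicity of the columns above `d`. -/
def Van (d : ℕ) : Prop := ∀ a b, d ≤ b → ∀ x : A.C a (b + 1), A.dV a (b + 1) x = 0 → ∃ w, A.dV a b w = x

/-- Vanishing of the columns beyond `d`. -/
def Bdd (d : ℕ) : Prop := ∀ a b, d < a → ∀ x : A.C a b, x = 0

variable {A}

theorem Bdd.eq_zero {d : ℕ} (h : A.Bdd d) {x : A.Tot} (hx : x ∈ A.F (d + 1)) : x = 0 := by
  refine A.ext fun a b => ?_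
  rw [map_zero]
  by_cases h1 : a < d + 1
  · exact hx a b h1
  · exact h a b (by omega) _

variable (A)

theorem co_D_00 (x : A.Tot) : A.co 0 0 (A.D x) = 0 := by
  have h : A.co 0 0 ∘ₗ A.D = 0 := by
    refine A.lin_ext fun a' b' y => ?_
    change A.co 0 0 (A.D (A.io a' b' y)) = 0
    rw [D_io, map_add, map_smul, A.co_io_ne (by intro he; rw [Prod.mk.injEq] at he; omega),
      A.co_io_ne (by intro he; rw [Prod.mk.injEq] at he; omega), smul_zero, zero_add]
  exact LinearMap.congr_fun h x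

end Dbl

variable {B A E : Dbl k}

/-- The pairing on vertical cocycles. -/
def Pr.muZ (P : Pr B A E) {a a' c : ℕ} (h : a + a' = c) {b b' e : ℕ} (h' : b + b' = e)
    (y : LinearMap.ker (B.dV a b)) (x : LinearMap.ker (A.dV a' b')) : LinearMap.ker (E.dV c e) :=
  ⟨P.mu h h' y.1 x.1, by
    rw [LinearMap.mem_ker, P.leibV h h' (by omega) (by omega), y.2, x.2, map_zero, map_zero, LinearMap.zero_apply,
      smul_zero, add_zero]⟩

/-- Perfect pairing in degree `d`. -/
structure Perf (P : Pr B A E) (d : ℕ) where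
  bddA : A.Bdd d
  bddB : B.Bdd d
  bddE : E.Bdd d
  vanA : A.Van d
  vanB : B.Van d
  vanE : E.Van d
  tr : LinearMap.ker (E.dV d d) →ₗ[k] k
  tr_bd : ∀ z : LinearMap.ker (E.dV d d), E.IsBd d d z.1 → tr z = 0
  tr_dH : ∀ (e : ℕ), d = e + 1 → ∀ (x : E.C e d), E.dV e d x = 0 → ∀ z : LinearMap.ker (E.dV d d),
    E.io d d z.1 = E.io (e + 1) d (E.dH e d x) → tr z = 0
  inj : ∀ (p q m n : ℕ) (h : q + p = d) (h' : n + m = d) (x : LinearMap.ker (A.dV p m)),
    (∀ y : LinearMap.ker (B.dV q n), tr (P.muZ h h' y x) = 0) → A.IsBd p m x.1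
  surj : ∀ (p q m n : ℕ) (h : q + p = d) (h' : n + m = d) (l : LinearMap.ker (B.dV q n) →ₗ[k] k),
    (∀ y, B.IsBd q n y.1 → l y = 0) → ∃ x : LinearMap.ker (A.dV p m), ∀ y, tr (P.muZ h h' y x) = l y

namespace Perf

variable {P : Pr B A E} {d : ℕ} (Q : Perf P d)

theorem tr_eq_zero {x : E.Tot} {z : LinearMap.ker (E.dV d d)} (h : E.D x + E.io d d z.1 = 0) : Q.tr z = 0 := by
  obtain rfl | ⟨e, rfl⟩ : d = 0 ∨ ∃ e, d = e + 1 := by
    cases d with
    | zero => exact Or.inl rfl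
    | succ e => exact Or.inr ⟨e, rfl⟩
  · apply Q.tr_bd
    have h1 := congrArg (E.co 0 0) h
    rw [map_add, E.co_D_00, zero_add, E.co_io, map_zero] at h1
    exact h1
  · have key : ∀ a m : ℕ, a + m = 2 * e + 1 → e + 1 ≤ m →
        ∃ u : E.C a m, E.dV a m u = 0 ∧ E.dH a m u = E.dH a m (E.co a m x) := by
      intro a
      induction a with
      | zero =>
        intro m hm hem
        refine ⟨E.co 0 m x, ?_, rfl⟩
        have h1 := congrArg (E.co 0 (m + 1)) h
        rw [map_add, E.co_D_zero, E.co_io_ne (by intro he; rw [Prod.mk.injEq] at he; omega), add_zero, map_zero] at h1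
        rcases smul_eq_zero.mp h1 with h5 | h5
        · exact absurd h5 (pow_ne_zero _ (neg_ne_zero.mpr one_ne_zero))
        · exact h5
      | succ a ih =>
        intro m hm hem
        obtain ⟨u', hu', hu''⟩ := ih (m + 1) (by omega) (by omega)
        obtain ⟨w, hw⟩ := Q.vanE a m hem u' hu'
        have h1 := congrArg (E.co (a + 1) (m + 1)) h
        rw [map_add, E.co_D_succ, E.co_io_ne (by intro he; rw [Prod.mk.injEq] at he; omega), add_zero, map_zero,
          ← hu'', ← hw, E.HV] at h1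
        have h2 : (-1 : k) ^ (a + m) = 1 := Even.neg_one_pow ⟨e, by omega⟩
        rw [h2, one_smul, ← map_add] at h1
        exact ⟨_, h1, by rw [map_add, E.HH, zero_add]⟩
    obtain ⟨u, hu, hu'⟩ := key e (e + 1) (by omega) le_rfl
    have h1 := congrArg (E.co (e + 1) (e + 1)) h
    have h2 : (-1 : k) ^ (e + e) = 1 := Even.neg_one_pow ⟨e, rfl⟩
    rw [map_add, E.co_D_succ, E.co_io, map_zero, ← hu', h2, one_smul] at h1
    have hz1 : E.dH e (e + 1) u ∈ LinearMap.ker (E.dV (e + 1) (e + 1)) := by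
      rw [LinearMap.mem_ker, ← E.HV, hu, map_zero]
    have hz2 : E.dV (e + 1) e (E.co (e + 1) e x) ∈ LinearMap.ker (E.dV (e + 1) (e + 1)) := by
      rw [LinearMap.mem_ker, E.VV]
    have h3 : z = - ((⟨_, hz1⟩ : LinearMap.ker (E.dV (e + 1) (e + 1))) + ⟨_, hz2⟩) := by
      apply Subtype.ext
      exact (neg_eq_of_add_eq_zero_right h1).symm
    rw [h3, map_neg, map_add, Q.tr_bd ⟨_, hz2⟩ ⟨_, rfl⟩, Q.tr_dH e rfl u hu ⟨_, hz1⟩ rfl, add_zero, neg_zero]

theorem exists_t : ∃ t : E.Tot →ₗ[k] k, (∀ x, t (E.D x) = 0) ∧ ∀ z : LinearMap.ker (E.dV d d),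
    t (E.io d d z.1) = Q.tr z := by
  obtain ⟨t, ht⟩ := exists_fac (E.D.coprod (E.io d d ∘ₗ (LinearMap.ker (E.dV d d)).subtype))
    (Q.tr ∘ₗ LinearMap.snd k E.Tot (LinearMap.ker (E.dV d d))) (by
      rintro ⟨x, z⟩ h
      exact Q.tr_eq_zero h)
  refine ⟨t, fun x => ?_, fun z => ?_⟩
  · have h := ht (x, 0)
    simpa using h
  · have h := ht (0, z)
    simpa using h

/-- The trace on the total complex. -/
noncomputable def t : E.Tot →ₗ[k] k := Q.exists_t.choose

theorem t_D (x : E.Tot) : Q.t (E.D x) = 0 := Q.exists_t.choose_spec.1 x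

theorem t_io (z : LinearMap.ker (E.dV d d)) : Q.t (E.io d d z.1) = Q.tr z := Q.exists_t.choose_spec.2 z

theorem neg_one_sq (n : ℕ) : (-1 : k) ^ n * (-1) ^ n = 1 := by
  rw [← mul_pow, neg_one_mul, neg_neg, one_pow]

/-- The filtered duality datum. -/
noncomputable def dat : Dat k A.Tot B.Tot where
  D := A.D
  D' := B.D
  G := A.G
  G' := B.G
  F := A.F
  F' := B.F
  N := 2 * d
  e := d + 1
  φ := P.mul.compr₂ Q.t
  c n := (-1) ^ (n.toNat + 1)
  cc n := neg_one_sq _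
  DD := A.DD
  DD' := B.DD
  DG := A.DG
  DG' := B.DG
  DF := A.DF
  DF' := B.DF
  anti := A.anti (Nat.le_succ _)
  anti' := B.anti (Nat.le_succ _)
  F_zero x a b h := absurd h (Nat.not_lt_zero _)
  F_zero' x a b h := absurd h (Nat.not_lt_zero _)
  F_e := Q.bddA.eq_zero
  F_e' := Q.bddB.eq_zero
  φF {p q x y} h hy hx := by
    change Q.t (P.mul y x) = 0
    have h1 := P.mul_mem_F hy hx
    rw [show q + p = d + 1 by omega] at h1
    rw [Q.bddE.eq_zero h1, map_zero]
  φD {n y x} hy := by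
    change Q.t (P.mul (B.D y) x) = (-1) ^ (n.toNat + 1) * Q.t (P.mul y (A.D x))
    rcases lt_or_ge n 0 with hn | hn
    · have hy0 : y = 0 := B.eq_zero_of_lt (p := 0) hy (fun a b h => absurd h (Nat.not_lt_zero _)) (by exact_mod_cast hn)
      rw [hy0, map_zero, map_zero, LinearMap.zero_apply, LinearMap.zero_apply, map_zero, mul_zero]
    · obtain ⟨n, rfl⟩ := Int.eq_ofNat_of_zero_le hn
      have h1 := congrArg Q.t (P.leib hy x)
      rw [Q.t_D, map_add, map_smul, smul_eq_mul] at h1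
      rw [Int.toNat_natCast, pow_succ]
      linear_combination -h1

theorem φ_eq (p q m n : ℕ) (h : q + p = d) (h' : n + m = d) {y : B.Tot} {x : A.Tot}
    (y₀ : LinearMap.ker (B.dV q n)) (x₀ : LinearMap.ker (A.dV p m)) (hx : x ∈ A.F p)
    (hy' : y - B.io q n y₀.1 ∈ B.F (q + 1)) (hx' : x - A.io p m x₀.1 ∈ A.F (p + 1)) :
    Q.dat.φ y x = (-1) ^ (n * (p + m)) * Q.tr (P.muZ h h' y₀ x₀) := by
  change Q.t (P.mul y x) = _
  have e1 : P.mul y x = P.mul (y - B.io q n y₀.1) x + P.mul (B.io q n y₀.1) (x - A.io p m x₀.1) +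
      P.mul (B.io q n y₀.1) (A.io p m x₀.1) := by
    rw [map_sub, map_sub, LinearMap.sub_apply]
    abel
  have h1 : P.mul (y - B.io q n y₀.1) x = 0 := by
    have := P.mul_mem_F hy' hx
    rw [show q + 1 + p = d + 1 by omega] at this
    exact Q.bddE.eq_zero this
  have h2 : P.mul (B.io q n y₀.1) (x - A.io p m x₀.1) = 0 := by
    have := P.mul_mem_F (B.io_mem_F q n y₀.1 le_rfl) hx'
    rw [show q + (p + 1) = d + 1 by omega] at this
    exact Q.bddE.eq_zero this
  rw [e1, h1, h2, zero_add, zero_add, P.mul_io, map_smul, smul_eq_mul, P.io_mu (c' := d) rfl h rfl (e' := d) h',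
    ← Q.t_io]
  rfl

theorem P1 (p q : ℕ) (hpq : p + q + 1 = d + 1) : Q.dat.P1 p q := by
  intro n x hx hxp hDx hφ
  change x ∈ A.G n at hx
  change x ∈ A.F p at hxp
  change A.D x ∈ A.F (p + 1) at hDx
  change ∃ z ∈ A.G (n - 1), z ∈ A.F p ∧ x - A.D z ∈ A.F (p + 1)
  rcases lt_or_ge n p with hn | hn
  · refine ⟨0, zero_mem _, zero_mem _, ?_⟩
    rw [A.eq_zero_of_lt hx hxp hn, map_zero, sub_zero]
    exact zero_mem _
  obtain ⟨m, hm⟩ : ∃ m : ℕ, n = p + m := ⟨(n - p).toNat, by omega⟩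
  have h0 := A.dV_eq_zero hx hxp hm hDx
  have h1 := A.sub_mem_F hx hxp hm
  -- it is enough that the leading coefficient is a coboundary
  have key : A.IsBd p m (A.co p m x) → ∃ z ∈ A.G (n - 1), z ∈ A.F p ∧ x - A.D z ∈ A.F (p + 1) := by
    intro hbd
    cases m with
    | zero =>
      refine ⟨0, zero_mem _, zero_mem _, ?_⟩
      have h2 : A.co p 0 x = 0 := hbd
      rw [h2, map_zero, sub_zero] at h1
      rwa [map_zero, sub_zero]
    | succ m =>
      obtain ⟨w, hw⟩ := hbd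
      refine ⟨(-1 : k) ^ (p + m + 1) • A.io p m w, Submodule.smul_mem _ _ (A.io_mem_G _ _ _ (by push_cast at hm; omega)),
        Submodule.smul_mem _ _ (A.io_mem_F _ _ _ le_rfl), ?_⟩
      have h2 : x - A.D ((-1 : k) ^ (p + m + 1) • A.io p m w) = (x - A.io p (m + 1) (A.co p (m + 1) x)) -
          (-1 : k) ^ (p + m + 1) • A.io (p + 1) m (A.dH p m w) := by
        rw [map_smul, A.D_io, smul_add, smul_smul, neg_one_sq, one_smul, hw]
        abel
      rw [h2]
      exact sub_mem h1 (Submodule.smul_mem _ _ (A.io_mem_F _ _ _ le_rfl))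
  apply key
  rcases lt_or_ge d m with hdm | hdm
  · obtain ⟨m, rfl⟩ : ∃ m', m = m' + 1 := ⟨m - 1, by omega⟩
    exact Q.vanA p m (by omega) _ h0
  · refine Q.inj p q m (d - m) (by omega) (by omega) ⟨_, h0⟩ fun y => ?_
    have h2 := hφ (B.io q (d - m) y.1) (B.io_mem_G _ _ _ (by
      change _ = 2 * (d : ℤ) - n
      omega)) (B.io_mem_F _ _ _ le_rfl) (by
      change B.D _ ∈ B.F (q + 1)
      rw [B.D_io, show B.dV q (d - m) y.1 = 0 from y.2, map_zero, smul_zero, add_zero]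
      exact B.io_mem_F _ _ _ le_rfl)
    rw [Q.φ_eq p q m (d - m) (by omega) (by omega) y ⟨_, h0⟩ hxp (by rw [sub_self]; exact zero_mem _) h1] at h2
    rcases mul_eq_zero.mp h2 with h3 | h3
    · exact absurd h3 (pow_ne_zero _ (neg_ne_zero.mpr one_ne_zero))
    · exact h3

theorem P2 (p q : ℕ) (hpq : p + q + 1 = d + 1) : Q.dat.P2 p q := by
  intro n l hl1 hl2
  change ∀ y ∈ B.G (2 * d - n), y ∈ B.F (q + 1) → l y = 0 at hl1
  change ∀ y ∈ B.G (2 * d - n - 1), y ∈ B.F q → l (B.D y) = 0 at hl2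
  change ∃ x ∈ A.G n, x ∈ A.F p ∧ A.D x ∈ A.F (p + 1) ∧ ∀ y ∈ B.G (2 * d - n), y ∈ B.F q → B.D y ∈ B.F (q + 1) →
    l y = Q.dat.φ y x
  -- values on leading terms
  have hlead : ∀ (n' : ℕ), 2 * (d : ℤ) - n = q + n' → ∀ y ∈ B.G (2 * d - n), y ∈ B.F q →
      l y = l (B.io q n' (B.co q n' y)) := by
    intro n' hn' y hy hyq
    have h1 := B.sub_mem_F hy hyq hn'
    have h2 := hl1 _ (sub_mem hy (B.io_mem_G q n' (B.co q n' y) (by omega))) h1
    rw [map_sub] at h2
    exact sub_eq_zero.mp h2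
  have hbd : ∀ (n' : ℕ), 2 * (d : ℤ) - n = q + n' → ∀ y : B.C q n', B.IsBd q n' y → l (B.io q n' y) = 0 := by
    intro n' hn' y hy
    cases n' with
    | zero =>
      have : y = 0 := hy
      rw [this, map_zero, map_zero]
    | succ n' =>
      obtain ⟨w, hw⟩ := hy
      have h1 := hl2 (B.io q n' w) (B.io_mem_G _ _ _ (by push_cast at hn'; omega)) (B.io_mem_F _ _ _ le_rfl)
      rw [B.D_io, map_add, map_smul, hw, hl1 (B.io (q + 1) n' _) (B.io_mem_G _ _ _ (by push_cast at hn' ⊢; omega))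
        (B.io_mem_F _ _ _ le_rfl), zero_add] at h1
      rcases smul_eq_zero.mp h1 with h5 | h5
      · exact absurd h5 (pow_ne_zero _ (neg_ne_zero.mpr one_ne_zero))
      · exact h5
  rcases lt_or_ge n p with hn | hn
  · refine ⟨0, zero_mem _, zero_mem _, by rw [map_zero]; exact zero_mem _, fun y hy hyq hDy => ?_⟩
    obtain ⟨n', hn'⟩ : ∃ n' : ℕ, 2 * (d : ℤ) - n = q + (n' + 1 : ℕ) :=
      ⟨(2 * (d : ℤ) - n - q - 1).toNat, by push_cast; omega⟩
    rw [map_zero, hlead _ hn' y hy hyq]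
    exact hbd _ hn' _ (Q.vanB q n' (by push_cast at hn'; omega) _ (B.dV_eq_zero hy hyq hn' hDy))
  obtain ⟨m, hm⟩ : ∃ m : ℕ, n = p + m := ⟨(n - p).toNat, by omega⟩
  rcases lt_or_ge d m with hdm | hdm
  · refine ⟨0, zero_mem _, zero_mem _, by rw [map_zero]; exact zero_mem _, fun y hy hyq hDy => ?_⟩
    rw [map_zero, B.eq_zero_of_lt hy hyq (by omega), map_zero]
  · have hn' : 2 * (d : ℤ) - n = q + (d - m : ℕ) := by omega
    obtain ⟨x₀, hx₀⟩ := Q.surj p q m (d - m) (by omega) (by omega)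
      (((-1 : k) ^ ((d - m) * (p + m))) • (l ∘ₗ B.io q (d - m) ∘ₗ (LinearMap.ker (B.dV q (d - m))).subtype))
      (fun y hy => by
        change (-1 : k) ^ ((d - m) * (p + m)) • l (B.io q (d - m) y.1) = 0
        rw [hbd _ hn' _ hy, smul_zero])
    refine ⟨A.io p m x₀.1, A.io_mem_G _ _ _ hm.symm, A.io_mem_F _ _ _ le_rfl, ?_, fun y hy hyq hDy => ?_⟩
    · rw [A.D_io, show A.dV p m x₀.1 = 0 from x₀.2, map_zero, smul_zero, add_zero]
      exact A.io_mem_F _ _ _ le_rfl
    · rw [Q.φ_eq p q m (d - m) (by omega) (by omega) ⟨_, B.dV_eq_zero hy hyq hn' hDy⟩ x₀ (A.io_mem_F _ _ _ le_rfl)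
        (B.sub_mem_F hy hyq hn') (by rw [sub_self]; exact zero_mem _), hx₀]
      change l y = (-1) ^ ((d - m) * (p + m)) * ((-1 : k) ^ ((d - m) * (p + m)) • l (B.io q (d - m) (B.co q (d - m) y)))
      rw [smul_eq_mul, ← mul_assoc, neg_one_sq, one_mul]
      exact hlead _ hn' y hy hyq

include Q

/-- **Duality of the total cohomologies.** -/
theorem nonempty_equiv (n : ℤ) : Nonempty (H A.D A.G n ≃ₗ[k] Module.Dual k (H B.D B.G (2 * d - n))) :=
  Q.dat.nonempty_equiv (fun p q h => Q.P1 p q h) (fun p q h => Q.P2 p q h) n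

theorem finrank_eq (n m : ℤ) (hnm : n + m = 2 * d) :
    Module.finrank k (H A.D A.G n) = Module.finrank k (H B.D B.G m) :=
  Q.dat.finrank_eq (fun p q h => Q.P1 p q h) (fun p q h => Q.P2 p q h) n m hnm

end Perf

end K854.DblPair
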