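import Groth.Agent.DeRhamSh.K854.FiltDual2
import Mathlib.Algebra.DirectSum.Module
import Mathlib.Tactic.Ring
import Mathlib.Tactic.Abel

/-!
# Duality for a pairing of two double complexes over a field

`Dbl k`: double complexes `C a b` with commuting differentials `dH : C a b → C (a+1) b`, `dV : C a b → C a (b+1)`.
`Tot`, `D` the total complex (`D = dH + (-1)^(a+b+1) dV`), `Pr B A E` a pairing with Leibniz rules, `mul` the pairing
on total complexes.
-/

set_option autoImplicit false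

open DirectSum

namespace K854.DblPair

/-- A double complex with commuting differentials. -/
structure Dbl (k : Type*) [Field k] where
  C : ℕ → ℕ → Type*
  [grp : ∀ a b, AddCommGroup (C a b)]
  [mod : ∀ a b, Module k (C a b)]
  dH : ∀ a b, C a b →ₗ[k] C (a + 1) b
  dV : ∀ a b, C a b →ₗ[k] C a (b + 1)
  HH : ∀ a b x, dH (a + 1) b (dH a b x) = 0
  VV : ∀ a b x, dV a (b + 1) (dV a b x) = 0
  HV : ∀ a b x, dH a (b + 1) (dV a b x) = dV (a + 1) b (dH a b x)

attribute [instance] Dbl.grp Dbl.mod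

namespace Dbl

variable {k : Type*} [Field k] (A : Dbl k)

/-- The total space. -/
abbrev Tot : Type _ := ⨁ p : ℕ × ℕ, A.C p.1 p.2

/-- The inclusion of a component. -/
def io (a b : ℕ) : A.C a b →ₗ[k] A.Tot := DirectSum.lof k (ℕ × ℕ) (fun p => A.C p.1 p.2) (a, b)

/-- The projection to a component. -/
def co (a b : ℕ) : A.Tot →ₗ[k] A.C a b := DirectSum.component k (ℕ × ℕ) (fun p => A.C p.1 p.2) (a, b)

theorem co_io (a b : ℕ) (x : A.C a b) : A.co a b (A.io a b x) = x :=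
  DirectSum.of_eq_same (β := fun p : ℕ × ℕ => A.C p.1 p.2) (a, b) x

theorem co_io_ne {a b a' b' : ℕ} (h : (a, b) ≠ (a', b')) (x : A.C a b) : A.co a' b' (A.io a b x) = 0 :=
  DirectSum.of_eq_of_ne (β := fun p : ℕ × ℕ => A.C p.1 p.2) (a, b) (a', b') x (Ne.symm h)

theorem ext {x y : A.Tot} (h : ∀ a b, A.co a b x = A.co a b y) : x = y := by
  refine DFinsupp.ext fun p => ?_
  exact h p.1 p.2

theorem lin_ext {M : Type*} [AddCommGroup M] [Module k M] {f g : A.Tot →ₗ[k] M}
    (h : ∀ a b x, f (A.io a b x) = g (A.io a b x)) : f = g := by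
  refine DirectSum.linearMap_ext k fun p => LinearMap.ext fun x => ?_
  exact h p.1 p.2 x

/-- Membership of values of linear maps. -/
theorem mem_of_io {M : Type*} [AddCommGroup M] [Module k M] (f : A.Tot →ₗ[k] M) (S : Submodule k M) (x : A.Tot)
    (h : ∀ a b, f (A.io a b (A.co a b x)) ∈ S) : f x ∈ S := by
  classical
  have h1 : ∑ i ∈ DFinsupp.support x, DirectSum.of (fun p : ℕ × ℕ => A.C p.1 p.2) i (x i) = x :=
    DirectSum.sum_support_of x
  rw [← h1, map_sum]
  exact Submodule.sum_mem _ fun p _ => h p.1 p.2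

/-- The total differential. -/
noncomputable def D : A.Tot →ₗ[k] A.Tot :=
  DirectSum.toModule k (ℕ × ℕ) _ fun p =>
    A.io (p.1 + 1) p.2 ∘ₗ A.dH p.1 p.2 + ((-1 : k) ^ (p.1 + p.2 + 1)) • (A.io p.1 (p.2 + 1) ∘ₗ A.dV p.1 p.2)

theorem D_io (a b : ℕ) (x : A.C a b) : A.D (A.io a b x) = A.io (a + 1) b (A.dH a b x) +
    ((-1 : k) ^ (a + b + 1)) • A.io a (b + 1) (A.dV a b x) :=
  DirectSum.toModule_lof k (ι := ℕ × ℕ) (M := fun p => A.C p.1 p.2) (a, b) x

theorem DD (x : A.Tot) : A.D (A.D x) = 0 := by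
  have h : A.D ∘ₗ A.D = 0 := by
    refine A.lin_ext fun a b x => ?_
    change A.D (A.D (A.io a b x)) = 0
    rw [D_io, map_add, map_smul, D_io, D_io, A.HH, A.VV, A.HV, map_zero, map_zero, smul_zero, zero_add, add_zero,
      ← add_smul]
    have h1 : (-1 : k) ^ (a + 1 + b + 1) + (-1) ^ (a + b + 1) = 0 := by ring
    rw [h1, zero_smul]
  exact LinearMap.congr_fun h x

/-- Elements of total degree `n`. -/
def G (n : ℤ) : Submodule k A.Tot where
  carrier := {x | ∀ a b : ℕ, (a : ℤ) + b ≠ n → A.co a b x = 0}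
  add_mem' hx hy a b h := by rw [map_add, hx a b h, hy a b h, add_zero]
  zero_mem' a b _ := map_zero _
  smul_mem' r x hx a b h := by rw [map_smul, hx a b h, smul_zero]

/-- The filtration by the first degree. -/
def F (p : ℕ) : Submodule k A.Tot where
  carrier := {x | ∀ a b : ℕ, a < p → A.co a b x = 0}
  add_mem' hx hy a b h := by rw [map_add, hx a b h, hy a b h, add_zero]
  zero_mem' a b _ := map_zero _
  smul_mem' r x hx a b h := by rw [map_smul, hx a b h, smul_zero]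

theorem io_mem_G (a b : ℕ) (x : A.C a b) {n : ℤ} (h : (a : ℤ) + b = n) : A.io a b x ∈ A.G n := by
  intro a' b' h'
  refine A.co_io_ne (fun he => h' ?_) x
  rw [Prod.mk.injEq] at he
  rw [← he.1, ← he.2, h]

theorem io_mem_F (a b : ℕ) (x : A.C a b) {p : ℕ} (h : p ≤ a) : A.io a b x ∈ A.F p := by
  intro a' b' h'
  refine A.co_io_ne (fun he => ?_) x
  rw [Prod.mk.injEq] at he
  omega

theorem DG {n : ℤ} {x : A.Tot} (hx : x ∈ A.G n) : A.D x ∈ A.G (n + 1) := by
  refine A.mem_of_io A.D _ x fun a b => ?_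
  by_cases h : (a : ℤ) + b = n
  · rw [D_io]
    exact add_mem (A.io_mem_G _ _ _ (by push_cast; omega))
      (Submodule.smul_mem _ _ (A.io_mem_G _ _ _ (by push_cast; omega)))
  · rw [hx a b h, map_zero, map_zero]
    exact zero_mem _

theorem DF {p : ℕ} {x : A.Tot} (hx : x ∈ A.F p) : A.D x ∈ A.F p := by
  refine A.mem_of_io A.D _ x fun a b => ?_
  by_cases h : a < p
  · rw [hx a b h, map_zero, map_zero]
    exact zero_mem _
  · rw [D_io]
    exact add_mem (A.io_mem_F _ _ _ (by omega)) (Submodule.smul_mem _ _ (A.io_mem_F _ _ _ (by omega)))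

theorem anti {p q : ℕ} (h : p ≤ q) {x : A.Tot} (hx : x ∈ A.F q) : x ∈ A.F p :=
  fun a b h' => hx a b (by omega)

theorem eq_zero_of_lt {n : ℤ} {p : ℕ} {x : A.Tot} (hx : x ∈ A.G n) (hp : x ∈ A.F p) (h : n < p) : x = 0 := by
  refine A.ext fun a b => ?_
  rw [map_zero]
  by_cases h1 : a < p
  · exact hp a b h1
  · exact hx a b (by omega)

theorem sub_mem_F {n : ℤ} {p m : ℕ} {x : A.Tot} (hx : x ∈ A.G n) (hp : x ∈ A.F p) (h : n = p + m) :
    x - A.io p m (A.co p m x) ∈ A.F (p + 1) := by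
  intro a b h1
  rw [map_sub]
  rcases Nat.lt_succ_iff_lt_or_eq.mp h1 with h2 | rfl
  · rw [hp a b h2, A.co_io_ne (by intro he; rw [Prod.mk.injEq] at he; omega), sub_zero]
  · by_cases h3 : b = m
    · subst h3
      rw [co_io, sub_self]
    · rw [hx a b (by omega), A.co_io_ne (by intro he; rw [Prod.mk.injEq] at he; omega), sub_zero]

/-- the leading component of `D x` -/
theorem dV_eq_zero {n : ℤ} {p m : ℕ} {x : A.Tot} (hx : x ∈ A.G n) (hp : x ∈ A.F p) (h : n = p + m)
    (hD : A.D x ∈ A.F (p + 1)) : A.dV p m (A.co p m x) = 0 := by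
  have h1 := A.DF (A.sub_mem_F hx hp h)
  rw [map_sub, D_io] at h1
  have h2 : ((-1 : k) ^ (p + m + 1)) • A.io p (m + 1) (A.dV p m (A.co p m x)) ∈ A.F (p + 1) := by
    have h3 := sub_mem (sub_mem hD h1) (A.io_mem_F (p + 1) m (A.dH p m (A.co p m x)) le_rfl)
    convert h3 using 1
    abel
  have h4 := h2 p (m + 1) (by omega)
  rw [map_smul, co_io] at h4
  rcases smul_eq_zero.mp h4 with h5 | h5
  · exact absurd h5 (pow_ne_zero _ (neg_ne_zero.mpr one_ne_zero))
  · exact h5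

/-- components of `D x` -/
theorem co_D_zero (b : ℕ) (x : A.Tot) : A.co 0 (b + 1) (A.D x) =
    ((-1 : k) ^ (b + 1)) • A.dV 0 b (A.co 0 b x) := by
  have h : A.co 0 (b + 1) ∘ₗ A.D = ((-1 : k) ^ (b + 1)) • (A.dV 0 b ∘ₗ A.co 0 b) := by
    refine A.lin_ext fun a' b' y => ?_
    change A.co 0 (b + 1) (A.D (A.io a' b' y)) = ((-1 : k) ^ (b + 1)) • A.dV 0 b (A.co 0 b (A.io a' b' y))
    rw [D_io, map_add, map_smul, A.co_io_ne (by intro he; rw [Prod.mk.injEq] at he; omega), zero_add]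
    by_cases h1 : (a', b') = (0, b)
    · rw [Prod.mk.injEq] at h1
      obtain ⟨rfl, rfl⟩ := h1
      rw [co_io, co_io, zero_add]
    · rw [A.co_io_ne (by intro he; apply h1; rw [Prod.mk.injEq] at he ⊢; omega), A.co_io_ne h1, map_zero, smul_zero,
        smul_zero]
  exact LinearMap.congr_fun h x

theorem co_D_succ (a b : ℕ) (x : A.Tot) : A.co (a + 1) (b + 1) (A.D x) = A.dH a (b + 1) (A.co a (b + 1) x) +
    ((-1 : k) ^ (a + b)) • A.dV (a + 1) b (A.co (a + 1) b x) := by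
  have h : A.co (a + 1) (b + 1) ∘ₗ A.D = A.dH a (b + 1) ∘ₗ A.co a (b + 1) +
      ((-1 : k) ^ (a + b)) • (A.dV (a + 1) b ∘ₗ A.co (a + 1) b) := by
    refine A.lin_ext fun a' b' y => ?_
    change A.co (a + 1) (b + 1) (A.D (A.io a' b' y)) = A.dH a (b + 1) (A.co a (b + 1) (A.io a' b' y)) +
      ((-1 : k) ^ (a + b)) • A.dV (a + 1) b (A.co (a + 1) b (A.io a' b' y))
    rw [D_io, map_add, map_smul]
    congr 1
    · by_cases h1 : (a', b') = (a, b + 1)
      · rw [Prod.mk.injEq] at h1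
        obtain ⟨rfl, rfl⟩ := h1
        rw [co_io, co_io]
      · rw [A.co_io_ne (by intro he; apply h1; rw [Prod.mk.injEq] at he ⊢; omega), A.co_io_ne h1, map_zero]
    · by_cases h1 : (a', b') = (a + 1, b)
      · rw [Prod.mk.injEq] at h1
        obtain ⟨rfl, rfl⟩ := h1
        rw [co_io, co_io]
        congr 1
        ring
      · rw [A.co_io_ne (by intro he; apply h1; rw [Prod.mk.injEq] at he ⊢; omega), A.co_io_ne h1, map_zero, smul_zero,
          smul_zero]
  exact LinearMap.congr_fun h x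

end Dbl

section Pair

variable {k : Type*} [Field k]

/-- A pairing of double complexes with Leibniz rules. -/
structure Pr (B A E : Dbl k) where
  mu : ∀ {a a' c : ℕ}, a + a' = c → ∀ {b b' e : ℕ}, b + b' = e → (B.C a b →ₗ[k] A.C a' b' →ₗ[k] E.C c e)
  leibH : ∀ {a a' c : ℕ} (h : a + a' = c) (h1 : a + 1 + a' = c + 1) (h2 : a + (a' + 1) = c + 1)
    {b b' e : ℕ} (h' : b + b' = e) (y : B.C a b) (x : A.C a' b'),
    E.dH c e (mu h h' y x) = mu h1 h' (B.dH a b y) x + (-1 : k) ^ a • mu h2 h' y (A.dH a' b' x)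
  leibV : ∀ {a a' c : ℕ} (h : a + a' = c)
    {b b' e : ℕ} (h' : b + b' = e) (h1 : b + 1 + b' = e + 1) (h2 : b + (b' + 1) = e + 1) (y : B.C a b) (x : A.C a' b'),
    E.dV c e (mu h h' y x) = mu h h1 (B.dV a b y) x + (-1 : k) ^ b • mu h h2 y (A.dV a' b' x)

variable {B A E : Dbl k} (P : Pr B A E)

namespace Pr

/-- The pairing of total complexes. -/
noncomputable def mul : B.Tot →ₗ[k] A.Tot →ₗ[k] E.Tot :=
  DirectSum.toModule k (ℕ × ℕ) _ fun p => LinearMap.flip (DirectSum.toModule k (ℕ × ℕ) _ fun q => LinearMap.flip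
    (((-1 : k) ^ (p.2 * (q.1 + q.2))) • (P.mu (a := p.1) (a' := q.1) rfl (b := p.2) (b' := q.2) rfl).compr₂
      (E.io (p.1 + q.1) (p.2 + q.2))))

theorem mul_io (a b a' b' : ℕ) (y : B.C a b) (x : A.C a' b') : P.mul (B.io a b y) (A.io a' b' x) =
    ((-1 : k) ^ (b * (a' + b'))) • E.io (a + a') (b + b') (P.mu rfl rfl y x) := by
  have h1 : P.mul (B.io a b y) = _ :=
    DirectSum.toModule_lof k (ι := ℕ × ℕ) (M := fun p => B.C p.1 p.2) (a, b) y
  rw [h1]
  rw [LinearMap.flip_apply]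
  have h2 := DirectSum.toModule_lof k (ι := ℕ × ℕ) (M := fun p => A.C p.1 p.2) (φ := fun q : ℕ × ℕ => LinearMap.flip
    (((-1 : k) ^ (b * (q.1 + q.2))) • (P.mu (a := a) (a' := q.1) rfl (b := b) (b' := q.2) rfl).compr₂
      (E.io (a + q.1) (b + q.2)))) (a', b') x
  exact LinearMap.congr_fun h2 y

theorem io_mu {a a' c c' : ℕ} (h : a + a' = c) (h' : a + a' = c') {b b' e e' : ℕ} (g : b + b' = e) (g' : b + b' = e')
    (y : B.C a b) (x : A.C a' b') : E.io c e (P.mu h g y x) = E.io c' e' (P.mu h' g' y x) := by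
  subst h h' g g'
  rfl

theorem leib_io (a b a' b' : ℕ) (y : B.C a b) (x : A.C a' b') : E.D (P.mul (B.io a b y) (A.io a' b' x)) =
    P.mul (B.D (B.io a b y)) (A.io a' b' x) + (-1 : k) ^ (a + b) • P.mul (B.io a b y) (A.D (A.io a' b' x)) := by
  rw [mul_io, map_smul, E.D_io, B.D_io, A.D_io, map_add, map_add, LinearMap.add_apply, map_smul, map_smul,
    LinearMap.smul_apply, mul_io, mul_io, mul_io, mul_io, P.leibH rfl (by omega) (by omega) rfl,
    P.leibV rfl rfl (by omega) (by omega), map_add, map_add, map_smul, map_smul,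
    P.io_mu (c := a + a' + 1) (c' := a + 1 + a') _ rfl rfl rfl,
    P.io_mu (c := a + a' + 1) (c' := a + (a' + 1)) _ rfl rfl rfl,
    P.io_mu rfl rfl (e := b + b' + 1) (e' := b + 1 + b') _ rfl,
    P.io_mu rfl rfl (e := b + b' + 1) (e' := b + (b' + 1)) _ rfl]
  simp only [smul_add, smul_smul]
  have e1 : (-1 : k) ^ (b * (a' + b')) * ((-1) ^ (a + a' + (b + b') + 1)) =
      (-1) ^ (a + b + 1) * (-1) ^ ((b + 1) * (a' + b')) := by
    rw [← pow_add, ← pow_add]
    congr 1
    ring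
  have e2 : (-1 : k) ^ (b * (a' + b')) * (-1) ^ a = (-1) ^ (a + b) * (-1) ^ (b * (a' + 1 + b')) := by
    have h0 : (-1 : k) ^ (a + b) * (-1) ^ (b * (a' + 1 + b')) = (-1 : k) ^ (b * (a' + b')) * (-1) ^ a *
        ((-1) ^ b * (-1) ^ b) := by
      rw [← pow_add, ← pow_add, ← pow_add, ← pow_add]
      congr 1
      ring
    rw [h0, ← mul_pow, neg_one_mul, neg_neg, one_pow, mul_one]
  have e3 : (-1 : k) ^ (b * (a' + b')) * ((-1) ^ (a + a' + (b + b') + 1) * (-1) ^ b) =
      (-1) ^ (a + b) * ((-1) ^ (a' + b' + 1) * (-1) ^ (b * (a' + (b' + 1)))) := by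
    rw [← pow_add, ← pow_add, ← pow_add, ← pow_add]
    congr 1
    ring
  rw [e1, e2, e3]
  abel

theorem leib {n : ℕ} {y : B.Tot} (hy : y ∈ B.G n) (x : A.Tot) : E.D (P.mul y x) =
    P.mul (B.D y) x + (-1 : k) ^ n • P.mul y (A.D x) := by
  have h1 : (E.D ∘ₗ P.mul.flip x - P.mul.flip x ∘ₗ B.D - (-1 : k) ^ n • P.mul.flip (A.D x)) y ∈ (⊥ : Submodule k E.Tot) := by
    refine B.mem_of_io _ _ y fun a b => ?_
    by_cases hab : (a : ℤ) + b = n
    · have hab' : a + b = n := by exact_mod_cast hab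
      generalize B.co a b y = z
      have h2 : (E.D ∘ₗ P.mul (B.io a b z) - P.mul (B.D (B.io a b z)) - (-1 : k) ^ n • P.mul (B.io a b z) ∘ₗ A.D) = 0 := by
        refine A.lin_ext fun a' b' x' => ?_
        change E.D (P.mul (B.io a b z) (A.io a' b' x')) - P.mul (B.D (B.io a b z)) (A.io a' b' x') -
          (-1 : k) ^ n • P.mul (B.io a b z) (A.D (A.io a' b' x')) = 0
        rw [leib_io, hab']
        abel
      exact LinearMap.congr_fun h2 x
    · rw [hy a b hab, map_zero, map_zero]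
      exact zero_mem _
  have h2 : E.D (P.mul y x) - P.mul (B.D y) x - (-1 : k) ^ n • P.mul y (A.D x) = 0 := h1
  rw [sub_eq_zero] at h2
  rw [sub_eq_iff_eq_add] at h2
  rw [h2, add_comm]

theorem mul_mem_F {p q : ℕ} {y : B.Tot} {x : A.Tot} (hy : y ∈ B.F q) (hx : x ∈ A.F p) :
    P.mul y x ∈ E.F (q + p) := by
  refine B.mem_of_io (P.mul.flip x) _ y fun a b => ?_
  by_cases h : a < q
  · rw [hy a b h, map_zero, map_zero]
    exact zero_mem _
  · refine A.mem_of_io (P.mul (B.io a b (B.co a b y))) _ x fun a' b' => ?_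
    by_cases h' : a' < p
    · rw [hx a' b' h', map_zero, map_zero]
      exact zero_mem _
    · rw [mul_io]
      exact Submodule.smul_mem _ _ (E.io_mem_F _ _ _ (by omega))

end Pr

end Pair

end K854.DblPair
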