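import Groth.Agent.DeRhamSh.K854.DRCx
import Groth.Agent.DeRhamSh.K205.Leib
import Groth.Agent.DeRhamSh.K205.CechNat
import Groth.Agent.Dual.H339.OmegaRank
import Groth.Agent.Krr.H502.KosZero
import Groth.Agent.PerfA.CohSerre

/-!
# Poincaré duality for algebraic de Rham cohomology: equality of dimensions

`finrank_eq`: `X` proper and smooth of relative dimension `d` over a field `k`, `D` a de Rham complex, and the map
`H^d(X, Ω^(d-1)) → H^d(X, Ω^d)` zero: `dim H^i_dR = dim H^j_dR` for `i + j = 2 d`.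
-/

set_option autoImplicit false
universe w u

open CategoryTheory CategoryTheory.Limits AlgebraicGeometry Opposite TopologicalSpace
open Groth.Agent Groth.Agent.LoccohB.GlueHom Groth.Agent.CurvesC
open K854.CechMod K854.CechPair K854.DblPair K854.PCx K854.DRCx K854.WedgeSh
open Groth.Agent.CohqB.HomSheaf (homSheaf comp)
open Groth.Agent.CurvesC.DualLin

attribute [local instance] HasDerivedCategory.standard LinMod.linearModules

namespace K854.Duality

variable {k : Type u} [Field k] {X : Scheme.{u}} [X.Over (Spec (CommRingCat.of k))]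

theorem pr_beta {S : Scheme.{u}} {f : X ⟶ S} {Ω : X.Modules} {δ : OmegaSh.Der f Ω} (D : DeRhamSh.Cx f Ω δ)
    {a b c : ℕ} (h : b + a = c) (V : X.Opens) (y : Γ(D.term b, V)) (x : Γ(D.term a, V)) :
    pr (beta D h) V y x = wd D h V y x := by
  unfold pr
  rw [comp_beta, res_self]

variable [IsProper (X ↘ Spec (CommRingCat.of k))] (D : DeRhamSh.OmegaCx (X ↘ Spec (CommRingCat.of k)))
  (h : KLinDR.TermwiseLinear (Coh.toGlobal (X ↘ Spec (CommRingCat.of k))) D.K D.term D.iso)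

/-- The wedge pairing of the de Rham complex. -/
noncomputable def prDR : LPr (ofCx h) (ofCx h) (ofCx h) where
  β h' := beta D h'
  leib h₀ h₁ h₂ V hV y x := by
    have h3 := K205.Leib.leib (X ↘ Spec (CommRingCat.of k)) D h₀ h₁ h₂ ⟨V, hV⟩ y x
    have e0 : pr (beta D h₀) V y x = wd D h₀ V y x := pr_beta D h₀ V y x
    have e1 : pr (beta D h₁) V ((ofCx h).d _ V y) x = wd D h₁ V (K853.CxAff.dSec D V _ y) x := pr_beta D h₁ V _ _
    have e2 : pr (beta D h₂) V y ((ofCx h).d _ V x) = wd D h₂ V y (K853.CxAff.dSec D V _ x) := pr_beta D h₂ V _ _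
    refine (congrArg ((ofCx h).d _ V) e0).trans (h3.trans ?_)
    exact congrArg₂ (fun s t => s + (-1 : ℤ) ^ _ • t) e1.symm e2.symm

theorem lf_and_zero (d : ℕ)
    [SmoothOfRelativeDimension d (X ↘ Spec (CommRingCat.of k))] :
    (∀ b, FlatMod.IsFinLocFree (D.term b)) ∧ ∀ b, d < b → IsZero (D.term b) := by
  have hΩ : FlatMod.IsFinLocFreeOfRank d (Omega.sheaf (X ↘ Spec (CommRingCat.of k))) :=
    Dual.H339.OmegaRank.isFinLocFreeOfRank_omega d _
  have hΩ' : FlatMod.IsFinLocFree (Omega.sheaf (X ↘ Spec (CommRingCat.of k))) := fun x => by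
    obtain ⟨W, hxW, hW⟩ := hΩ x
    exact ⟨W, d, hxW, hW⟩
  exact ⟨fun b => Sga67.LocBasis.isFinLocFree_of_isExtPow hΩ' (D.isExtPow b), fun b hb =>
    Krr.H502.KosZero.isZero_of_isExtPow hΩ (D.isExtPow b) hb⟩

theorem nonempty_perf (d : ℕ)
    [SmoothOfRelativeDimension d (X ↘ Spec (CommRingCat.of k))] [X.IsSeparated]
    (hd : ∀ e, d = e + 1 → ∀ z : Coh.HH X (D.term e) d,
      Sheaf.H.map ((D.iso e).inv ≫ D.K.d e (e + 1) ≫ (D.iso (e + 1)).hom) d z = 0)
    {ι : Type} [Finite ι] (U : ι → X.Opens) (hcov : ⨆ i, U i = ⊤)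
    (hU : ∀ s : Finset ι, s.Nonempty → IsAffineOpen (⨅ i ∈ s, U i)) :
    Nonempty (Perf (dpr (prDR D h) U hU) d) := by
  have hΩ : FlatMod.IsFinLocFreeOfRank d (Omega.sheaf (X ↘ Spec (CommRingCat.of k))) :=
    Dual.H339.OmegaRank.isFinLocFreeOfRank_omega d _
  obtain ⟨hlf, hz⟩ := lf_and_zero D d
  have hq : ∀ b, Coh.IsQCoh (D.term b) := fun b => Ega2.QCohLocal.isQCoh_of_isFinLocFree (hlf b)
  obtain ⟨τ, hτ⟩ := K461.SerreDual.exists_form k X d (D.term d) (D.isExtPow d)
  refine PCx.nonempty_perf (prDR D h) U hcov hU τ hτ hlf hq hq hz hz hz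
    (fun h' => isIso_beta D h' hΩ) ?_
  intro e he x hx
  subst he
  exact K205.CechNat.isBd_dSec U hcov hU D e (e + 1) (hq (e + 1)) (hd e rfl) x hx _ (fun σ => rfl)

/-- **Equality of dimensions.** -/
theorem finrank_eq_over (d : ℕ)
    [SmoothOfRelativeDimension d (X ↘ Spec (CommRingCat.of k))]
    (hd : ∀ e, d = e + 1 → ∀ z : Coh.HH X (D.term e) d,
      Sheaf.H.map ((D.iso e).inv ≫ D.K.d e (e + 1) ≫ (D.iso (e + 1)).hom) d z = 0)
    [HasDerivedCategory.{w} (Sheaf (Opens.grothendieckTopology X) AddCommGrpCat.{u})] (i j : ℕ) (hij : i + j = 2 * d) :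
    Module.Finite k (KLinDR.HdR (Coh.toGlobal (X ↘ Spec (CommRingCat.of k))) D h i) ∧
      Module.finrank k (KLinDR.HdR (Coh.toGlobal (X ↘ Spec (CommRingCat.of k))) D h i) =
        Module.finrank k (KLinDR.HdR (Coh.toGlobal (X ↘ Spec (CommRingCat.of k))) D h j) := by
  have hsep : X.IsSeparated := by
    refine ⟨?_⟩
    rw [← Limits.terminal.comp_from (X ↘ Spec (CommRingCat.of k))]
    infer_instance
  have hcomp : CompactSpace X := QuasiCompact.compactSpace_of_compactSpace (X ↘ Spec (CommRingCat.of k))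
  obtain ⟨hlf, hz⟩ := lf_and_zero D d
  have hq : ∀ b, Coh.IsQCoh (D.term b) := fun b => Ega2.QCohLocal.isQCoh_of_isFinLocFree (hlf b)
  refine ⟨?_, ?_⟩
  · have : IsLocallyNoetherian X :=
      LocallyOfFiniteType.isLocallyNoetherian (X ↘ Spec (CommRingCat.of k))
    exact K890.NoethFin.finite_HdR (X := X) (R := k) h (fun a => PerfA.CohSerre.isCoh_of_isFinLocFree (hlf a)) (d + 1)
      (fun a ha => hz a (by omega)) (i : ℤ)
  · obtain ⟨n, U, hcov, hs⟩ := Ega3B.AcyclicBC.exists_cover X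
    have hU : ∀ s : Finset (Fin n), s.Nonempty → IsAffineOpen (⨅ i ∈ s, U i) := fun s hs' => by
      rw [← Finset.inf_eq_iInf]
      exact hs s hs'
    obtain ⟨Q⟩ := nonempty_perf D h d hd U hcov hU
    have key := Q.finrank_eq (i : ℤ) (j : ℤ) (by exact_mod_cast hij)
    obtain ⟨ei⟩ := nonempty_HT h U hcov hU hq i
    obtain ⟨ej⟩ := nonempty_HT h U hcov hU hq j
    exact ei.finrank_eq.symm.trans (key.trans ej.finrank_eq)

/-- **Equality of dimensions**, for a morphism `f : X ⟶ Spec k`. -/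
theorem finrank_eq (k : Type u) [Field k] (X : Scheme.{u}) (f : X ⟶ Spec (CommRingCat.of k)) [IsProper f] (d : ℕ)
    [SmoothOfRelativeDimension d f] (D : DeRhamSh.OmegaCx f)
    (h : KLinDR.TermwiseLinear (Coh.toGlobal f) D.K D.term D.iso)
    (hd : ∀ e, d = e + 1 → ∀ z : Coh.HH X (D.term e) (e + 1),
      Sheaf.H.map ((D.iso e).inv ≫ D.K.d e (e + 1) ≫ (D.iso (e + 1)).hom) (e + 1) z = 0)
    [HasDerivedCategory.{w} (Sheaf (Opens.grothendieckTopology X) AddCommGrpCat.{u})] (i j : ℕ) (hij : i + j = 2 * d) :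
    Module.Finite k (KLinDR.HdR (Coh.toGlobal f) D h i) ∧
      Module.finrank k (KLinDR.HdR (Coh.toGlobal f) D h i) =
        Module.finrank k (KLinDR.HdR (Coh.toGlobal f) D h j) := by
  let _ : X.Over (Spec (CommRingCat.of k)) := ⟨f⟩
  have h1 : IsProper (X ↘ Spec (CommRingCat.of k)) := ‹IsProper f›
  have h2 : SmoothOfRelativeDimension d (X ↘ Spec (CommRingCat.of k)) := ‹SmoothOfRelativeDimension d f›
  exact finrank_eq_over (k := k) (X := X) D h d (fun e he z => by subst he; exact hd e rfl z) i j hij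

end K854.Duality
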