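import Groth.Agent.DeRhamSh.K854.FiltDual

/-!
# Duality for a pairing of two filtered complexes over a field

Two-complex version of `FiltDual`: `Dat k T S` with `T` (vectors `x`) and `S` (functionals `y`).
-/

set_option autoImplicit false

namespace K854.FiltDual2

open K854.FiltDual (exists_fac)

/-- The data of two filtered complexes with a form. -/
structure Dat (k T S : Type*) [Field k] [AddCommGroup T] [Module k T] [AddCommGroup S] [Module k S] where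
  D : T →ₗ[k] T
  D' : S →ₗ[k] S
  G : ℤ → Submodule k T
  G' : ℤ → Submodule k S
  F : ℕ → Submodule k T
  F' : ℕ → Submodule k S
  N : ℤ
  e : ℕ
  φ : S →ₗ[k] T →ₗ[k] k
  c : ℤ → k
  cc : ∀ n, c n * c n = 1
  DD : ∀ x, D (D x) = 0
  DD' : ∀ x, D' (D' x) = 0
  DG : ∀ {n : ℤ} {x : T}, x ∈ G n → D x ∈ G (n + 1)
  DG' : ∀ {n : ℤ} {x : S}, x ∈ G' n → D' x ∈ G' (n + 1)
  DF : ∀ {p : ℕ} {x : T}, x ∈ F p → D x ∈ F p
  DF' : ∀ {p : ℕ} {x : S}, x ∈ F' p → D' x ∈ F' p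
  anti : ∀ {p : ℕ} {x : T}, x ∈ F (p + 1) → x ∈ F p
  anti' : ∀ {p : ℕ} {x : S}, x ∈ F' (p + 1) → x ∈ F' p
  F_zero : ∀ x, x ∈ F 0
  F_zero' : ∀ x, x ∈ F' 0
  F_e : ∀ {x : T}, x ∈ F e → x = 0
  F_e' : ∀ {x : S}, x ∈ F' e → x = 0
  φF : ∀ {p q : ℕ} {x : T} {y : S}, p + q = e → y ∈ F' q → x ∈ F p → φ y x = 0
  φD : ∀ {n : ℤ} {y : S} {x : T}, y ∈ G' n → φ (D' y) x = c n * φ y (D x)

namespace Dat

variable {k T S : Type*} [Field k] [AddCommGroup T] [Module k T] [AddCommGroup S] [Module k S] (K : Dat k T S)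

theorem φD' {n : ℤ} {y : S} {x : T} (hy : y ∈ K.G' n) : K.φ y (K.D x) = K.c n * K.φ (K.D' y) x := by
  rw [K.φD hy, ← mul_assoc, K.cc, one_mul]

/-- Injectivity on the graded piece `p`. -/
def P1 (p q : ℕ) : Prop := ∀ (n : ℤ) (x : T), x ∈ K.G n → x ∈ K.F p → K.D x ∈ K.F (p + 1) →
  (∀ y ∈ K.G' (K.N - n), y ∈ K.F' q → K.D' y ∈ K.F' (q + 1) → K.φ y x = 0) →
    ∃ z ∈ K.G (n - 1), z ∈ K.F p ∧ x - K.D z ∈ K.F (p + 1)

/-- Surjectivity on the graded piece `p`. -/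
def P2 (p q : ℕ) : Prop := ∀ (n : ℤ) (l : S →ₗ[k] k), (∀ y ∈ K.G' (K.N - n), y ∈ K.F' (q + 1) → l y = 0) →
  (∀ y ∈ K.G' (K.N - n - 1), y ∈ K.F' q → l (K.D' y) = 0) →
    ∃ x ∈ K.G n, x ∈ K.F p ∧ K.D x ∈ K.F (p + 1) ∧
      ∀ y ∈ K.G' (K.N - n), y ∈ K.F' q → K.D' y ∈ K.F' (q + 1) → l y = K.φ y x

/-- Injectivity on `F p`. -/
def Inj (p q : ℕ) : Prop := ∀ (n : ℤ) (x : T), x ∈ K.G n → x ∈ K.F p → K.D x = 0 →
  (∀ y ∈ K.G' (K.N - n), K.D' y ∈ K.F' q → K.φ y x = 0) → ∃ z ∈ K.G (n - 1), z ∈ K.F p ∧ K.D z = x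

/-- Surjectivity on `F p`. -/
def Surj (p q : ℕ) : Prop := ∀ (n : ℤ) (l : S →ₗ[k] k), (∀ y ∈ K.G' (K.N - n), y ∈ K.F' q → l y = 0) →
  (∀ y ∈ K.G' (K.N - n - 1), l (K.D' y) = 0) →
    ∃ x ∈ K.G n, x ∈ K.F p ∧ K.D x = 0 ∧ ∀ y ∈ K.G' (K.N - n), K.D' y ∈ K.F' q → l y = K.φ y x

variable {K}

theorem inj_step {p q : ℕ} (hpq : p + q + 1 = K.e) (h1 : K.P1 p q) (h2 : K.P2 p q) (hi : K.Inj (p + 1) q) :
    K.Inj p (q + 1) := by
  intro n x hx hxp hDx hφ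
  obtain ⟨z, hz, hzp, hz'⟩ := h1 n x hx hxp (by rw [hDx]; exact zero_mem _) (fun y hy _ hDy => hφ y hy hDy)
  have hDz : K.D z ∈ K.G n := by
    have := K.DG hz
    rwa [sub_add_cancel] at this
  set x' := x - K.D z with hx'
  have hx'G : x' ∈ K.G n := sub_mem hx hDz
  have hDx' : K.D x' = 0 := by rw [hx', map_sub, hDx, K.DD, sub_zero]
  have hφ' : ∀ y ∈ K.G' (K.N - n), K.D' y ∈ K.F' (q + 1) → K.φ y x' = 0 := by
    intro y hy hDy
    rw [hx', map_sub, hφ y hy hDy, K.φD' hy, K.φF (by omega) hDy hzp, mul_zero, sub_zero]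
  -- the functional
  let A : Submodule k S := K.G' (K.N - n) ⊓ (K.F' q).comap K.D'
  let B : Submodule k S := K.G' (K.N - n + 1) ⊓ K.F' (q + 1)
  obtain ⟨l, hl⟩ := exists_fac ((K.D' ∘ₗ A.subtype).coprod B.subtype)
    (((K.φ.flip x') ∘ₗ A.subtype) ∘ₗ LinearMap.fst k A B) (by
      rintro ⟨⟨y, hy, hy'⟩, ⟨w, hw, hw'⟩⟩ h
      have h' : K.D' y + w = 0 := h
      change K.φ y x' = 0
      refine hφ' y hy ?_
      rw [eq_neg_of_add_eq_zero_left h']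
      exact neg_mem hw')
  have hl1 : ∀ y ∈ K.G' (K.N - n), K.D' y ∈ K.F' q → l (K.D' y) = K.φ y x' := by
    intro y hy hy'
    have := hl (⟨y, hy, hy'⟩, 0)
    simpa using this
  have hl2 : ∀ w ∈ K.G' (K.N - n + 1), w ∈ K.F' (q + 1) → l w = 0 := by
    intro w hw hw'
    have := hl (0, ⟨w, hw, hw'⟩)
    simpa using this
  have e1 : K.N - (n - 1) = K.N - n + 1 := by ring
  have e2 : K.N - (n - 1) - 1 = K.N - n := by ring
  obtain ⟨w, hw, hwp, hDw, hlw⟩ := h2 (n - 1) l (by rw [e1]; exact hl2) (by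
    rw [e2]
    intro y hy hyq
    rw [hl1 y hy (K.DF' hyq)]
    exact K.φF (by omega) hyq hz')
  rw [e1] at hlw
  have hDwG : K.D w ∈ K.G n := by
    have := K.DG hw
    rwa [sub_add_cancel] at this
  set c := K.c (K.N - n) with hc
  obtain ⟨v, hv, hvp, hDv⟩ := hi n (x' - c • K.D w) (sub_mem hx'G (Submodule.smul_mem _ _ hDwG))
    (sub_mem hz' (Submodule.smul_mem _ _ hDw))
    (by rw [map_sub, map_smul, K.DD, hDx', smul_zero, sub_zero]) (by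
      intro y hy hDy
      rw [map_sub, map_smul, ← hl1 y hy hDy, hlw (K.D' y) (K.DG' hy) hDy (by rw [K.DD']; exact zero_mem _), K.φD hy,
        smul_eq_mul, sub_self])
  refine ⟨v + c • w + z, add_mem (add_mem hv (Submodule.smul_mem _ _ hw)) hz,
    add_mem (add_mem (K.anti hvp) (Submodule.smul_mem _ _ hwp)) hzp, ?_⟩
  rw [map_add, map_add, map_smul, hDv, hx']
  abel

theorem surj_step {p q : ℕ} (hpq : p + q + 1 = K.e) (h2 : K.P2 p q) (hi : K.Inj (p + 1) q)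
    (hs : K.Surj (p + 1) q) : K.Surj p (q + 1) := by
  intro n l hl1 hl2
  obtain ⟨x₀, hx₀, hx₀p, hDx₀, hlx₀⟩ := h2 n l hl1 (fun y hy _ => hl2 y hy)
  have e1 : K.N - (n + 1) = K.N - n - 1 := by ring
  have e2 : n + 1 - 1 = n := by ring
  have hDG : ∀ y ∈ K.G' (K.N - n - 1), K.D' y ∈ K.G' (K.N - n) := by
    intro y hy
    have := K.DG' hy
    rwa [sub_add_cancel] at this
  obtain ⟨v, hv, hvp, hDv⟩ := hi (n + 1) (K.D x₀) (K.DG hx₀) hDx₀ (K.DD _) (by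
    rw [e1]
    intro y hy hDy
    rw [K.φD' hy, ← hlx₀ (K.D' y) (hDG y hy) hDy (by rw [K.DD']; exact zero_mem _), hl2 y hy, mul_zero])
  rw [e2] at hv
  set x₁ := x₀ - v with hx₁
  have hx₁G : x₁ ∈ K.G n := sub_mem hx₀ hv
  have hx₁p : x₁ ∈ K.F p := sub_mem hx₀p (K.anti hvp)
  have hDx₁ : K.D x₁ = 0 := by rw [hx₁, map_sub, hDv, sub_self]
  have hlx₁ : ∀ y ∈ K.G' (K.N - n), y ∈ K.F' q → K.D' y ∈ K.F' (q + 1) → l y = K.φ y x₁ := by
    intro y hy hyq hDy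
    rw [hx₁, map_sub, K.φF (by omega) hyq hvp, sub_zero]
    exact hlx₀ y hy hyq hDy
  let A : Submodule k S := K.G' (K.N - n) ⊓ (K.F' (q + 1)).comap K.D'
  let B : Submodule k S := K.G' (K.N - n) ⊓ K.F' q
  obtain ⟨μ, hμ⟩ := exists_fac (A.subtype.coprod B.subtype)
    (((l - K.φ.flip x₁) ∘ₗ A.subtype) ∘ₗ LinearMap.fst k A B) (by
      rintro ⟨⟨y, hy, hy'⟩, ⟨w, hw, hw'⟩⟩ h
      have h' : y + w = 0 := h
      change l y - K.φ y x₁ = 0
      rw [hlx₁ y hy (by rw [eq_neg_of_add_eq_zero_left h']; exact neg_mem hw') hy', sub_self])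
  have hμ1 : ∀ y ∈ K.G' (K.N - n), K.D' y ∈ K.F' (q + 1) → μ y = l y - K.φ y x₁ := by
    intro y hy hy'
    have := hμ (⟨y, hy, hy'⟩, 0)
    simpa using this
  have hμ2 : ∀ w ∈ K.G' (K.N - n), w ∈ K.F' q → μ w = 0 := by
    intro w hw hw'
    have := hμ (0, ⟨w, hw, hw'⟩)
    simpa using this
  obtain ⟨x₂, hx₂, hx₂p, hDx₂, hlx₂⟩ := hs n μ hμ2 (by
    intro y hy
    rw [hμ1 _ (hDG y hy) (by rw [K.DD']; exact zero_mem _), hl2 y hy, K.φD hy, hDx₁, map_zero, mul_zero, sub_zero])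
  refine ⟨x₁ + x₂, add_mem hx₁G hx₂, add_mem hx₁p (K.anti hx₂p), by rw [map_add, hDx₁, hDx₂, add_zero], ?_⟩
  intro y hy hDy
  have h3 := hlx₂ y hy (K.anti' hDy)
  rw [hμ1 y hy hDy] at h3
  rw [map_add, ← h3]
  ring

theorem main (h1 : ∀ p q, p + q + 1 = K.e → K.P1 p q) (h2 : ∀ p q, p + q + 1 = K.e → K.P2 p q) (q p : ℕ)
    (hpq : p + q = K.e) : K.Inj p q ∧ K.Surj p q := by
  induction q generalizing p with
  | zero =>
    obtain rfl : p = K.e := by omega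
    refine ⟨fun n x _ hxp _ _ => ⟨0, zero_mem _, zero_mem _, ?_⟩,
      fun n l hl _ => ⟨0, zero_mem _, zero_mem _, map_zero _, fun y hy _ => ?_⟩⟩
    · rw [K.F_e hxp, map_zero]
    · rw [hl y hy (K.F_zero' y), map_zero]
  | succ q ih =>
    obtain ⟨hi, hs⟩ := ih (p + 1) (by omega)
    exact ⟨inj_step (by omega) (h1 p q (by omega)) (h2 p q (by omega)) hi,
      surj_step (by omega) (h2 p q (by omega)) hi hs⟩

end Dat

section Coh

variable {k T : Type*} [Field k] [AddCommGroup T] [Module k T] (D : T →ₗ[k] T) (G : ℤ → Submodule k T)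

/-- Cocycles. -/
def Z (n : ℤ) : Submodule k T := G n ⊓ LinearMap.ker D

/-- Coboundaries. -/
def B (n : ℤ) : Submodule k (Z D G n) := ((G (n - 1)).map D).comap (Z D G n).subtype

theorem mem_B {n : ℤ} (x : Z D G n) : x ∈ B D G n ↔ ∃ z ∈ G (n - 1), D z = x.1 := Iff.rfl

/-- Cohomology. -/
abbrev H (n : ℤ) : Type _ := Z D G n ⧸ B D G n

end Coh

namespace Dat

variable {k T S : Type*} [Field k] [AddCommGroup T] [Module k T] [AddCommGroup S] [Module k S] {K : Dat k T S}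

/-- The duality map on cocycles. -/
noncomputable def Ψ (K : Dat k T S) (n m : ℤ) : Z K.D K.G n →ₗ[k] Module.Dual k (H K.D' K.G' m) where
  toFun x := (B K.D' K.G' m).liftQ ((K.φ.flip x.1) ∘ₗ (Z K.D' K.G' m).subtype) (by
    rintro y hy
    obtain ⟨z, hz, hzy⟩ := hy
    change K.φ y.1 x.1 = 0
    have h : (y.1 : S) = K.D' z := hzy.symm
    rw [h, K.φD hz, show K.D x.1 = 0 from x.2.2, map_zero, mul_zero])
  map_add' x y := by
    apply Submodule.linearMap_qext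
    ext w
    exact map_add (K.φ w.1) x.1 y.1
  map_smul' a x := by
    apply Submodule.linearMap_qext
    ext w
    exact map_smul (K.φ w.1) a x.1

theorem Ψ_mk (n m : ℤ) (x : Z K.D K.G n) (y : Z K.D' K.G' m) :
    K.Ψ n m x (Submodule.Quotient.mk y) = K.φ y.1 x.1 := rfl

theorem Ψ_surjective (hs : K.Surj 0 K.e) (n : ℤ) : Function.Surjective (K.Ψ n (K.N - n)) := by
  intro l
  obtain ⟨l', hl'⟩ := LinearMap.exists_extend (p := Z K.D' K.G' (K.N - n)) (l ∘ₗ (B K.D' K.G' (K.N - n)).mkQ)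
  have hl'' : ∀ y : Z K.D' K.G' (K.N - n), l' y.1 = l (Submodule.Quotient.mk y) :=
    fun y => LinearMap.congr_fun hl' y
  obtain ⟨x, hx, -, hDx, hlx⟩ := hs n l' (fun y _ hy => by rw [K.F_e' hy, map_zero]) (fun y hy => by
    have h1 : K.D' y ∈ Z K.D' K.G' (K.N - n) := by
      refine ⟨?_, K.DD' _⟩
      have := K.DG' hy
      rwa [sub_add_cancel] at this
    rw [hl'' ⟨_, h1⟩]
    have h2 : (⟨_, h1⟩ : Z K.D' K.G' (K.N - n)) ∈ B K.D' K.G' (K.N - n) := ⟨y, hy, rfl⟩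
    rw [(Submodule.Quotient.mk_eq_zero _).mpr h2, map_zero])
  refine ⟨⟨x, hx, hDx⟩, ?_⟩
  apply Submodule.linearMap_qext
  ext y
  change K.φ y.1 x = l (Submodule.Quotient.mk y)
  rw [← hl'' y, hlx y.1 y.2.1 (by rw [show K.D' y.1 = 0 from y.2.2]; exact zero_mem _)]

theorem ker_Ψ (hi : K.Inj 0 K.e) (n : ℤ) : LinearMap.ker (K.Ψ n (K.N - n)) = B K.D K.G n := by
  ext x
  rw [LinearMap.mem_ker]
  constructor
  · intro h
    obtain ⟨z, hz, -, hDz⟩ := hi n x.1 x.2.1 (K.F_zero _) x.2.2 (fun y hy hDy => by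
      have h1 : y ∈ Z K.D' K.G' (K.N - n) := ⟨hy, K.F_e' hDy⟩
      have h2 := LinearMap.congr_fun h (Submodule.Quotient.mk ⟨y, h1⟩)
      exact h2)
    exact ⟨z, hz, hDz⟩
  · rintro ⟨z, hz, hDz⟩
    apply Submodule.linearMap_qext
    ext y
    change K.φ y.1 x.1 = 0
    have h : x.1 = K.D z := hDz.symm
    rw [h, K.φD' y.2.1, show K.D' y.1 = 0 from y.2.2, map_zero, LinearMap.zero_apply, mul_zero]

/-- **Duality.** -/
theorem nonempty_equiv (h1 : ∀ p q, p + q + 1 = K.e → K.P1 p q) (h2 : ∀ p q, p + q + 1 = K.e → K.P2 p q) (n : ℤ) :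
    Nonempty (H K.D K.G n ≃ₗ[k] Module.Dual k (H K.D' K.G' (K.N - n))) := by
  obtain ⟨hi, hs⟩ := main h1 h2 K.e 0 (by omega)
  exact ⟨(Submodule.quotEquivOfEq _ _ (ker_Ψ hi n).symm).trans
    ((K.Ψ n (K.N - n)).quotKerEquivOfSurjective (Ψ_surjective hs n))⟩

theorem finrank_eq (h1 : ∀ p q, p + q + 1 = K.e → K.P1 p q) (h2 : ∀ p q, p + q + 1 = K.e → K.P2 p q) (n m : ℤ)
    (hnm : n + m = K.N) : Module.finrank k (H K.D K.G n) = Module.finrank k (H K.D' K.G' m) := by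
  obtain ⟨E⟩ := nonempty_equiv h1 h2 n
  obtain rfl : m = K.N - n := by omega
  rw [E.finrank_eq, Subspace.dual_finrank_eq]

end Dat

end K854.FiltDual2
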