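import Mathlib.RingTheory.Derivation.Basic
import Mathlib.RingTheory.Localization.Away.Basic
import Mathlib.Algebra.BigOperators.Fin
import Mathlib.Tactic.LinearCombination
import Mathlib.Tactic.Ring
import Mathlib.RingTheory.Ideal.Operations
import Mathlib.RingTheory.Finiteness.Ideal

/-!
# Generalized fractions and derivations

`R` an `A`-algebra, `R = A + (z_1, …, z_n)`, `S = R[1/(z_1 ⋯ z_n)]`, `∂` an `A`-derivation of `S` preserving `R` with
`∂ z_k = δ_ik`.  A linear map `Φ` on `S` killing the fractions without `z_j` in the denominator (any `j`) and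
`1/z^(c+1)` for `c ≠ 0` kills the image of `∂`.
-/

set_option autoImplicit false

open Finset

namespace K854.FracAlg

variable {A R S : Type*} [CommRing A] [CommRing R] [Algebra A R] [CommRing S] [Algebra A S] [Algebra R S]
  [IsScalarTower A R S] {n : ℕ} (z : Fin n → R)

/-- Fractions without `z_j` in the denominator. -/
def Reg (S : Type*) [CommRing S] [Algebra R S] (j : Fin n) (r : S) : Prop :=
  ∃ (M : ℕ) (r' : R), (∏ k ∈ univ.erase j, algebraMap R S (z k)) ^ M * r = algebraMap R S r'

/-- `R = A + (z)` implies that every element is a combination of monomials modulo `(z)^K`. -/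
theorem exists_poly (hR : ∀ r : R, ∃ a : A, r - algebraMap A R a ∈ Ideal.span (Set.range z)) (K : ℕ) (r : R) :
    ∃ (s : R), s ∈ Submodule.span A (Set.range fun c : Fin n → ℕ => ∏ k, z k ^ c k) ∧
      r - s ∈ Ideal.span (Set.range z) ^ K := by
  induction K generalizing r with
  | zero => exact ⟨0, zero_mem _, by rw [pow_zero, Ideal.one_eq_top]; trivial⟩
  | succ K ih =>
    obtain ⟨a, ha⟩ := hR r
    obtain ⟨g, hg⟩ := (Ideal.mem_span_range_iff_exists_fun).mp ha
    choose s hs hs' using fun k => ih (g k)
    refine ⟨algebraMap A R a + ∑ k, s k * z k, ?_, ?_⟩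
    · refine add_mem ?_ (sum_mem fun k _ => ?_)
      · rw [Algebra.algebraMap_eq_smul_one]
        refine Submodule.smul_mem _ _ (Submodule.subset_span ⟨0, ?_⟩)
        simp
      · -- multiplication by `z k` preserves the span of monomials
        have h1 : ∀ t ∈ Submodule.span A (Set.range fun c : Fin n → ℕ => ∏ k, z k ^ c k),
            t * z k ∈ Submodule.span A (Set.range fun c : Fin n → ℕ => ∏ k, z k ^ c k) := by
          intro t ht
          induction ht using Submodule.span_induction with
          | mem t ht =>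
            obtain ⟨c, rfl⟩ := ht
            refine Submodule.subset_span ⟨Function.update c k (c k + 1), ?_⟩
            dsimp only
            rw [← mul_prod_erase univ _ (mem_univ k), ← mul_prod_erase univ (fun l => z l ^ c l) (mem_univ k),
              Function.update_self, pow_succ]
            have h2 : ∏ x ∈ univ.erase k, z x ^ Function.update c k (c k + 1) x = ∏ x ∈ univ.erase k, z x ^ c x :=
              prod_congr rfl fun x hx => by rw [Function.update_of_ne (ne_of_mem_erase hx)]
            rw [h2]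
            ring
          | zero => rw [zero_mul]; exact zero_mem _
          | add x y _ _ hx hy => rw [add_mul]; exact add_mem hx hy
          | smul a x _ hx => rw [smul_mul_assoc]; exact Submodule.smul_mem _ _ hx
        exact h1 _ (hs k)
    · have h1 : r - (algebraMap A R a + ∑ k, s k * z k) = ∑ k, (g k - s k) * z k := by
        have h2 : r - algebraMap A R a = ∑ k, g k * z k := hg.symm
        rw [← sub_sub, h2, ← sum_sub_distrib]
        exact sum_congr rfl fun k _ => by ring
      rw [h1, pow_succ]
      exact sum_mem fun k _ => Ideal.mul_mem_mul (hs' k) (Ideal.subset_span ⟨k, rfl⟩)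

/-- Large powers of `(z)` are in `(z_1^M, …, z_n^M)`. -/
theorem exists_pow_le (M : ℕ) : ∃ K, Ideal.span (Set.range z) ^ K ≤ Ideal.span (Set.range fun k => z k ^ M) := by
  refine Ideal.exists_pow_le_of_le_radical_of_fg ?_ ⟨(Set.finite_range z).toFinset, by simp⟩
  rw [Ideal.span_le]
  rintro _ ⟨k, rfl⟩
  exact ⟨M, Ideal.subset_span ⟨k, rfl⟩⟩

theorem exists_poly' (hR : ∀ r : R, ∃ a : A, r - algebraMap A R a ∈ Ideal.span (Set.range z)) (M : ℕ) (r : R) :
    ∃ (s : R) (g : Fin n → R), s ∈ Submodule.span A (Set.range fun c : Fin n → ℕ => ∏ k, z k ^ c k) ∧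
      r = s + ∑ j, g j * z j ^ M := by
  obtain ⟨K, hK⟩ := exists_pow_le z M
  obtain ⟨s, hs, hs'⟩ := exists_poly z hR K r
  obtain ⟨g, hg⟩ := (Ideal.mem_span_range_iff_exists_fun).mp (hK hs')
  exact ⟨s, g, hs, by rw [hg]; ring⟩

variable (v : Fin n → S) (hv : ∀ i, algebraMap R S (z i) * v i = 1)

section Reg

omit [Algebra A R] [Algebra A S] [IsScalarTower A R S] in
theorem reg_add {j : Fin n} {r s : S} (hr : Reg z S j r) (hs : Reg z S j s) : Reg z S j (r + s) := by
  obtain ⟨M, r', h⟩ := hr
  obtain ⟨M', s', h'⟩ := hs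
  refine ⟨M + M', (∏ k ∈ univ.erase j, z k) ^ M' * r' + (∏ k ∈ univ.erase j, z k) ^ M * s', ?_⟩
  rw [map_add, map_mul, map_mul, map_pow, map_pow, map_prod, ← h, ← h']
  ring

include hv in
/-- Every element is a combination of negative monomials modulo fractions missing a variable. -/
theorem induct (hR : ∀ r : R, ∃ a : A, r - algebraMap A R a ∈ Ideal.span (Set.range z))
    [IsLocalization.Away (∏ i, z i) S] (T : AddSubgroup S) (hT : ∀ (j : Fin n) (r : S), Reg z S j r → r ∈ T)
    (hT' : ∀ (a : A) (d : Fin n → ℕ), a • ∏ k, v k ^ (d k + 1) ∈ T) (r : S) : r ∈ T := by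
  -- monomials
  have hmono : ∀ (M : ℕ) (a : A) (c : Fin n → ℕ), a • (algebraMap R S (∏ k, z k ^ c k) * ∏ k, v k ^ M) ∈ T := by
    intro M a c
    by_cases hc : ∃ j, M ≤ c j
    · obtain ⟨j, hj⟩ := hc
      refine hT j _ ⟨M, a • (z j ^ (c j - M) * ∏ k ∈ univ.erase j, z k ^ c k), ?_⟩
      have h1 : (∏ k ∈ univ.erase j, algebraMap R S (z k)) ^ M * ∏ k ∈ univ.erase j, v k ^ M = 1 := by
        rw [prod_pow, ← mul_pow, ← prod_mul_distrib, prod_congr rfl (fun k _ => hv k), prod_const_one, one_pow]
      have h2 : algebraMap R S (z j) ^ c j * v j ^ M = algebraMap R S (z j) ^ (c j - M) := by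
        have : c j = (c j - M) + M := by omega
        rw [this, pow_add, mul_assoc, ← mul_pow, hv, one_pow, mul_one]
        congr 1
        omega
      rw [Algebra.smul_def, Algebra.smul_def, map_mul, map_mul, ← IsScalarTower.algebraMap_apply,
        ← mul_prod_erase univ (fun k => z k ^ c k) (mem_univ j), ← mul_prod_erase univ (fun k => v k ^ M) (mem_univ j),
        map_mul, map_pow, map_pow, ← h2]
      linear_combination (algebraMap A S a * (algebraMap R S (z j) ^ c j * v j ^ M) *
        algebraMap R S (∏ k ∈ univ.erase j, z k ^ c k)) * h1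
    · push Not at hc
      have h1 : algebraMap R S (∏ k, z k ^ c k) * ∏ k, v k ^ M = ∏ k, v k ^ ((M - c k - 1) + 1) := by
        rw [map_prod, ← prod_mul_distrib]
        refine prod_congr rfl fun k _ => ?_
        have h2 : M = c k + (M - c k - 1 + 1) := by have := hc k; omega
        conv_lhs => rw [h2]
        rw [map_pow, pow_add, ← mul_assoc, ← mul_pow, hv, one_pow, one_mul]
      rw [h1]
      exact hT' a _
  obtain ⟨⟨r₀, w, M, rfl⟩, hr⟩ := IsLocalization.surj (Submonoid.powers (∏ i, z i)) r
  change r * algebraMap R S ((∏ i, z i) ^ M) = algebraMap R S r₀ at hr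
  have hP : algebraMap R S ((∏ i, z i) ^ M) * ∏ k, v k ^ M = 1 := by
    rw [map_pow, map_prod, prod_pow, ← mul_pow, ← prod_mul_distrib, prod_congr rfl (fun k _ => hv k), prod_const_one,
      one_pow]
  have hr' : r = algebraMap R S r₀ * ∏ k, v k ^ M := by
    linear_combination (-r) * hP + (∏ k, v k ^ M) * hr
  obtain ⟨s, g, hs, hsg⟩ := exists_poly' z hR M r₀
  rw [hr', hsg, map_add, add_mul]
  refine add_mem ?_ ?_
  · -- the polynomial part
    have key : ∀ a : A, a • (algebraMap R S s * ∏ k, v k ^ M) ∈ T := by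
      clear hsg hr' hr
      induction hs using Submodule.span_induction with
      | mem t ht =>
        obtain ⟨c, rfl⟩ := ht
        exact fun a => hmono M a c
      | zero => intro a; rw [map_zero, zero_mul, smul_zero]; exact zero_mem _
      | add x y _ _ hx hy => intro a; rw [map_add, add_mul, smul_add]; exact add_mem (hx a) (hy a)
      | smul b x _ hx =>
        intro a
        have h1 : a • (algebraMap R S (b • x) * ∏ k, v k ^ M) = (a * b) • (algebraMap R S x * ∏ k, v k ^ M) := by
          rw [Algebra.smul_def, Algebra.smul_def, Algebra.smul_def, map_mul, map_mul,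
            ← IsScalarTower.algebraMap_apply]
          ring
        rw [h1]
        exact hx _
    have := key 1
    rwa [one_smul] at this
  · rw [map_sum, sum_mul]
    refine sum_mem fun j _ => hT j _ ⟨M, g j, ?_⟩
    have h1 : (∏ k ∈ univ.erase j, algebraMap R S (z k)) ^ M * ∏ k ∈ univ.erase j, v k ^ M = 1 := by
      rw [prod_pow, ← mul_pow, ← prod_mul_distrib, prod_congr rfl (fun k _ => hv k), prod_const_one, one_pow]
    have h2 : algebraMap R S (z j) ^ M * v j ^ M = 1 := by rw [← mul_pow, hv, one_pow]
    rw [← mul_prod_erase univ (fun k => v k ^ M) (mem_univ j), map_mul, map_pow]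
    linear_combination (algebraMap R S (g j) * algebraMap R S (z j) ^ M * v j ^ M) * h1 + algebraMap R S (g j) * h2

end Reg

/-- **The final step, algebra.** -/
theorem main (hR : ∀ r : R, ∃ a : A, r - algebraMap A R a ∈ Ideal.span (Set.range z))
    [IsLocalization.Away (∏ i, z i) S] (hv : ∀ i, algebraMap R S (z i) * v i = 1) (i : Fin n)
    (δ : Derivation A S S) (hδ : ∀ r : R, ∃ r' : R, δ (algebraMap R S r) = algebraMap R S r')
    (hδz : ∀ k, δ (algebraMap R S (z k)) = if k = i then 1 else 0)
    {N : Type*} [AddCommGroup N] [Module A N] (Φ : S →+ N) (hΦA : ∀ (a : A) (s : S), Φ (a • s) = a • Φ s)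
    (hΦ : ∀ (j : Fin n) (r : S), Reg z S j r → Φ r = 0)
    (hΦ' : ∀ c : Fin n → ℕ, c ≠ 0 → Φ (∏ k, v k ^ (c k + 1)) = 0) (r : S) : Φ (δ r) = 0 := by
  let T : AddSubgroup S := (Φ.comp δ.toLinearMap.toAddMonoidHom).ker
  have hmem : ∀ s, s ∈ T ↔ Φ (δ s) = 0 := fun s => Iff.rfl
  refine (hmem r).mp (induct z v hv hR T (fun j s hs => (hmem _).mpr (hΦ j _ ?_)) (fun a d => (hmem _).mpr ?_) r)
  · -- regular fractions
    obtain ⟨M, r', h⟩ := hs
    obtain ⟨q, hq⟩ := hδ (∏ k ∈ univ.erase j, z k)
    obtain ⟨q', hq'⟩ := hδ r'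
    refine ⟨M + 1, (∏ k ∈ univ.erase j, z k) * q' - (M : R) * q * r', ?_⟩
    have h1 := congrArg δ h
    rw [Derivation.leibniz, Derivation.leibniz_pow, hq', ← map_prod, hq] at h1
    rw [map_sub, map_mul, map_mul, map_mul, map_natCast, ← h, ← h1, ← map_prod]
    simp only [smul_eq_mul, nsmul_eq_mul]
    rcases Nat.eq_zero_or_pos M with rfl | hM
    · simp
    · obtain ⟨M, rfl⟩ : ∃ M', M = M' + 1 := ⟨M - 1, by omega⟩
      rw [Nat.add_sub_cancel, pow_succ, pow_succ]
      ring
  · rw [δ.map_smul, hΦA]
    -- derivative of a negative monomial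
    have hδv : ∀ k, δ (v k) = if k = i then - v k ^ 2 else 0 := by
      intro k
      have h1 := congrArg δ (hv k)
      rw [Derivation.leibniz, δ.map_one_eq_zero, hδz] at h1
      simp only [smul_eq_mul] at h1
      split_ifs with hk
      · rw [if_pos hk] at h1
        linear_combination (v k) * h1 - (δ (v k)) * hv k
      · rw [if_neg hk] at h1
        linear_combination (v k) * h1 - (δ (v k)) * hv k
    have hQ : δ (∏ k ∈ univ.erase i, v k ^ (d k + 1)) = 0 := by
      refine prod_induction _ (fun x => δ x = 0) (fun x y hx hy => ?_) δ.map_one_eq_zero (fun k hk => ?_)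
      · rw [Derivation.leibniz, hx, hy, smul_zero, smul_zero, add_zero]
      · rw [Derivation.leibniz_pow, hδv, if_neg (ne_of_mem_erase hk), smul_zero, smul_zero]
    have h2 : δ (∏ k, v k ^ (d k + 1)) = (-(d i + 1 : ℤ)) • ∏ k, v k ^ (Function.update d i (d i + 1) k + 1) := by
      rw [← mul_prod_erase univ (fun k => v k ^ (d k + 1)) (mem_univ i),
        ← mul_prod_erase univ (fun k => v k ^ (Function.update d i (d i + 1) k + 1)) (mem_univ i),
        Derivation.leibniz, hQ, smul_zero, zero_add, Derivation.leibniz_pow, hδv, if_pos rfl, Function.update_self]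
      have h3 : ∏ x ∈ univ.erase i, v x ^ (Function.update d i (d i + 1) x + 1) = ∏ x ∈ univ.erase i, v x ^ (d x + 1) :=
        prod_congr rfl fun x hx => by rw [Function.update_of_ne (ne_of_mem_erase hx)]
      rw [h3]
      simp only [smul_eq_mul, nsmul_eq_mul, zsmul_eq_mul, Nat.add_sub_cancel]
      push_cast
      ring
    rw [h2, map_zsmul, hΦ', smul_zero, smul_zero]
    intro h3
    have h4 := congrFun h3 i
    rw [Function.update_self] at h4
    exact Nat.succ_ne_zero _ h4

end K854.FracAlg
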