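import Groth.Agent.DeRhamSh.K854.FracForm
import Groth.Agent.DeRhamSh.K644.KapTop
import Groth.Agent.DeRhamSh.K205.Loc
import Groth.Prelude.Def_CohPull

/-!
# The final step: generalized fraction classes and the differential
-/

set_option autoImplicit false
universe u

open CategoryTheory CategoryTheory.Limits AlgebraicGeometry Opposite TopologicalSpace

namespace K854.FracTop

open K644.Kap

section Opens

variable {X : Scheme.{u}} {W : X.Opens}

theorem mem_dd {X : TopCat.{u}} {O : Opens X} {l : List (Opens X)} {p : X} :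
    p ∈ dd O l ↔ p ∈ O ∧ ∀ V ∈ l, p ∈ V := by
  constructor
  · intro h
    exact ⟨dd_le O l h, fun V hV => dd_le_mem O l hV h⟩
  · rintro ⟨h1, h2⟩
    induction l generalizing O with
    | nil => exact h1
    | cons V l ih =>
      exact ih ⟨h1, h2 V (List.mem_cons_self ..)⟩ fun V' hV' => h2 V' (List.mem_cons_of_mem _ hV')

theorem mem_basicOpen_prod {ι : Type*} (s : Finset ι) (z : ι → Γ(X, W)) {p : X} :
    p ∈ X.basicOpen (∏ i ∈ s, z i) ↔ p ∈ W ∧ ∀ i ∈ s, p ∈ X.basicOpen (z i) := by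
  classical
  induction s using Finset.induction_on with
  | empty =>
    rw [Finset.prod_empty]
    have h : X.basicOpen (1 : Γ(X, W)) = W := Scheme.basicOpen_of_isUnit X isUnit_one
    rw [h]
    simp
  | insert i s hi ih =>
    rw [Finset.prod_insert hi, Scheme.basicOpen_mul]
    constructor
    · rintro ⟨h1, h2⟩
      refine ⟨(ih.mp h2).1, ?_⟩
      intro k hk
      rcases Finset.mem_insert.mp hk with rfl | hk
      · exact h1
      · exact (ih.mp h2).2 k hk
    · rintro ⟨h1, h2⟩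
      exact ⟨h2 i (Finset.mem_insert_self ..), ih.mpr ⟨h1, fun k hk => h2 k (Finset.mem_insert_of_mem hk)⟩⟩

/-- The intersection of the basic opens. -/
theorem dd_eq {n : ℕ} (z : Fin n → Γ(X, W)) :
    dd W (List.ofFn fun i => X.basicOpen (z i)) = X.basicOpen (∏ i, z i) := by
  ext p
  refine (mem_dd (X := X.toTopCat)).trans (Iff.trans ?_ (mem_basicOpen_prod Finset.univ z).symm)
  refine and_congr_right fun _ => ?_
  constructor
  · intro h i _
    exact h _ ((List.mem_ofFn' _ _).mpr ⟨i, rfl⟩)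
  · intro h V hV
    obtain ⟨i, rfl⟩ := (List.mem_ofFn' _ _).mp hV
    exact h i (Finset.mem_univ _)

theorem dd_eraseIdx_eq {n : ℕ} (z : Fin n → Γ(X, W)) (j : Fin n) :
    dd W ((List.ofFn fun i => X.basicOpen (z i)).eraseIdx j) = X.basicOpen (∏ k ∈ Finset.univ.erase j, z k) := by
  ext p
  refine (mem_dd (X := X.toTopCat)).trans (Iff.trans ?_ (mem_basicOpen_prod (Finset.univ.erase j) z).symm)
  refine and_congr_right fun _ => ?_
  constructor
  · intro h i hi
    refine h _ (List.mem_eraseIdx_iff_getElem.mpr ⟨i, ?_⟩)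
    have hij : i ≠ j := Finset.ne_of_mem_erase hi
    exact ⟨by simp, fun h => hij (Fin.ext h), by simp⟩
  · intro h V hV
    obtain ⟨i, hi, hne, rfl⟩ := List.mem_eraseIdx_iff_getElem.mp hV
    have hi' : i < n := by simpa using hi
    have := h ⟨i, hi'⟩ (Finset.mem_erase.mpr ⟨fun h => hne (congrArg Fin.val h), Finset.mem_univ _⟩)
    simpa using this

end Opens

section Main

variable {A : Type u} [CommRing A] {X : Scheme.{u}} (f : X ⟶ Spec (CommRingCat.of A))

open Groth.Agent Groth.Agent.LoccohB.GlueHom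
open Groth.Agent.CurvesB.OmegaStalkDict (secHom)
open Groth.Agent.Ega2.BasSec (IsBas)

/-- The classes are linear over the base ring. -/
theorem hc_smul [QuasiSeparated f] (M : X.Modules) (c : Cv X.toTopCat) (n : ℕ) (hn : c.l.length = n) (a : A)
    (s : Γ(M, dd c.O c.l)) :
    hc c n hn (F := Coh.toAb M) (secHom f (dd c.O c.l) a • s : Γ(M, dd c.O c.l)) =
      Sheaf.H.map (Coh.smulAb M (Coh.toGlobal f a)) n (hc c n hn (F := Coh.toAb M) s) :=
  (congrArg (hc c n hn (F := Coh.toAb M)) (K853.CxAff.smulAb_app_eq f M (dd c.O c.l) a s).symm).trans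
    (map_hc c n hn (F := Coh.toAb M) (Coh.smulAb M (Coh.toGlobal f a)) s).symm

variable {f} [QuasiSeparated f] (D : DeRhamSh.OmegaCx f) {e : ℕ}

theorem length_eq (c : Cv X.toTopCat) (z : Fin (e + 1) → Γ(X, c.O)) (hl : c.l = List.ofFn fun i => X.basicOpen (z i)) :
    c.l.length = e + 1 := by
  rw [hl, List.length_ofFn]

theorem affine_dd (c : Cv X.toTopCat) (hW : IsAffineOpen (X := X) c.O) (z : Fin (e + 1) → Γ(X, c.O))
    (hl : c.l = List.ofFn fun i => X.basicOpen (z i)) : IsAffineOpen (X := X) (dd c.O c.l) := by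
  rw [hl, dd_eq]
  exact hW.basicOpen _

/-- **The final step.** -/
theorem main (c : Cv X.toTopCat) (hW : IsAffineOpen (X := X) c.O) (z : Fin (e + 1) → Γ(X, c.O))
    (hl : c.l = List.ofFn fun i => X.basicOpen (z i))
    (hz : IsBas (M := Omega.sheaf f) (fun i => (OmegaSh.dOmega f).app c.O (z i)))
    (hR : ∀ r : Γ(X, c.O), ∃ a : A, r - secHom f c.O a ∈ Ideal.span (Set.range z))
    (hsurj : Function.Surjective (hc c (e + 1) (length_eq c z hl) (F := Coh.toAb (D.term e))))
    (hvan : ∀ m : Fin (e + 1) → ℕ, m ≠ 0 → ∀ v : Fin (e + 1) → Γ(X, dd c.O c.l),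
      (∀ i, resO (dd_le c.O c.l) (z i) * v i = 1) →
      hc c (e + 1) (length_eq c z hl) (F := Coh.toAb (D.term (e + 1)))
        ((∏ k, v k ^ (m k + 1)) • FracForm.wt f D ⟨dd c.O c.l, affine_dd c hW z hl⟩
          (fun i => resO (dd_le c.O c.l) (z i))) = 0)
    (x : Coh.HH X (D.term e) (e + 1)) : Sheaf.H.map (K205.Loc.dd D e) (e + 1) x = 0 := by
  obtain ⟨s, rfl⟩ := hsurj x
  rw [map_hc]
  have hVeq : dd c.O c.l = X.basicOpen (∏ i, z i) := by rw [hl, dd_eq]
  have hVa : IsAffineOpen (X := X) (dd c.O c.l) := affine_dd c hW z hl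
  -- inverses of the coordinates
  have hu : ∀ i, ∃ v : Γ(X, dd c.O c.l), resO (dd_le c.O c.l) (z i) * v = 1 := by
    intro i
    have hle : dd c.O c.l ≤ X.basicOpen (z i) :=
      dd_le_mem c.O c.l (by rw [hl]; exact (List.mem_ofFn' _ _).mpr ⟨i, rfl⟩)
    have h1 : IsUnit (resO (X.basicOpen_le (z i)) (z i)) := X.toRingedSpace.isUnit_res_basicOpen (z i)
    obtain ⟨w, hw⟩ := h1.exists_right_inv
    refine ⟨resO hle w, ?_⟩
    rw [← resO_resO (X.basicOpen_le (z i)) hle, ← map_mul, hw, map_one]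
  choose v hv using hu
  let iN : Module A (Coh.HH X (D.term (e + 1)) (e + 1)) := Module.compHom _ (Coh.toGlobal f)
  have hj : ∀ j : Fin (e + 1), ∃ l₁ l₂ : List (Opens X), ∃ V : Opens X, c.l = l₁ ++ V :: l₂ ∧
      dd c.O (l₁ ++ l₂) = X.basicOpen (∏ k ∈ Finset.univ.erase j, z k) := by
    intro j
    have hjl : (j : ℕ) < c.l.length := by rw [length_eq c z hl]; exact j.2
    refine ⟨c.l.take j, c.l.drop (j + 1), c.l[(j : ℕ)], ?_, ?_⟩
    · rw [List.getElem_cons_drop, List.take_append_drop]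
    · rw [← List.eraseIdx_eq_take_drop_succ, hl, dd_eraseIdx_eq]
  choose l₁ l₂ Vx hc1 hc2 using hj
  have hle : ∀ j, dd c.O c.l ≤ dd c.O (l₁ j ++ l₂ j) := by
    intro j
    refine le_dd (dd_le _ _) fun V hV => dd_le_mem _ _ ?_
    rw [hc1 j]
    simp only [List.mem_append, List.mem_cons] at hV ⊢
    tauto
  refine FracForm.main D hW z hz hR hVeq hVa (dd_le c.O c.l) (fun j => dd c.O (l₁ j ++ l₂ j)) hc2 hle
    (N := Coh.HH X (D.term (e + 1)) (e + 1)) (hc c (e + 1) (length_eq c z hl) (F := Coh.toAb (D.term (e + 1))))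
    ?_ ?_ v hv ?_ s
  · intro a s
    exact hc_smul f (D.term (e + 1)) c (e + 1) (length_eq c z hl) a s
  · intro j s
    exact hc_eq_zero c (e + 1) (length_eq c z hl) (F := Coh.toAb (D.term (e + 1))) (hc1 j) (hle j) s
  · intro m hm
    exact hvan m hm v hv

end Main

end K854.FracTop
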