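import Groth.Agent.DeRhamSh.K854.CechTheta
import Groth.Agent.DeRhamSh.K854.CechPair
import Groth.Agent.DeRhamSh.K854.DblDual

/-!
# Complexes of `O_X`-modules with `k`-linear differentials and their Čech double complexes

`LCx k X`: modules `M a`, `k`-linear differentials on sections.  `dbl A U`: the Čech double complex.
`LPr B A E`: pairings `β : A^a ⟶ Hom(B^b, E^(b+a))` with the Leibniz rule over affine opens; `dpr`: the pairing of the
Čech double complexes.
-/

set_option autoImplicit false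
universe u

open CategoryTheory CategoryTheory.Limits AlgebraicGeometry Opposite TopologicalSpace
open Groth.Agent Groth.Agent.LoccohB.GlueHom
open K854.CechMod K854.CechPair K854.DblPair
open Groth.Agent.Lefpen.H278.SecSys (Sec)
open Groth.Agent.CohqB.HomSheaf (homSheaf comp mkSec comp_mkSec comp_add comp_smul comp_self_smul ofHom)

namespace K854.PCx

variable (k : Type u) [Field k] {X : Scheme.{u}} [X.Over (Spec (CommRingCat.of k))]

/-- A complex of `O_X`-modules with `k`-linear differentials. -/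
structure LCx (k : Type u) [Field k] (X : Scheme.{u}) [X.Over (Spec (CommRingCat.of k))] where
  M : ℕ → X.Modules
  d : ∀ (a : ℕ) (V : X.Opens), Sec k (M a) V →ₗ[k] Sec k (M (a + 1)) V
  d_res : ∀ (a : ℕ) {V V' : X.Opens} (h : V' ≤ V) (s : Γ(M a, V)),
    d a V' (res (M a) h s) = res (M (a + 1)) h (d a V s)
  d_d : ∀ (a : ℕ) (V : X.Opens) (s : Sec k (M a) V), d (a + 1) V (d a V s) = 0

section Sections

variable {ι : Type} (U : ι → X.Opens)

theorem glV_resO {V W : X.Opens} (h : W ≤ V) (t : k) : resO h (Fga.MumCech.glV k V t) = Fga.MumCech.glV k W t :=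
  Fga.MumCech.glV_res k h t

theorem res_ksmul (M : X.Modules) {V W : X.Opens} (h : W ≤ V) (t : k) (s : Sec k M V) :
    res M h (t • s : Sec k M V) = (t • (show Sec k M W from res M h s) : Sec k M W) := by
  refine (res_smul M h (Fga.MumCech.glV k V t) s).trans ?_
  rw [glV_resO]
  rfl

theorem tf_ksmul (M : X.Modules) {n : ℕ} (t : k) (s : Co k U M n) (σ : Fin (n + 1) → ι) :
    tf U M (t • s : Co k U M n) σ = (t • (show Sec k M (⊤ ⊓ Ot U n σ) from tf U M s σ) : Sec k M (⊤ ⊓ Ot U n σ)) := by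
  refine (tf_smul U (Fga.MumCech.glV k ⊤ t) s σ).trans ?_
  rw [glV_resO]
  rfl

theorem tf_dk (M : X.Modules) {n : ℕ} (s : Co k U M n) (σ : Fin (n + 2) → ι) :
    tf U M (dk k U M n s) σ = ∑ j : Fin (n + 2), (-1 : ℤ) ^ (j : ℕ) •
      res M (inf_le_inf_left ⊤ (Ot_face U σ j)) (tf U M s (σ ∘ j.succAbove)) := rfl

end Sections

variable {k}

section Dbl

variable {ι : Type} (U : ι → X.Opens) (A : LCx k X)

/-- The horizontal differential. -/
noncomputable def dH (a b : ℕ) : Co k U (A.M a) b →ₗ[k] Co k U (A.M (a + 1)) b where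
  toFun s := ff U (A.M (a + 1)) (fun σ => A.d a _ (tf U (A.M a) s σ))
  map_add' s t := by
    apply sec_ext'
    intro σ
    exact map_add (A.d a (⊤ ⊓ Ot U b σ)) (tf U (A.M a) s σ) (tf U (A.M a) t σ)
  map_smul' r s := by
    apply sec_ext'
    intro σ
    refine Eq.trans ?_ (tf_ksmul k U (A.M (a + 1)) r _ σ).symm
    change A.d a _ (tf U (A.M a) (r • s : Co k U (A.M a) b) σ) = _
    rw [tf_ksmul]
    exact map_smul (A.d a (⊤ ⊓ Ot U b σ)) r _

theorem tf_dH (a b : ℕ) (s : Co k U (A.M a) b) (σ : Fin (b + 1) → ι) :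
    tf U (A.M (a + 1)) (dH U A a b s) σ = A.d a _ (tf U (A.M a) s σ) := rfl

/-- The Čech double complex. -/
noncomputable def dbl : Dbl.{u, u} k where
  C a b := Co k U (A.M a) b
  dH := dH U A
  dV a b := dk k U (A.M a) b
  HH a b x := by
    apply sec_ext'
    intro σ
    exact A.d_d a _ _
  VV a b x := dk_dk k U (A.M a) b x
  HV a b x := by
    apply sec_ext'
    intro σ
    change A.d a _ (tf U (A.M a) (dk k U (A.M a) b x) σ) = tf U (A.M (a + 1)) (dk k U (A.M (a + 1)) b (dH U A a b x)) σ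
    rw [tf_dk, tf_dk]
    refine (map_sum (A.d a (⊤ ⊓ Ot U (b + 1) σ)) _ _).trans ?_
    refine Finset.sum_congr rfl fun j _ => ?_
    refine (map_zsmul (A.d a (⊤ ⊓ Ot U (b + 1) σ)) _ _).trans ?_
    rw [A.d_res]
    rfl

end Dbl

section Pr

variable {F W M : X.Modules}

/-- The pairing on sections. -/
noncomputable def pr (β : M ⟶ homSheaf F W) (V : X.Opens) (y : Γ(F, V)) (x : Γ(M, V)) : Γ(W, V) :=
  comp (β.app V x) V le_rfl y

variable (β : M ⟶ homSheaf F W) {V : X.Opens}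

theorem pr_add_left (y y' : Γ(F, V)) (x : Γ(M, V)) : pr β V (y + y') x = pr β V y x + pr β V y' x :=
  map_add (comp (β.app V x) V le_rfl) y y'

theorem pr_add_right (y : Γ(F, V)) (x x' : Γ(M, V)) : pr β V y (x + x') = pr β V y x + pr β V y x' := by
  unfold pr
  rw [map_add]
  rfl

theorem pr_smul_left (r : Γ(X, V)) (y : Γ(F, V)) (x : Γ(M, V)) : pr β V (r • y) x = r • pr β V y x :=
  map_smul (comp (β.app V x) V le_rfl) r y

theorem pr_smul_right (r : Γ(X, V)) (y : Γ(F, V)) (x : Γ(M, V)) : pr β V y (r • x) = r • pr β V y x := by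
  unfold pr
  rw [Scheme.Modules.Hom.app_smul, comp_self_smul]
  rfl

theorem pr_res {V' : X.Opens} (h : V' ≤ V) (y : Γ(F, V)) (x : Γ(M, V)) :
    res W h (pr β V y x) = pr β V' (res F h y) (res M h x) := by
  unfold pr
  rw [← comp_map'' _ le_rfl h, app_res]
  rfl

theorem pr_zsmul_left (r : ℤ) (y : Γ(F, V)) (x : Γ(M, V)) : pr β V (r • y) x = r • pr β V y x :=
  map_zsmul (comp (β.app V x) V le_rfl) r y

theorem pr_zsmul_right (r : ℤ) (y : Γ(F, V)) (x : Γ(M, V)) : pr β V y (r • x) = r • pr β V y x :=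
  map_zsmul (AddMonoidHom.mk' (fun x => pr β V y x) (pr_add_right β y)) r x

theorem pr_zero_right (y : Γ(F, V)) : pr β V y (0 : Γ(M, V)) = 0 :=
  map_zero (AddMonoidHom.mk' (fun x => pr β V y x) (pr_add_right β y))

variable {ι : Type} (U : ι → X.Opens) {n m : ℕ}

/-- The product of cochains. -/
noncomputable def cp (N : ℕ) (y : Γ(cc U F n, ⊤)) (x : Γ(cc U M m, ⊤)) : Γ(cc U W N, ⊤) :=
  (cupN U (Th U β m x) n N).app ⊤ y

theorem comp_eq_pr {V V' : X.Opens} (h : V' ≤ V) (y : Γ(F, V')) (x : Γ(M, V)) :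
    comp (β.app V x) V' h y = pr β V' y (res M h x) := by
  unfold pr
  rw [app_res]
  rfl

theorem tf_cp (N : ℕ) (y : Γ(cc U F n, ⊤)) (x : Γ(cc U M m, ⊤)) (σ : Fin (N + 1) → ι) :
    tf U W (cp β U N y x) σ = pr β (⊤ ⊓ Ot U N σ)
      (res F (inf_le_inf_left ⊤ (Ot_tp U σ n id)) (tf U F y (tp n (sq σ) id)))
      (res M (inf_le_inf_left ⊤ (Ot_tp U σ m (fun i => n + i)))
        (tf U M x (tp m (sq σ) (fun i => n + i)))) := by
  unfold cp
  rw [cupN_app]
  unfold tm
  rw [Th_app, comp_eq_pr, pr_res, res_res, res_res]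

theorem cp_add_left (N : ℕ) (y y' : Γ(cc U F n, ⊤)) (x : Γ(cc U M m, ⊤)) :
    cp β U N (y + y') x = cp β U N y x + cp β U N y' x := by
  apply sec_ext'
  intro σ
  rw [tf_add', tf_cp, tf_cp, tf_cp, tf_add', map_add, pr_add_left]

theorem cp_add_right (N : ℕ) (y : Γ(cc U F n, ⊤)) (x x' : Γ(cc U M m, ⊤)) :
    cp β U N y (x + x') = cp β U N y x + cp β U N y x' := by
  apply sec_ext'
  intro σ
  rw [tf_add', tf_cp, tf_cp, tf_cp, tf_add', map_add, pr_add_right]

theorem cp_smul_left (N : ℕ) (r : Γ(X, ⊤)) (y : Γ(cc U F n, ⊤)) (x : Γ(cc U M m, ⊤)) :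
    cp β U N (r • y) x = r • cp β U N y x := by
  apply sec_ext'
  intro σ
  rw [tf_smul, tf_cp, tf_cp, tf_smul, res_smul, pr_smul_left, resO_resO]

theorem cp_smul_right (N : ℕ) (r : Γ(X, ⊤)) (y : Γ(cc U F n, ⊤)) (x : Γ(cc U M m, ⊤)) :
    cp β U N y (r • x) = r • cp β U N y x := by
  apply sec_ext'
  intro σ
  rw [tf_smul, tf_cp, tf_cp, tf_smul, res_smul, pr_smul_right, resO_resO]

theorem dd_cp {N : ℕ} (hN : m + n = N) (y : Γ(cc U F n, ⊤)) (x : Γ(cc U M m, ⊤)) :
    (dd U W N).app ⊤ (cp β U N y x) = cp β U (N + 1) ((dd U F n).app ⊤ y) x +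
      (-1 : ℤ) ^ n • cp β U (N + 1) y ((dd U M m).app ⊤ x) := by
  unfold cp
  rw [leibniz U _ hN, Th_dd]

/-- The product of cochains as a `k`-bilinear map. -/
noncomputable def cpk (N : ℕ) : Co k U F n →ₗ[k] Co k U M m →ₗ[k] Co k U W N :=
  LinearMap.mk₂ k (fun y x => cp β U N y x)
    (fun y y' x => cp_add_left β U N y y' x)
    (fun r y x => cp_smul_left β U N (Fga.MumCech.glV k ⊤ r) y x)
    (fun y x x' => cp_add_right β U N y x x')
    (fun r y x => cp_smul_right β U N (Fga.MumCech.glV k ⊤ r) y x)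

theorem cpk_apply (N : ℕ) (y : Co k U F n) (x : Co k U M m) : cpk β U N y x = cp β U N y x := rfl

end Pr

/-- A pairing of complexes, with the Leibniz rule over affine opens. -/
structure LPr (B A E : LCx k X) where
  β : ∀ {b a c : ℕ}, b + a = c → (A.M a ⟶ homSheaf (B.M b) (E.M c))
  leib : ∀ {b a c : ℕ} (h : b + a = c) (h1 : b + 1 + a = c + 1) (h2 : b + (a + 1) = c + 1) (V : X.Opens),
    IsAffineOpen V → ∀ (y : Γ(B.M b, V)) (x : Γ(A.M a, V)),
      E.d c V (pr (β h) V y x) = (pr (β h1) V (B.d b V y) x + (-1 : ℤ) ^ b • pr (β h2) V y (A.d a V x) : Γ(E.M (c + 1), V))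

theorem zsmul_eq_ksmul {N : Type*} [AddCommGroup N] [Module k N] (n : ℕ) (x : N) :
    (-1 : ℤ) ^ n • x = (-1 : k) ^ n • x := by
  rw [← Int.cast_smul_eq_zsmul k]
  congr 1
  push_cast
  rfl

section Pairing

variable {B A E : LCx k X} (P : LPr B A E) {ι : Type} [Finite ι] (U : ι → X.Opens)
  (hU : ∀ s : Finset ι, s.Nonempty → IsAffineOpen (⨅ i ∈ s, U i))

omit [Finite ι] in
include hU in
theorem isAffineOpen_top_inf (n : ℕ) (σ : Fin (n + 1) → ι) : IsAffineOpen (⊤ ⊓ Ot U n σ) := by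
  rw [top_inf_eq]
  exact isAffineOpen_Ot U hU n σ

/-- The horizontal differential on sections. -/
noncomputable def dHs (A : LCx k X) (a b : ℕ) (s : Γ(cc U (A.M a) b, ⊤)) : Γ(cc U (A.M (a + 1)) b, ⊤) := dH U A a b s

omit [Finite ι] in
theorem tf_dHs (A : LCx k X) (a b : ℕ) (s : Γ(cc U (A.M a) b, ⊤)) (σ : Fin (b + 1) → ι) :
    tf U (A.M (a + 1)) (dHs U A a b s) σ = A.d a _ (tf U (A.M a) s σ) := rfl

include hU in
omit [Finite ι] in
theorem leibH_cp {a a' c : ℕ} (h : a + a' = c) (h1 : a + 1 + a' = c + 1) (h2 : a + (a' + 1) = c + 1) {b b' : ℕ} (e : ℕ)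
    (y : Γ(cc U (B.M a) b, ⊤)) (x : Γ(cc U (A.M a') b', ⊤)) :
    dHs U E c e (cp (P.β h) U e y x) = cp (P.β h1) U e (dHs U B a b y) x +
      (-1 : ℤ) ^ a • cp (P.β h2) U e y (dHs U A a' b' x) := by
  apply sec_ext'
  intro σ
  rw [tf_add', tf_zsmul, tf_dHs, tf_cp, tf_cp, tf_cp, P.leib h h1 h2 _ (isAffineOpen_top_inf U hU e σ), B.d_res,
    A.d_res]
  rfl

/-- The pairing of the Čech double complexes. -/
noncomputable def dpr : Pr (dbl U B) (dbl U A) (dbl U E) where
  mu {_ _ _} h {_ _ e} _ := cpk (P.β h) U e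
  leibH {a a' c} h h1 h2 {b b' e} h' y x :=
    (leibH_cp P U hU h h1 h2 e y x).trans (congrArg₂ (fun s t : Co k U (E.M (c + 1)) e => s + t) rfl
      (zsmul_eq_ksmul (k := k) (N := Co k U (E.M (c + 1)) e) a _))
  leibV {a a' c} h {b b' e} h' h1 h2 y x :=
    (dd_cp (P.β h) U (show b' + b = e by omega) y x).trans (congrArg₂ (fun s t : Co k U (E.M c) (e + 1) => s + t) rfl
      (zsmul_eq_ksmul (k := k) (N := Co k U (E.M c) (e + 1)) b _))

end Pairing

end K854.PCx
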