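import Groth.Agent.DeRhamSh.K854.PCx

/-!
# Duality for the Čech hypercohomology of paired complexes on a proper scheme

`exists_perf`: perfectness of the pairing of the Čech double complexes, from a dualizing form `τ`.
-/

set_option autoImplicit false
universe u

open CategoryTheory CategoryTheory.Limits AlgebraicGeometry Opposite TopologicalSpace
open Groth.Agent Groth.Agent.LoccohB.GlueHom Groth.Agent.CurvesC Groth.Agent.CurvesC.RepX
open Groth.Agent.CurvesC.DualLin
open K854.CechMod K854.CechPair K854.DblPair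
open Groth.Agent.Lefpen.H278.SecSys (Sec)
open Groth.Agent.CohqB.HomSheaf (homSheaf comp)
open CategoryTheory.Abelian

attribute [local instance] HasDerivedCategory.standard LinMod.linearModules

namespace K854.PCx

noncomputable local instance (X : Scheme.{u}) : HasExt.{u + 1} X.Modules := HasExt.standard _

variable {k : Type u} [Field k] {X : Scheme.{u}} [X.Over (Spec (CommRingCat.of k))]

section

variable {ι : Type} [Finite ι] (U : ι → X.Opens)

omit [X.Over (Spec (CommRingCat.of k))] in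
theorem sec_eq_zero {M : X.Modules} (hM : IsZero M) {V : X.Opens} (s : Γ(M, V)) : s = 0 := by
  have h : 𝟙 M = 0 := hM.eq_of_src _ _
  have h1 : (𝟙 M : M ⟶ M).app V s = (0 : M ⟶ M).app V s := by rw [h]
  exact h1

omit [Finite ι] in
theorem isBd_iff (A : LCx k X) (a b : ℕ) (x : (dbl U A).C a b) :
    (dbl U A).IsBd a b x ↔ IsBd k U (A.M a) b x := by
  cases b <;> exact Iff.rfl

end

section

variable {B A E : LCx k X} (R : LPr B A E) {ι : Type} [Finite ι] (U : ι → X.Opens) (hcov : ⨆ i, U i = ⊤)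
  (hU : ∀ s : Finset ι, s.Nonempty → IsAffineOpen (⨅ i ∈ s, U i)) [X.IsSeparated]

omit [Finite ι] [X.IsSeparated] in
theorem bdd {d : ℕ} (hA : ∀ a, d < a → IsZero (A.M a)) : (dbl U A).Bdd d := by
  intro a b hab x
  apply sec_ext'
  intro σ
  exact sec_eq_zero (hA a hab) _

include hcov hU in
theorem van {d : ℕ} {W : X.Modules} (τ : (P X ⟶ (DCoh.inD X W)⟦(d : ℤ)⟧) →ₗ[k] k)
    (hτ : ∀ K : DCoh.D X, DCoh.IsQCohD K → Function.Bijective (pairing k X τ K)) (hA : ∀ a, Coh.IsQCoh (A.M a)) :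
    (dbl U A).Van d := by
  intro a b hb x hx
  exact isBd_of_lt k U hcov hU (Nat.lt_succ_of_le hb) τ hτ (hA a) ⟨x, hx⟩

/-- The top differential is zero on the top cohomology, in Čech form. -/
def TopZero (E : LCx k X) (d : ℕ) : Prop :=
  ∀ e : ℕ, d = e + 1 → ∀ x : Co k U (E.M e) d, dk k U (E.M e) d x = 0 → IsBd k U (E.M (e + 1)) d (dH U E e d x)

include hcov hU in
/-- **Perfectness.** -/
theorem nonempty_perf {d : ℕ} (τ : (P X ⟶ (DCoh.inD X (E.M d))⟦(d : ℤ)⟧) →ₗ[k] k)
    (hτ : ∀ K : DCoh.D X, DCoh.IsQCohD K → Function.Bijective (pairing k X τ K))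
    (hB : ∀ b, FlatMod.IsFinLocFree (B.M b)) (hA : ∀ a, Coh.IsQCoh (A.M a)) (hE : ∀ a, Coh.IsQCoh (E.M a))
    (hB' : ∀ b, d < b → IsZero (B.M b)) (hA' : ∀ a, d < a → IsZero (A.M a)) (hE' : ∀ a, d < a → IsZero (E.M a))
    (hβ : ∀ {b a : ℕ} (h : b + a = d), IsIso (R.β h)) (htop : TopZero U E d) :
    Nonempty (Perf (dpr R U hU) d) := by
  have hBq : ∀ b, Coh.IsQCoh (B.M b) := fun b => Ega2.QCohLocal.isQCoh_of_isFinLocFree (hB b)
  refine ⟨{
    bddA := bdd U hA'
    bddB := bdd U hB'
    bddE := bdd U hE'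
    vanA := van U hcov hU τ hτ hA
    vanB := van U hcov hU τ hτ hBq
    vanE := van U hcov hU τ hτ hE
    tr := tr k U hcov τ
    tr_bd := fun z hz => tr_eq_zero k U hcov hU τ (hE d) z ((isBd_iff U E d d z.1).mp hz)
    tr_dH := ?_
    inj := ?_
    surj := ?_ }⟩
  · intro e he x hx z hz
    subst he
    have h1 : z.1 = dH U E e (e + 1) x := by
      have := congrArg ((dbl U E).co (e + 1) (e + 1)) hz
      rw [Dbl.co_io, Dbl.co_io] at this
      exact this
    refine tr_eq_zero k U hcov hU τ (hE (e + 1)) z ?_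
    rw [h1]
    exact htop e rfl x hx
  · intro p q m n h h' x H
    obtain rfl : d = m + n := by omega
    have hi := hβ h
    let g := Th U (R.β h) m x.1
    have hg : g ≫ dd U (E.M (m + n)) m = 0 := by
      refine (Th_dd U (R.β h) m x.1).symm.trans ?_
      have hx : (dd U (A.M p) m).app ⊤ x.1 = 0 := x.2
      rw [hx]
      exact Th_zero U (R.β h) (m + 1)
    have hb := dual_injective k U hcov hU τ hτ (hB q) (hE (m + n)) g hg (fun s => H s)
    cases m with
    | zero =>
      have hb' : Th U (R.β h) 0 x.1 = 0 := hb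
      rw [← Th_zero U (R.β h) 0] at hb'
      exact Th_injective U (R.β h) 0 hb'
    | succ m =>
      obtain ⟨g', hg'⟩ := hb
      obtain ⟨w, rfl⟩ := Th_surjective U (R.β h) m g'
      rw [← Th_dd] at hg'
      exact ⟨w, Th_injective U (R.β h) (m + 1) hg'⟩
  · intro p q m n h h' l hl
    obtain rfl : d = m + n := by omega
    have hi := hβ h
    obtain ⟨g, hg, hgl⟩ := dual_surjective k U hcov hU τ hτ (hB q) (hE (m + n)) l
      (fun s hs => hl s ((isBd_iff U B q n s.1).mpr hs))
    obtain ⟨x, rfl⟩ := Th_surjective U (R.β h) m g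
    refine ⟨⟨x, ?_⟩, fun y => hgl y⟩
    rw [← Th_dd, ← Th_zero U (R.β h) (m + 1)] at hg
    exact Th_injective U (R.β h) (m + 1) hg

end

end K854.PCx
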