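import Groth.Agent.DeRhamSh.K854.FracTop
import Groth.Agent.DeRhamSh.K853.EtCoord
import Groth.Agent.DeRhamSh.K853.Terms

/-!
# Neighbourhoods of a section with coordinates generating its ideal

* `exists_elt`: algebra;
* `exists_nbhd`: `s` a section of a smooth scheme over `Spec A` with image in an affine open `V` with étale
  coordinates `x_i`; on some affine open `W ≤ V` containing the image the ideal of the section is generated by
  `z_i = x_i - σ(x_i)`;
* `exists_mem_basicOpen`: the section is the zero locus of the `z_i` in `W`.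
-/

set_option autoImplicit false
universe u

open CategoryTheory CategoryTheory.Limits AlgebraicGeometry Opposite TopologicalSpace

namespace K854.SecNbhd

section Alg

variable {A B : Type*} [CommRing A] [CommRing B] [Algebra A B]

/-- A section of an algebra whose differentials are generated by `dx_i`: up to localization the kernel is generated by
`x_i - σ(x_i)`. -/
theorem exists_elt {n : ℕ} (x : Fin n → B)
    (hspan : ⊤ ≤ Submodule.span B (Set.range fun i => KaehlerDifferential.D A B (x i))) (σ : B →ₐ[A] A)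
    (hfg : (RingHom.ker σ).FG) :
    ∃ g : B, σ g = 1 ∧ ∀ b ∈ RingHom.ker σ, g * b ∈ Ideal.span (Set.range fun i => x i - algebraMap A B (σ (x i))) := by
  let I : Ideal B := RingHom.ker σ
  let J : Ideal B := Ideal.span (Set.range fun i => x i - algebraMap A B (σ (x i))) ⊔ I * I
  have hsub : ∀ b : B, b - algebraMap A B (σ b) ∈ I := fun b => by
    change σ _ = 0
    rw [map_sub, σ.commutes, Algebra.algebraMap_self, RingHom.id_apply, sub_self]
  let δ : Derivation A B (B ⧸ J) := Derivation.mk'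
    { toFun := fun b => Ideal.Quotient.mk J (b - algebraMap A B (σ b))
      map_add' := fun b c => by
        rw [← map_add]
        congr 1
        rw [map_add, map_add]
        ring
      map_smul' := fun a b => by
        rw [RingHom.id_apply, map_smul, smul_eq_mul, map_mul, Algebra.smul_def a b, ← mul_sub, map_mul,
          Algebra.smul_def a]
        rfl }
    (fun b c => by
      change Ideal.Quotient.mk J _ = b • Ideal.Quotient.mk J _ + c • Ideal.Quotient.mk J _
      rw [Algebra.smul_def, Algebra.smul_def]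
      change Ideal.Quotient.mk J _ = Ideal.Quotient.mk J b * Ideal.Quotient.mk J _ +
        Ideal.Quotient.mk J c * Ideal.Quotient.mk J _
      rw [← map_mul, ← map_mul, ← map_add, Ideal.Quotient.eq, map_mul, map_mul]
      have h : (b - algebraMap A B (σ b)) * (c - algebraMap A B (σ c)) ∈ J :=
        Ideal.mem_sup_right (Ideal.mul_mem_mul (hsub b) (hsub c))
      have h2 := J.neg_mem h
      convert h2 using 1
      ring)
  have hδx : ∀ i, δ (x i) = 0 := fun i => by
    change Ideal.Quotient.mk J _ = 0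
    rw [Ideal.Quotient.eq_zero_iff_mem]
    exact Ideal.mem_sup_left (Ideal.subset_span ⟨i, rfl⟩)
  have hlift : ∀ w : Ω[B⁄A], δ.liftKaehlerDifferential w = 0 := by
    intro w
    have hw := hspan (show w ∈ ⊤ from trivial)
    induction hw using Submodule.span_induction with
    | mem w hw =>
      obtain ⟨i, rfl⟩ := hw
      rw [Derivation.liftKaehlerDifferential_comp_D, hδx]
    | zero => rw [map_zero]
    | add a b _ _ ha hb => rw [map_add, ha, hb, add_zero]
    | smul r a _ ha => rw [map_smul, ha, smul_zero]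
  have hI : I ≤ Ideal.span (Set.range fun i => x i - algebraMap A B (σ (x i))) ⊔ I • I := by
    intro b hb
    have h1 : δ b = 0 := by rw [← Derivation.liftKaehlerDifferential_comp_D, hlift]
    have h2 : Ideal.Quotient.mk J (b - algebraMap A B (σ b)) = 0 := h1
    rw [Ideal.Quotient.eq_zero_iff_mem] at h2
    have hb' : σ b = 0 := hb
    rw [hb', map_zero, sub_zero] at h2
    exact h2
  obtain ⟨r, hr1, hr2⟩ := Submodule.exists_sub_one_mem_and_smul_le_of_fg_of_le_sup (I := I) (N' := I) (P := I) hfg le_rfl hI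
  refine ⟨r, ?_, fun b hb => hr2 (Submodule.smul_mem_pointwise_smul b r I hb)⟩
  have h3 : σ (r - 1) = 0 := hr1
  rwa [map_sub, map_one, sub_eq_zero] at h3

/-- The localized form. -/
theorem sub_mem_span {n : ℕ} (z : Fin n → B) (σ : B →ₐ[A] A) {g : B} (hg : σ g = 1)
    (hg2 : ∀ b ∈ RingHom.ker σ, g * b ∈ Ideal.span (Set.range z)) {B' : Type*} [CommRing B'] [Algebra B B']
    [IsLocalization.Away g B'] (σ' : B' →+* A) (hσ' : ∀ b, σ' (algebraMap B B' b) = σ b) (r : B') :
    r - algebraMap B B' (algebraMap A B (σ' r)) ∈ Ideal.span (Set.range fun i => algebraMap B B' (z i)) := by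
  have hgu : IsUnit (algebraMap B B' g) := IsLocalization.Away.algebraMap_isUnit g
  obtain ⟨k, b, hb⟩ := IsLocalization.Away.surj g r
  have h1 : σ' r = σ b := by
    have h := congrArg σ' hb
    rwa [map_mul, map_pow, hσ', hσ', hg, one_pow, mul_one] at h
  have h2 : b - algebraMap A B (σ b) * g ^ k ∈ RingHom.ker σ := by
    change σ _ = 0
    rw [map_sub, map_mul, map_pow, hg, one_pow, mul_one, σ.commutes, Algebra.algebraMap_self, RingHom.id_apply, sub_self]
  have h3 := Ideal.mem_map_of_mem (algebraMap B B') (hg2 _ h2)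
  rw [Ideal.map_span, ← Set.range_comp] at h3
  have h4 : algebraMap B B' (g * (b - algebraMap A B (σ b) * g ^ k)) =
      algebraMap B B' g ^ (k + 1) * (r - algebraMap B B' (algebraMap A B (σ' r))) := by
    rw [map_mul, map_sub, map_mul, map_pow, ← hb, h1]
    ring
  rw [h4] at h3
  exact (Ideal.unit_mul_mem_iff_mem _ (hgu.pow _)).mp h3

end Alg

section Geo

variable {A : Type u} [CommRing A] {X : Scheme.{u}} (f : X ⟶ Spec (CommRingCat.of A))
  (s : Spec (CommRingCat.of A) ⟶ X)

open Groth.Agent Groth.Agent.LoccohB.GlueHom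
open Groth.Agent.CurvesB.OmegaStalkDict (secHom)
open Groth.Agent.Ega2.BasSec (IsBas)

/-- The value of a function along the section. -/
noncomputable def ev (V : X.Opens) (hV : ⊤ ≤ s ⁻¹ᵁ V) : Γ(X, V) →+* A :=
  (Scheme.ΓSpecIso (CommRingCat.of A)).hom.hom.comp (s.appLE V ⊤ hV).hom

theorem ev_res {V W : X.Opens} (hW : ⊤ ≤ s ⁻¹ᵁ W) (h : W ≤ V) (b : Γ(X, V)) :
    ev s W hW (resO h b) = ev s V (hW.trans (s.preimage_mono h)) b := by
  have h1 : X.presheaf.map (homOfLE h).op ≫ s.appLE W ⊤ hW = s.appLE V ⊤ (hW.trans (s.preimage_mono h)) :=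
    Scheme.Hom.map_appLE _ _ _
  exact congrArg (Scheme.ΓSpecIso (CommRingCat.of A)).hom.hom (ConcreteCategory.congr_hom h1 b)

variable {f s}

theorem ev_str (hs : s ≫ f = 𝟙 _) (V : X.Opens) (hV : ⊤ ≤ s ⁻¹ᵁ V) (a : A) :
    ev s V hV (K184.Const.str f V a) = a := by
  have e : V ≤ f ⁻¹ᵁ ⊤ := le_top
  have h1 : f.appLE ⊤ V e ≫ s.appLE V ⊤ hV = 𝟙 _ := by
    rw [Scheme.Hom.appLE_comp_appLE]
    have h0 : ∀ (g : Spec (CommRingCat.of A) ⟶ Spec (CommRingCat.of A)) (_ : g = 𝟙 _) (h : ⊤ ≤ g ⁻¹ᵁ ⊤),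
        g.appLE ⊤ ⊤ h = 𝟙 _ := by
      rintro _ rfl h
      exact (Scheme.Hom.app_eq_appLE (𝟙 (Spec (CommRingCat.of A))) (U := ⊤)).symm.trans (Scheme.Hom.id_app _)
    exact h0 _ hs _
  have h2 := ConcreteCategory.congr_hom h1 ((Scheme.ΓSpecIso (CommRingCat.of A)).inv.hom a)
  have h3 := congrArg (Scheme.ΓSpecIso (CommRingCat.of A)).hom.hom h2
  refine h3.trans ?_
  exact ConcreteCategory.congr_hom (Scheme.ΓSpecIso (CommRingCat.of A)).inv_hom_id a

/-- The points of an affine open on the section are those where the functions vanishing along it vanish. -/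
theorem mem_range {W : X.Opens} (hW : IsAffineOpen W) (hsW : ⊤ ≤ s ⁻¹ᵁ W) (hsurj : Function.Surjective (ev s W hsW))
    {p : X} (hp : p ∈ W) (h : ∀ r : Γ(X, W), ev s W hsW r = 0 → p ∉ X.basicOpen r) : p ∈ Set.range s := by
  have h1 : p ∈ Set.range hW.fromSpec := by
    rw [hW.range_fromSpec]
    exact hp
  obtain ⟨q, rfl⟩ := h1
  have h2 : q ∈ PrimeSpectrum.zeroLocus ((RingHom.ker (ev s W hsW) : Ideal Γ(X, W)) : Set Γ(X, W)) := by
    intro r hr
    by_contra hrq
    refine h r hr ?_
    have h3 : q ∈ hW.fromSpec ⁻¹ᵁ X.basicOpen r := by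
      rw [hW.fromSpec_preimage_basicOpen r]
      exact hrq
    exact h3
  rw [← range_comap_of_surjective _ (ev s W hsW) hsurj] at h2
  obtain ⟨t, rfl⟩ := h2
  have h3 : Spec.map (CommRingCat.ofHom (ev s W hsW)) ≫ hW.fromSpec = s := by
    have h4 : CommRingCat.ofHom (ev s W hsW) = s.appLE W ⊤ hsW ≫ (Scheme.ΓSpecIso (CommRingCat.of A)).hom := rfl
    rw [h4, Spec.map_comp, Category.assoc, hW.SpecMap_appLE_fromSpec s (isAffineOpen_top _) hsW,
      IsAffineOpen.fromSpec_top, ← Category.assoc]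
    have h5 : Spec.map (Scheme.ΓSpecIso (CommRingCat.of A)).hom ≫ (Spec (CommRingCat.of A)).isoSpec.inv = 𝟙 _ := by
      rw [Iso.comp_inv_eq, Category.id_comp, Scheme.isoSpec_Spec_hom]
    rw [h5, Category.id_comp]
  exact ⟨t, (congrArg (fun g : Spec (CommRingCat.of A) ⟶ X => g t) h3).symm⟩

/-- The value along the section vanishes iff the section avoids the basic open set. -/
theorem notMem_basicOpen {W : X.Opens} (hsW : ⊤ ≤ s ⁻¹ᵁ W) {r : Γ(X, W)} (hr : ev s W hsW r = 0)
    (t : Spec (CommRingCat.of A)) : s t ∉ X.basicOpen r := by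
  intro h
  have h1 : s.appLE W ⊤ hsW r = 0 := by
    have h2 := congrArg (Scheme.ΓSpecIso (CommRingCat.of A)).inv.hom hr
    rw [map_zero] at h2
    refine Eq.trans ?_ h2
    exact (ConcreteCategory.congr_hom (Scheme.ΓSpecIso (CommRingCat.of A)).hom_inv_id (s.appLE W ⊤ hsW r)).symm
  have h3 : t ∈ (Spec (CommRingCat.of A)).basicOpen (s.appLE W ⊤ hsW r) := by
    rw [Scheme.basicOpen_appLE]
    exact ⟨trivial, h⟩
  rw [h1, Scheme.basicOpen_zero] at h3
  exact h3

variable (f s) in
/-- The translated coordinates. -/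
noncomputable def zc {n : ℕ} (V : X.Opens) (hV : ⊤ ≤ s ⁻¹ᵁ V) (x : Fin n → Γ(X, V)) (i : Fin n) : Γ(X, V) :=
  x i - K184.Const.str f V (ev s V hV (x i))

/-- **The neighbourhood of the section.** -/
theorem exists_nbhd [QuasiSeparated f] [Smooth f] (hs : s ≫ f = 𝟙 _) {n : ℕ} {V : X.Opens} (hV : IsAffineOpen V)
    (hsV : ⊤ ≤ s ⁻¹ᵁ V) {x : Fin n → Γ(X, V)} (hx : K853.EtCoord.IsCoord f V x) :
    ∃ (W : X.Opens) (_ : IsAffineOpen W) (hWV : W ≤ V) (hsW : ⊤ ≤ s ⁻¹ᵁ W),
      IsBas (M := Omega.sheaf f) (fun i => (OmegaSh.dOmega f).app W (resO hWV (zc f s V hsV x i))) ∧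
      ∀ r : Γ(X, W), r - secHom f W (ev s W hsW r) ∈
        Ideal.span (Set.range fun i => resO hWV (zc f s V hsV x i)) := by
  let iA := K184.Const.alg f V
  let σ : Γ(X, V) →ₐ[A] A := { ev s V hsV with commutes' := fun a => ev_str hs V hsV a }
  obtain ⟨b, hb⟩ := hx.exists_basis
  have hfp : Algebra.FinitePresentation A Γ(X, V) := by
    have h1 : (MvPolynomial.aeval x : MvPolynomial (Fin n) A →ₐ[A] Γ(X, V)).toRingHom.FinitePresentation :=
      (@Algebra.Etale.finitePresentation _ _ _ _ (RingHom.toAlgebra _) hx)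
    have h2 : (MvPolynomial.C : A →+* MvPolynomial (Fin n) A).FinitePresentation := by
      have h : Algebra.FinitePresentation A (MvPolynomial (Fin n) A) := inferInstance
      exact RingHom.finitePresentation_algebraMap.mpr h
    have h3 := h1.comp h2
    have h4 : (MvPolynomial.aeval x : MvPolynomial (Fin n) A →ₐ[A] Γ(X, V)).toRingHom.comp MvPolynomial.C =
        algebraMap A Γ(X, V) := RingHom.ext fun a => MvPolynomial.aeval_C x a
    rw [h4] at h3
    exact h3
  have hσs : Function.Surjective σ := fun a => ⟨algebraMap A Γ(X, V) a, σ.commutes a⟩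
  have hfg : (RingHom.ker σ).FG := Algebra.FinitePresentation.ker_fG_of_surjective σ hσs
  obtain ⟨g, hg, hg2⟩ := exists_elt x (by
    rw [← b.span_eq]
    refine Submodule.span_mono ?_
    rintro _ ⟨i, rfl⟩
    exact ⟨i, (hb i).symm⟩) σ hfg
  have hWV : X.basicOpen g ≤ V := X.basicOpen_le g
  have hsW : ⊤ ≤ s ⁻¹ᵁ X.basicOpen g := by
    have h1 : IsUnit (s.appLE V ⊤ hsV g) := by
      have h2 : s.appLE V ⊤ hsV g = 1 := by
        have h3 := congrArg (Scheme.ΓSpecIso (CommRingCat.of A)).inv.hom hg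
        rw [map_one] at h3
        refine Eq.trans ?_ h3
        exact (ConcreteCategory.congr_hom (Scheme.ΓSpecIso (CommRingCat.of A)).hom_inv_id (s.appLE V ⊤ hsV g)).symm
      rw [h2]
      exact isUnit_one
    have h4 := Scheme.basicOpen_of_isUnit _ h1
    rw [Scheme.basicOpen_appLE] at h4
    rw [← h4]
    exact inf_le_right
  refine ⟨X.basicOpen g, hV.basicOpen g, hWV, hsW, ?_, ?_⟩
  · have hx' := hx.res hV (hV.basicOpen g) hWV
    obtain ⟨b', hb'⟩ := hx'.exists_basis_omega (hV.basicOpen g)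
    refine Ega2.BasSec.isBas_of_bijective (Groth.Agent.CurvesB.OmegaStalkDict.isQCoh_omega f) (hV.basicOpen g)
      ((Ega2.BasSec.comb_bijective_iff _).mpr ⟨b', ?_⟩)
    funext i
    rw [hb']
    have h1 : resO hWV (zc f s V hsV x i) = resO hWV (x i) - secHom f (X.basicOpen g) (ev s V hsV (x i)) := by
      rw [K853.EtCoord.secHom_eq]
      refine (map_sub (resO hWV) _ _).trans ?_
      exact congrArg (fun t => resO hWV (x i) - t) (K184.Const.res_str f hWV _)
    have h2 : (OmegaSh.dOmega f).app (X.basicOpen g) (resO hWV (x i) - secHom f (X.basicOpen g) (ev s V hsV (x i))) =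
        (OmegaSh.dOmega f).app (X.basicOpen g) (resO hWV (x i)) := by
      have h3 := map_sub (K205.Leib.derZ f (X.basicOpen g)) (resO hWV (x i))
        (secHom f (X.basicOpen g) (ev s V hsV (x i)))
      refine h3.trans ?_
      have h4 : K205.Leib.derZ f (X.basicOpen g) (secHom f (X.basicOpen g) (ev s V hsV (x i))) = 0 :=
        FracForm.dOmega_sc f (X.basicOpen g) _
      rw [h4, sub_zero]
      rfl
    exact ((congrArg ((OmegaSh.dOmega f).app (X.basicOpen g)) h1).trans h2).symm
  · intro r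
    have : IsLocalization.Away g Γ(X, X.basicOpen g) := hV.isLocalization_basicOpen g
    have h1 := sub_mem_span (B' := Γ(X, X.basicOpen g)) (zc f s V hsV x) σ hg hg2 (ev s (X.basicOpen g) hsW)
      (fun b => ev_res s hsW hWV b) r
    have h2 : secHom f (X.basicOpen g) (ev s (X.basicOpen g) hsW r) =
        algebraMap Γ(X, V) Γ(X, X.basicOpen g) (algebraMap A Γ(X, V) (ev s (X.basicOpen g) hsW r)) := by
      rw [K853.EtCoord.secHom_eq]
      exact (K184.Const.res_str f hWV _).symm
    rw [h2]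
    exact h1

theorem ev_zc (hs : s ≫ f = 𝟙 _) {n : ℕ} (V : X.Opens) (hV : ⊤ ≤ s ⁻¹ᵁ V) (x : Fin n → Γ(X, V)) (i : Fin n) :
    ev s V hV (zc f s V hV x i) = 0 := by
  unfold zc
  rw [map_sub, ev_str hs, sub_self]

theorem ev_surjective (hs : s ≫ f = 𝟙 _) (V : X.Opens) (hV : ⊤ ≤ s ⁻¹ᵁ V) : Function.Surjective (ev s V hV) :=
  fun a => ⟨K184.Const.str f V a, ev_str hs V hV a⟩

theorem isClosed_range [IsSeparated f] (hs : s ≫ f = 𝟙 _) : IsClosed (Set.range s) := by
  have h1 : IsClosedImmersion (s ≫ f) := by rw [hs]; infer_instance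
  have h2 : IsClosedImmersion s := IsClosedImmersion.of_comp s f
  exact s.isClosedEmbedding.isClosed_range

theorem appLE_eq_zero {W : X.Opens} (hsW : ⊤ ≤ s ⁻¹ᵁ W) {r : Γ(X, W)} (hr : ev s W hsW r = 0) :
    s.appLE W ⊤ hsW r = 0 := by
  have h2 := congrArg (Scheme.ΓSpecIso (CommRingCat.of A)).inv.hom hr
  rw [map_zero] at h2
  refine Eq.trans ?_ h2
  exact (ConcreteCategory.congr_hom (Scheme.ΓSpecIso (CommRingCat.of A)).hom_inv_id (s.appLE W ⊤ hsW r)).symm

/-- The section is the zero locus of the coordinates. -/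
theorem exists_mem_basicOpen (hs : s ≫ f = 𝟙 _) {n : ℕ} {W : X.Opens} (hW : IsAffineOpen W)
    (hsW : ⊤ ≤ s ⁻¹ᵁ W) (z : Fin n → Γ(X, W))
    (hR : ∀ r : Γ(X, W), r - secHom f W (ev s W hsW r) ∈ Ideal.span (Set.range z)) {p : X} (hp : p ∈ W)
    (hps : p ∉ Set.range s) : ∃ i, p ∈ X.basicOpen (z i) := by
  by_contra hn
  push Not at hn
  refine hps (mem_range hW hsW (ev_surjective hs W hsW) hp fun r hr hpr => ?_)
  have h2 : ∀ r' ∈ Ideal.span (Set.range z), p ∉ X.basicOpen r' := by
    intro r' hr'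
    induction hr' using Submodule.span_induction with
    | mem r' hr' =>
      obtain ⟨i, rfl⟩ := hr'
      exact hn i
    | zero =>
      rw [Scheme.basicOpen_zero]
      exact fun h => h
    | add a b _ _ ha hb =>
      intro h
      rcases (X.basicOpen_add_le a b h) with h | h
      · exact ha h
      · exact hb h
    | smul a b _ hb =>
      rw [smul_eq_mul, Scheme.basicOpen_mul]
      exact fun h => hb h.2
  refine h2 r ?_ hpr
  have h3 := hR r
  rwa [hr, map_zero, sub_zero] at h3

end Geo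

end K854.SecNbhd
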