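import Groth.Agent.Sga67.ExtAlg
import Mathlib.LinearAlgebra.ExteriorAlgebra.Basis

/-!
# Perfectness of the wedge pairing on a free module

`bijective_wedge_flip`: `M` free of rank `n = p + q`: `⋀^q M → Hom(⋀^p M, ⋀^n M)`, `x ↦ (m ↦ m ∧ x)`, is bijective.
-/

set_option autoImplicit false

open Module Groth.Agent.Sga67.ExtAlg

namespace K854.WedgePerf

variable {R M : Type*} [CommRing R] [AddCommGroup M] [Module R M] {I : Type*} [LinearOrder I] [Fintype I]
  (b : Basis I R M) {p q n : ℕ} (h : p + q = n) (hn : Fintype.card I = n)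

/-- The full index set. -/
def full (hn : Fintype.card I = n) : Set.powersetCard I n := ⟨Finset.univ, hn⟩

theorem eq_full (s : Set.powersetCard I n) : s = full hn := by
  apply Subtype.ext
  exact (Finset.card_eq_iff_eq_univ s.1).mp (s.2.trans hn.symm)

include h hn in
/-- The complementary index set. -/
theorem card_compl (t : Set.powersetCard I q) : (t.1ᶜ).card = p := by
  have := t.2
  rw [Set.powersetCard.mem_iff] at this
  rw [Finset.card_compl, hn, this]
  omega

/-- The complement. -/
def cp (t : Set.powersetCard I q) : Set.powersetCard I p := ⟨t.1ᶜ, card_compl h hn t⟩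

include h hn in
theorem eq_cp {s : Set.powersetCard I p} {t : Set.powersetCard I q} (hd : Disjoint s.1 t.1) : s = cp h hn t := by
  apply Subtype.ext
  change s.1 = t.1ᶜ
  refine Finset.eq_of_subset_of_card_le (fun i hi => ?_) ?_
  · rw [Finset.mem_compl]
    exact fun hi' => Finset.disjoint_left.mp hd hi hi'
  · rw [card_compl h hn t]
    exact s.2.ge

theorem wedge_eq_zero {s : Set.powersetCard I p} {t : Set.powersetCard I q} (hst : s ≠ cp h hn t) :
    wedge h (b.exteriorPower p s) (b.exteriorPower q t) = 0 := by
  apply Subtype.ext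
  rw [coe_wedge, ← ExteriorAlgebra.basis_eq_coe_basis, ← ExteriorAlgebra.basis_eq_coe_basis]
  exact ExteriorAlgebra.basis_mul_of_not_disjoint b s t fun hd => hst (eq_cp h hn hd)

theorem exists_sign (t : Set.powersetCard I q) : ∃ u : ℤˣ,
    wedge h (b.exteriorPower p (cp h hn t)) (b.exteriorPower q t) = (u : ℤ) • b.exteriorPower n (full hn) := by
  subst h
  have hd : Disjoint (cp (h := rfl) hn t).1 t.1 := by
    change Disjoint t.1ᶜ t.1
    exact disjoint_compl_left
  refine ⟨(Set.powersetCard.permOfDisjoint hd).sign, ?_⟩
  apply Subtype.ext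
  have h1 := ExteriorAlgebra.basis_mul_of_disjoint b (cp (h := rfl) hn t) t hd
  rw [coe_wedge, ← ExteriorAlgebra.basis_eq_coe_basis, ← ExteriorAlgebra.basis_eq_coe_basis, h1]
  have h2 : Set.powersetCard.disjUnion hd = full hn := eq_full hn _
  rw [h2, ExteriorAlgebra.basis_eq_coe_basis]
  rfl

/-- The coordinate on the top exterior power. -/
noncomputable def top : (⋀[R]^n M) →ₗ[R] R := (b.exteriorPower n).coord (full hn)

theorem top_ext {x y : ⋀[R]^n M} (hxy : top b hn x = top b hn y) : x = y := by
  apply (b.exteriorPower n).ext_elem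
  intro i
  rw [eq_full hn i]
  exact hxy

theorem top_wedge (t : Set.powersetCard I q) : ∃ u : R, IsUnit u ∧ ∀ x : ⋀[R]^q M,
    top b hn (wedge h (b.exteriorPower p (cp h hn t)) x) = u * (b.exteriorPower q).coord t x := by
  obtain ⟨u, hu⟩ := exists_sign b h hn t
  refine ⟨((u : ℤ) : R), (Units.map (Int.castRingHom R).toMonoidHom u).isUnit, fun x => ?_⟩
  have key : (top b hn) ∘ₗ (wedge h (b.exteriorPower p (cp h hn t))) =
      ((u : ℤ) : R) • (b.exteriorPower q).coord t := by
    apply (b.exteriorPower q).ext
    intro t'
    rw [LinearMap.comp_apply, LinearMap.smul_apply, Basis.coord_apply, Basis.repr_self, smul_eq_mul]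
    by_cases htt : t' = t
    · subst htt
      rw [hu, map_zsmul, Finsupp.single_eq_same, mul_one, top, Basis.coord_apply, Basis.repr_self,
        Finsupp.single_eq_same, zsmul_one]
    · rw [wedge_eq_zero b h hn, map_zero, Finsupp.single_eq_of_ne (Ne.symm htt), mul_zero]
      intro hc
      apply htt
      apply Subtype.ext
      have h1 : t.1ᶜ = t'.1ᶜ := congrArg Subtype.val hc
      exact (compl_injective h1).symm
  exact LinearMap.congr_fun key x

include b hn in
/-- **Perfectness.** -/
theorem bijective_wedge_flip : Function.Bijective (wedge (R := R) (M := M) h).flip := by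
  choose u hu hu' using top_wedge b h hn
  constructor
  · intro x y hxy
    apply (b.exteriorPower q).ext_elem
    intro t
    have h1 := congrArg (top b hn) (LinearMap.congr_fun hxy (b.exteriorPower p (cp h hn t)))
    rw [LinearMap.flip_apply, LinearMap.flip_apply, hu', hu'] at h1
    exact (hu t).mul_left_cancel h1
  · intro g
    choose v hv using fun t => (hu t).exists_right_inv
    have : Finite (Set.powersetCard I q) := Subtype.finite
    let x : ⋀[R]^q M := (b.exteriorPower q).repr.symm (Finsupp.equivFunOnFinite.symm fun t =>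
      v t * top b hn (g (b.exteriorPower p (cp h hn t))))
    refine ⟨x, ?_⟩
    apply (b.exteriorPower p).ext
    intro s
    have h' : q + p = n := by omega
    have hs : s = cp h hn (cp h' hn s) := by
      apply Subtype.ext
      change s.1 = s.1ᶜᶜ
      rw [compl_compl]
    rw [hs]
    apply top_ext b hn
    rw [LinearMap.flip_apply, hu']
    have h1 : (b.exteriorPower q).coord (cp h' hn s) x =
      v (cp h' hn s) * top b hn (g (b.exteriorPower p (cp h hn (cp h' hn s)))) := by
      rw [Basis.coord_apply, LinearEquiv.apply_symm_apply]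
      rfl
    rw [h1, ← mul_assoc, hv, one_mul]

end K854.WedgePerf
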